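import Cfsg.Agent.H454.Reg.Alt.Affine_m3
import Cfsg.Agent.H975.Cov.Num
import Cfsg.Agent.S5835
import Cfsg.Agent.S2119
import Cfsg.Agent.S0813
import Cfsg.Agent.H803.Rl.Big_m3
import Cfsg.Agent.H826.RgF.Defs_m3
import Cfsg.Agent.H922.OmKill
import Cfsg.Agent.H951.Rl.BigN
import Cfsg.Agent.H163.PG.PslAut
import Cfsg.Agent.H481.TBound
import Cfsg.Agent.H386.Rg.AlphaA_m3
import Cfsg.Agent.H997.Rg.Core_m3
import Cfsg.Agent.H563.KG.Elim_m3
import Cfsg.Agent.H190.Cov.Two.Rad3c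
import Cfsg.Agent.H56.Exc.Auto_m3
import Cfsg.Agent.H190.Cov.K128_m3
import Cfsg.Agent.H946.DtNamed_mg
import Mathlib
import Cfsg.Agent.H363.DQ.BigChar
import Cfsg.Agent.H325.Same.ExcPairE_m3
import Cfsg.Agent.H902.Zs_m3
import Cfsg.Agent.H902.AltLie
import Cfsg.Agent.H946.KZ.Gap
import Cfsg.Agent.H325.Same.ExcPair8_m3
import Cfsg.Agent.H325.Cov.KE7_m3
import Cfsg.Agent.H325.Cov.KE7e
import Cfsg.Agent.FastGrp
import Cfsg.Agent.Prune
set_option linter.all false

section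
prune_inst 0x7fffe9fcfbb8a7dfdfff7e7fa6dccffc3b909fffa4dff94bffe061ff8fdf031409c5fbad0de050fe0ed6c03410a87843fb7eeeffe26fdc7ffffd5ff41ffbee1ff5f7b50811d588340f3c2fff03f0778e7f3fffffffffffffffffffffffffffbeffbfffffffff

-- part: H449/Reg/NineB
section
prune_inst 0x1601000258002000000058211003c42f6000080002b0000800002000e80a50300000f20b29001020020808440380048110000800000000020000400000000a0808256002254ac0c34000f800800000000000000000000000000000000000000000000000
set_option linter.all false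
open scoped Cfsg.Agent.FastGrp

-- part: H449/Reg/NineA
section
/-!
# S3691, section 5: `Ω_9(q)`: maximal subgroups containing elements of large primitive order (helper449)
-/

set_option autoImplicit false
set_option linter.unusedSectionVars false

namespace Cfsg.Agent.H449.Reg

open Module QuadraticMap Cfsg Cfsg.Geo Cfsg.Agent.LieClassical.OrthCore Cfsg.Agent.LieClassical.OrthTrans
  Cfsg.Agent.H454.Reg Cfsg.Agent.H884.El Cfsg.Agent.H955 Cfsg.Agent.H954.TSing Cfsg.Agent.H193.Dg Cfsg.Agent.H851.Dg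
open Cfsg.Agent.LieClassical.OrthForms (oddForm coe_oddForm)
open Cfsg.Agent.H951 (fx cm Inv)
open Cfsg.Agent.H278.Cov (Red Ext)
open scoped MatrixGroups Matrix

universe u v

section decomp

variable {ι : Type} [Fintype ι] [DecidableEq ι] {F : Type u} [Field F] [Fintype F] {Q : QuadraticForm F (ι → F)}

/-- elements of prime power order of the stabiliser of a decomposition -/
theorem decomp_pow {t k : ℕ} {D : Fin t → Submodule F (ι → F)} (hD : IsMDecomposition k D) {g : GL ι F}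
    (hg : g ∈ decompositionStabilizer D) (hgQ : g ∈ Cfsg.isometryGroup F (⇑Q)) {d r a : ℕ} (hr : PP (Nat.card F) d r)
    (hd : 2 ≤ d) (hk : k < d) (ha : a ≠ 0) (ho : orderOf g = r ^ a) : r ^ a ≤ t := by
  classical
  obtain ⟨b, rfl⟩ := Nat.exists_eq_succ_of_ne_zero ha
  obtain ⟨σ, hσ⟩ := hg
  have hinj : Function.Injective D := by
    intro i j hij
    by_contra hne
    have h1 := hD.indep.pairwiseDisjoint hne
    have h2 : D i = ⊥ := by
      have h3 : Disjoint (D i) (D j) := h1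
      rw [← hij, disjoint_self] at h3
      exact h3
    have h3 := hD.finrank_eq i
    rw [h2, finrank_bot] at h3
    have := hD.pos
    omega
  have hpow : ∀ (k : ℕ) (i : Fin t), (D i).map (Matrix.toLin' ((g ^ k : GL ι F) : Matrix ι ι F)) = D ((σ ^ k) i) := by
    intro k
    induction k with
    | zero =>
      intro i
      simp only [_root_.pow_zero, _root_.Units.val_one, _root_.Matrix.toLin'_one, _root_.Submodule.map_id, _root_.Equiv.Perm.coe_one, _root_.id_eq]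
    | succ k ih =>
      intro i
      rw [pow_succ', Units.val_mul, Matrix.toLin'_mul, Submodule.map_comp, ih, hσ, pow_succ']
      rfl
  -- the element of order `r`
  set h := g ^ r ^ b with hh
  have hr0 : 0 < r := hr.prime.pos
  have hoh : orderOf h = r := by
    rw [hh, orderOf_pow_of_dvd (pow_ne_zero _ hr0.ne') (by rw [ho]; exact pow_dvd_pow r (Nat.le_succ b)), ho,
      Nat.pow_div (Nat.le_succ b) hr0, Nat.succ_sub (le_refl b), Nat.sub_self, pow_one]
  have hh1 : h ≠ 1 := by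
    intro h1
    rw [h1, orderOf_one] at hoh
    exact hr.prime.one_lt.ne hoh
  have hhQ : h ∈ Cfsg.isometryGroup F (⇑Q) := Subgroup.pow_mem _ hgQ _
  have hiso : Iso Q (lin h) r := Iso.mk' hr hd (by rw [← H251.GeoCard.toLin_pow, ← hoh, pow_orderOf_eq_one]; exact lin_one)
    (lin_iso (H := Cfsg.isometryGroup F (⇑Q)) le_rfl hhQ)
  by_cases hσ1 : σ ^ r ^ b = 1
  · exfalso
    apply hh1
    have h2 : ∀ i, D i ≤ fx (lin h) := by
      intro i
      apply hiso.le_fx hr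
      · intro w hw
        have h3 : (D i).map (lin h) = D i := by
          have := hpow (r ^ b) i
          rw [hσ1] at this
          exact this
        rw [← h3]
        exact ⟨w, hw, rfl⟩
      · rw [hD.finrank_eq]; exact hk
    have h3 : (⊤ : Submodule F (ι → F)) ≤ fx (lin h) := by
      rw [← hD.iSup_eq_top]
      exact iSup_le h2
    apply lin_injective
    rw [lin_one]
    apply LinearMap.ext
    intro v
    have h4 : v ∈ fx (lin h) := h3 trivial
    exact H951.mem_fx.1 h4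
  · obtain ⟨i, hi⟩ : ∃ i, (σ ^ r ^ b) i ≠ i := by
      by_contra hcon
      push Not at hcon
      exact hσ1 (Equiv.ext hcon)
    have h5 : (σ ^ r ^ (b + 1)) i = i := by
      apply hinj
      rw [← hpow, ← ho, pow_orderOf_eq_one]
      simp
    have h6 : Function.minimalPeriod (fun x => σ • x) i = r ^ (b + 1) := by
      have := Fact.mk hr.prime
      apply Function.minimalPeriod_eq_prime_pow
      · intro h7
        apply hi
        have h8 : (fun x => σ • x)^[r ^ b] i = i := h7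
        rw [smul_iterate] at h8
        exact h8
      · have h8 : (fun x => σ • x)^[r ^ (b + 1)] i = i := by
          rw [smul_iterate]; exact h5
        exact h8
    rw [Nat.succ_eq_add_one, ← h6, MulAction.minimalPeriod_eq_card]
    calc Fintype.card (MulAction.orbit (Subgroup.zpowers σ) i) ≤ Fintype.card (Fin t) := Fintype.card_le_of_injective _ Subtype.val_injective
      _ = t := Fintype.card_fin t

end decomp

end Cfsg.Agent.H449.Reg
end

-- part: H449/Reg/Nine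
section
/-!
# S3691, section 5: `Ω_9(q)`: maximal subgroups containing elements of large primitive order (helper449)
-/

set_option autoImplicit false
set_option linter.unusedSectionVars false

namespace Cfsg.Agent.H449.Reg

open Module QuadraticMap Cfsg Cfsg.Geo Cfsg.Agent.LieClassical.OrthCore Cfsg.Agent.LieClassical.OrthTrans
  Cfsg.Agent.H454.Reg Cfsg.Agent.H884.El Cfsg.Agent.H955 Cfsg.Agent.H954.TSing Cfsg.Agent.H193.Dg Cfsg.Agent.H851.Dg
open Cfsg.Agent.LieClassical.OrthForms (oddForm coe_oddForm)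
open Cfsg.Agent.H951 (fx cm Inv)
open Cfsg.Agent.H278.Cov (Red Ext)
open scoped MatrixGroups Matrix

universe u v

/-- the text of `S5836` for fields in `Type` -/
def S5836Stmt : Prop := ∀ {F : Type} [Field F] [Fintype F] (_hodd : Odd (Fintype.card F)) (H : Subgroup (Matrix.GeneralLinearGroup (Unit ⊕ (Fin 4 ⊕ Fin 4)) F)) (_hH : Cfsg.Geo.IsMaximalIn (Cfsg.Geo.omegaGL (Cfsg.quadFormOdd 4 F)) H) (_hS : Cfsg.Geo.InOrthogonalResidualClass H),
    ∃ (P : Subgroup (Matrix.GeneralLinearGroup (Unit ⊕ (Fin 4 ⊕ Fin 4)) F)) (p : ℕ), Cfsg.Geo.IsResidualCore H P ∧ p.Prime ∧ CharP F p ∧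
    (((∃ (K : Type) (_ : Field K) (_ : Fintype K), Fintype.card K = 8 ∧ Nonempty ((P ⧸ (Cfsg.Geo.scalars (Unit ⊕ (Fin 4 ⊕ Fin 4)) F).subgroupOf P) ≃* Matrix.ProjectiveSpecialLinearGroup (Fin 2) K)) ∧ ((Fintype.card F = p ∧ (p % 7 = 1 ∨ p % 7 = 6)) ∨ (Fintype.card F = p ^ 3 ∧ (p % 7 = 2 ∨ p % 7 = 5 ∨ p % 7 = 3 ∨ p % 7 = 4)))) ∨
     (Nonempty ((P ⧸ (Cfsg.Geo.scalars (Unit ⊕ (Fin 4 ⊕ Fin 4)) F).subgroupOf P) ≃* Matrix.ProjectiveSpecialLinearGroup (Fin 2) (ZMod 17)) ∧ ((Fintype.card F = p ∧ (p % 17 = 1 ∨ p % 17 = 16 ∨ p % 17 = 2 ∨ p % 17 = 15 ∨ p % 17 = 4 ∨ p % 17 = 13 ∨ p % 17 = 8 ∨ p % 17 = 9)) ∨ (Fintype.card F = p ^ 2 ∧ (p % 17 = 3 ∨ p % 17 = 14 ∨ p % 17 = 5 ∨ p % 17 = 12 ∨ p % 17 = 6 ∨ p % 17 = 11 ∨ p % 17 = 7 ∨ p % 17 = 10)))) ∨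
     (Nonempty ((P ⧸ (Cfsg.Geo.scalars (Unit ⊕ (Fin 4 ⊕ Fin 4)) F).subgroupOf P) ≃* alternatingGroup (Fin 10)) ∧ Fintype.card F = p ∧ p ≠ 5 ∧ p ≠ 11) ∨
     (Nonempty ((P ⧸ (Cfsg.Geo.scalars (Unit ⊕ (Fin 4 ⊕ Fin 4)) F).subgroupOf P) ≃* alternatingGroup (Fin 11)) ∧ Fintype.card F = 11) ∨
     (Nonempty ((P ⧸ (Cfsg.Geo.scalars (Unit ⊕ (Fin 4 ⊕ Fin 4)) F).subgroupOf P) ≃* Matrix.ProjectiveSpecialLinearGroup (Fin 2) F) ∧ 11 ≤ p) ∨
     ((∃ (K : Type) (_ : Field K) (_ : Fintype K), Fintype.card K = Fintype.card F ^ 2 ∧ Nonempty ((P ⧸ (Cfsg.Geo.scalars (Unit ⊕ (Fin 4 ⊕ Fin 4)) F).subgroupOf P) ≃* Matrix.ProjectiveSpecialLinearGroup (Fin 2) K)) ∧ Fintype.card F ≠ 3))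

/-- the order of `Aut L_2(q)` -/
theorem aut_l2 {K : Type} [Field K] [Fintype K] {p f : ℕ} (hp : p.Prime) (hf : 1 ≤ f) (hK : Fintype.card K = p ^ f)
    (h4 : 4 ≤ p ^ f) : Nat.card (MulAut (Matrix.ProjectiveSpecialLinearGroup (Fin 2) K)) = f * (p ^ f * ((p ^ f) ^ 2 - 1)) := by
  have := Fact.mk hp
  rw [S0813.result p f hf hK 2 le_rfl (fun _ => h4), if_pos rfl, one_mul, ClassicalGeometry.PSL2Basic.card_PGL2, hK]

theorem aut_alt {m : ℕ} (hm : 4 ≤ m) (h6 : m ≠ 6) : Nat.card (MulAut (alternatingGroup (Fin m))) = m.factorial := by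
  rw [← Nat.card_congr (Equiv.ofBijective _ (S2119.result m hm h6)), Nat.card_perm, Nat.card_fin]

/-- the numerical part of the elimination of the residual class -/
structure NN (p f k r a : ℕ) : Prop where
  hp : p.Prime
  hf : 1 ≤ f
  pp : PP p (f * k) r
  big : (k = 8 ∧ 17 < r ^ a) ∨ (k = 6 ∧ 7 < r ^ a)

namespace NN

variable {p f k r a : ℕ}

theorem six_le (h : NN p f k r a) : 6 ≤ k := by rcases h.big with h | h <;> omega

theorem kr (h : NN p f k r a) : k < r := by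
  have h1 := h.pp.lt (Nat.mul_pos h.hf (by have := h.six_le; omega))
  have h2 : 1 * k ≤ f * k := Nat.mul_le_mul_right _ h.hf
  omega

theorem dvd_sub (h : NN p f k r a) : k ∣ r - 1 :=
  (Dvd.intro_left f rfl).trans (h.pp.dvd_sub_one (Nat.mul_pos h.hf (by have := h.six_le; omega)))

theorem ha (h : NN p f k r a) : a ≠ 0 := by
  rintro rfl
  rcases h.big with h | h <;> simp at h

theorem not_pow_one (h : NN p f k r a) (h7 : (k = 8 ∧ r = 17) ∨ (k = 6 ∧ r = 7)) : 2 ≤ a := by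
  have h0 := h.ha
  by_contra hcon
  have h1 : a = 1 := by omega
  subst h1
  rcases h.big with h2 | h2 <;> rw [pow_one] at h2 <;> omega

theorem not_f (h : NN p f k r a) : ¬ r ∣ f := H975.Cov.pp_dvd_of_pow h.pp h.hf (by have := h.six_le; omega)

theorem not_small {N : ℕ} (h : NN p f k r a) (hN : N = 1512 ∨ N = 4896 ∨ N = Nat.factorial 10 ∨ N = Nat.factorial 11) :
    ¬ r ^ a ∣ N := by
  intro hd
  have hk := h.six_le
  have hkr := h.kr
  have hds := h.dvd_sub
  have hrp := h.pp.prime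
  have hrd : r ∣ N := (dvd_pow_self r h.ha).trans hd
  have key : ∀ q : ℕ, q.Prime → r ∣ q → r = q := fun q hq h1 => (Nat.prime_dvd_prime_iff_eq hrp hq).1 h1
  have hle : 2 ≤ a → r ^ 2 ∣ N := fun h2 => (pow_dvd_pow r h2).trans hd
  have hcase : k = 8 ∨ k = 6 := by rcases h.big with h | h <;> omega
  rcases hN with rfl | rfl | rfl | rfl
  · have h1 : r ∣ 2 ^ 3 * (3 ^ 3 * 7) := hrd
    rw [hrp.dvd_mul, hrp.dvd_mul] at h1
    rcases h1 with h1 | h1 | h1
    · have := key 2 Nat.prime_two (hrp.dvd_of_dvd_pow h1); omega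
    · have := key 3 Nat.prime_three (hrp.dvd_of_dvd_pow h1); omega
    · have h2 := key 7 (by norm_num) h1
      subst h2
      rcases hcase with rfl | rfl
      · omega
      · have := hle (h.not_pow_one (Or.inr ⟨rfl, rfl⟩))
        norm_num at this
  · have h1 : r ∣ 2 ^ 5 * (3 ^ 2 * 17) := hrd
    rw [hrp.dvd_mul, hrp.dvd_mul] at h1
    rcases h1 with h1 | h1 | h1
    · have := key 2 Nat.prime_two (hrp.dvd_of_dvd_pow h1); omega
    · have := key 3 Nat.prime_three (hrp.dvd_of_dvd_pow h1); omega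
    · have h2 := key 17 (by norm_num) h1
      subst h2
      rcases hcase with rfl | rfl
      · have := hle (h.not_pow_one (Or.inl ⟨rfl, rfl⟩))
        norm_num at this
      · norm_num at hds
  · have h1 := (hrp.dvd_factorial).1 hrd
    obtain ⟨c, hc⟩ := hds
    rcases hcase with rfl | rfl
    · have h2 : r = 9 := by omega
      subst h2
      norm_num at hrp
    · have h2 : r = 7 := by omega
      subst h2
      have := hle (h.not_pow_one (Or.inr ⟨rfl, rfl⟩))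
      revert this
      decide
  · have h1 := (hrp.dvd_factorial).1 hrd
    obtain ⟨c, hc⟩ := hds
    rcases hcase with rfl | rfl
    · have h2 : r = 9 := by omega
      subst h2
      norm_num at hrp
    · have h2 : r = 7 := by omega
      subst h2
      have := hle (h.not_pow_one (Or.inr ⟨rfl, rfl⟩))
      revert this
      decide

theorem ppq (h : NN p f k r a) : PP (p ^ f) k r := h.pp.of_pow h.hf

theorem not_l2 (h : NN p f k r a) : ¬ r ^ a ∣ f * (p ^ f * ((p ^ f) ^ 2 - 1)) := by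
  intro hd
  have hrp := h.pp.prime
  have hrd := (dvd_pow_self r h.ha).trans hd
  rw [hrp.dvd_mul, hrp.dvd_mul] at hrd
  rcases hrd with h1 | h1 | h1
  · exact h.not_f h1
  · exact h.ppq.not_dvd (by have := h.six_le; omega) h1
  · have h2 := (h.ppq.dvd_iff (Nat.pos_of_ne_zero (pow_ne_zero _ h.hp.ne_zero)) 2).1 h1
    have := Nat.le_of_dvd (by norm_num) h2
    have := h.six_le
    omega

theorem not_l2sq (h : NN p f k r a) : ¬ r ^ a ∣ (2 * f) * (p ^ (2 * f) * ((p ^ (2 * f)) ^ 2 - 1)) := by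
  intro hd
  have hrp := h.pp.prime
  have hrd := (dvd_pow_self r h.ha).trans hd
  rw [hrp.dvd_mul, hrp.dvd_mul, hrp.dvd_mul] at hrd
  have e1 : p ^ (2 * f) = (p ^ f) ^ 2 := by rw [← pow_mul, mul_comm]
  have h6 := h.six_le
  rw [e1] at hrd
  rcases hrd with (h1 | h1) | h1 | h1
  · have := Nat.le_of_dvd (by norm_num) h1
    have := h.kr
    omega
  · exact h.not_f h1
  · exact h.ppq.not_dvd (by omega) (hrp.dvd_of_dvd_pow h1)
  · rw [← pow_mul] at h1
    have h2 := (h.ppq.dvd_iff (Nat.pos_of_ne_zero (pow_ne_zero _ h.hp.ne_zero)) _).1 h1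
    have := Nat.le_of_dvd (by norm_num) h2
    omega

end NN

section list

variable {F : Type} [Field F] [Fintype F] {M : Subgroup (GL (Unit ⊕ (Fin 4 ⊕ Fin 4)) F)} {p f k r a : ℕ}

theorem nondeg_nine (h2 : (2 : F) ≠ 0) : Nondeg (oddForm 4 F) := LieClassical.OrthForms.nondeg_oddForm 4 F h2

/-- **the residual class contains no elements of large primitive order** -/
theorem nine_res (hR : S5836Stmt) (hodd : Odd (Fintype.card F)) (hpf : Fintype.card F = p ^ f) (hq : 5 ≤ p ^ f) (hn : NN p f k r a)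
    (hM : IsMaximalIn (omegaGL (quadFormOdd 4 F)) M) (hS : InOrthogonalResidualClass M) {g : GL (Unit ⊕ (Fin 4 ⊕ Fin 4)) F}
    (hg : g ∈ M) (ho : orderOf g = r ^ a) : False := by
  have h2 := H390.two_ne_zero_of_odd hodd
  have hMI : M ≤ Cfsg.isometryGroup F (⇑(oddForm 4 F)) := by
    rw [coe_oddForm]
    exact hM.1.le.trans (by rintro _ ⟨x, -, rfl⟩; exact x.2)
  obtain ⟨P, p', hP, hp', hc, hcase⟩ := hR hodd M hM hS
  have hrodd : Odd (orderOf g) := by
    rw [ho]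
    exact (hn.pp.odd (by have := Nat.mul_le_mul hn.hf hn.six_le; omega)).pow
  have key := H975.Cov.orderOf_dvd_core (nondeg_nine h2) hP hMI hg hrodd
  rw [ho] at key
  rcases hcase with ⟨⟨K, _, _, hK, ⟨e⟩⟩, -⟩ | ⟨⟨e⟩, -⟩ | ⟨⟨e⟩, -⟩ | ⟨⟨e⟩, -⟩ | ⟨⟨e⟩, -⟩ | ⟨⟨K, _, _, hK, ⟨e⟩⟩, -⟩
  · rw [Nat.card_congr (MulAut.congr e).toEquiv, aut_l2 (p := 2) (f := 3) Nat.prime_two (by norm_num) (by rw [hK]; rfl) (by norm_num)] at key
    exact hn.not_small (Or.inl rfl) key
  · have : Fact (Nat.Prime 17) := ⟨by norm_num⟩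
    rw [Nat.card_congr (MulAut.congr e).toEquiv, aut_l2 (p := 17) (f := 1) (by norm_num) (by norm_num) (by rw [ZMod.card]; rfl) (by norm_num)] at key
    exact hn.not_small (Or.inr (Or.inl rfl)) key
  · rw [Nat.card_congr (MulAut.congr e).toEquiv, aut_alt (by norm_num) (by norm_num)] at key
    exact hn.not_small (Or.inr (Or.inr (Or.inl rfl))) key
  · rw [Nat.card_congr (MulAut.congr e).toEquiv, aut_alt (by norm_num) (by norm_num)] at key
    exact hn.not_small (Or.inr (Or.inr (Or.inr rfl))) key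
  · rw [Nat.card_congr (MulAut.congr e).toEquiv, aut_l2 hn.hp hn.hf hpf (by omega)] at key
    exact hn.not_l2 key
  · have h4 : 4 ≤ p ^ (2 * f) := by
      have h6 : 1 < p ^ f := by rw [← hpf]; exact Fintype.one_lt_card
      have e1 : p ^ (2 * f) = p ^ f * p ^ f := by rw [two_mul, pow_add]
      rw [e1]
      exact Nat.mul_le_mul h6 h6
    rw [Nat.card_congr (MulAut.congr e).toEquiv, aut_l2 hn.hp (f := 2 * f) (by have := hn.hf; omega)
      (by rw [hK, hpf, ← pow_mul, mul_comm]) h4] at key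
    exact hn.not_l2sq key

theorem omega_le {ι : Type} [Fintype ι] [DecidableEq ι] {Q : (ι → F) → F} : omegaGL Q ≤ Cfsg.isometryGroup F Q := by
  rintro _ ⟨x, -, rfl⟩
  exact x.2

/-- **maximal subgroups of `Ω_9(q)` containing elements of large primitive order** -/
theorem nine_list (hR : S5836Stmt) (hodd : Odd (Fintype.card F)) (hpf : Fintype.card F = p ^ f) (hq : 5 ≤ p ^ f) (hn : NN p f k r a)
    (hM : IsMaximalIn (omegaGL (quadFormOdd 4 F)) M) {g : GL (Unit ⊕ (Fin 4 ⊕ Fin 4)) F} (hg : g ∈ M) (ho : orderOf g = r ^ a) :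
    Red M ∨ (k = 6 ∧ ∃ K : Subalgebra F (Matrix (Unit ⊕ (Fin 4 ⊕ Fin 4)) (Unit ⊕ (Fin 4 ⊕ Fin 4)) F),
      IsFieldSubalgebra 3 K ∧ M ≤ subalgebraNormalizer K) := by
  have h2 := H390.two_ne_zero_of_odd hodd
  have hMI : M ≤ Cfsg.isometryGroup F (⇑(oddForm 4 F)) := by rw [coe_oddForm]; exact hM.1.le.trans omega_le
  have h6 := hn.six_le
  have h8 : k = 8 ∨ k = 6 := by rcases hn.big with h | h <;> omega
  have hpf' : Nat.card F = p ^ f := by rw [Nat.card_eq_fintype_card]; exact hpf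
  have hppq : PP (Nat.card F) k r := by rw [hpf']; exact hn.ppq
  have hkr := hn.kr
  have hdM : r ∣ Nat.card M := (dvd_pow_self r hn.ha).trans (by rw [← ho]; exact Subgroup.orderOf_dvd_natCard M hg)
  have hc9 : Fintype.card (Unit ⊕ (Fin 4 ⊕ Fin 4)) = 9 := card_odd 4
  have h9 : 9 < r ^ a := by
    rcases hn.big with ⟨-, h⟩ | ⟨rfl, h⟩
    · omega
    · obtain ⟨c, hc⟩ := hn.dvd_sub
      have hrp := hn.pp.prime
      rcases Nat.lt_or_ge r 13 with h13 | h13
      · have h7 : r = 7 := by omega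
        subst h7
        have h1 := hn.not_pow_one (Or.inr ⟨rfl, rfl⟩)
        have := Nat.pow_le_pow_right (show 0 < 7 by norm_num) h1
        omega
      · have := Nat.le_self_pow hn.ha r
        omega
  have hMI2 : M ≤ Cfsg.isometryGroup F (⇑(oddForm 4 F)) := hMI
  have hfin : Module.finrank F (Unit ⊕ (Fin 4 ⊕ Fin 4) → F) = 9 := by rw [Module.finrank_fintype_fun_eq_card, hc9]
  rcases S5835.result hodd M hM with ⟨W, hW0, hWs, hW⟩ | ⟨W, hW0, hWe, -, -, hW⟩ | ⟨-, D, hD, hW⟩ | ⟨-, D, hD, hW⟩ |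
    ⟨K, hK, -, hW⟩ | ⟨F₀, s, P, hs, hcard, -, hW⟩ | ⟨-, e, P, f₁, -, -, hW⟩ | hS
  · left
    refine ⟨W, hW0, ?_, hW.le.trans inf_le_left⟩
    rintro rfl
    have hne : Nonempty (Unit ⊕ (Fin 4 ⊕ Fin 4)) := ⟨Sum.inl ()⟩
    obtain ⟨v, hv⟩ := H975.Cov.exists_ne_zero (nondeg_nine (F := F) h2)
    apply hv
    rw [show (oddForm 4 F) v = quadFormOdd 4 F v by rw [← coe_oddForm]]
    exact hWs v trivial
  · left
    refine ⟨W, hW0, ?_, hW.le.trans inf_le_left⟩
    rintro rfl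
    rw [finrank_top, hfin] at hWe
    exact absurd hWe (by decide)
  · exfalso
    have := decomp_pow hD.decomp.decomp ((hW.le.trans inf_le_left) hg) (hMI hg) hppq (by omega) (by omega) hn.ha ho
    omega
  · exfalso
    have := decomp_pow hD.decomp.decomp ((hW.le.trans inf_le_left) hg) (hMI hg) hppq (by omega) (by omega) hn.ha ho
    omega
  · have hle := hW.le.trans inf_le_left
    rcases h8 with rfl | rfl
    · exfalso
      have hne : Nonempty (Unit ⊕ (Fin 4 ⊕ Fin 4)) := ⟨Sum.inl ()⟩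
      rcases ext_cases Nat.prime_three hK hle (by rw [hc9]; norm_num) hppq (by rw [hc9]; norm_num) hdM with h | h
      · omega
      · omega
    · exact Or.inr ⟨rfl, K, hK, hle⟩
  · exfalso
    exact kill_subfield (hW.le.trans inf_le_left) hs (by rw [Nat.card_eq_fintype_card]; exact hcard) hn.hp hpf' hn.pp
      (by rw [hc9]; omega) (by omega) hdM
  · exfalso
    have hq1 := one_lt_q F
    rcases H251.GeoCard.wreath e P hppq.prime (hppq.not_dvd (by omega))
      (hdM.trans (Subgroup.card_dvd_of_le (hW.le.trans inf_le_left))) with h | h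
    · omega
    · have := le_of_div hppq hq1.le h
      omega
  · exact (nine_res hR hodd hpf hq hn hM hS hg ho).elim

end list

end Cfsg.Agent.H449.Reg
end

-- part: H449/Reg/NineB
section
/-!
# S3691, section 5: `Ω_9(q)` (helper449)
-/

set_option autoImplicit false
set_option linter.unusedSectionVars false

namespace Cfsg.Agent.H449.Reg

open Module QuadraticMap Cfsg Cfsg.Geo Cfsg.Agent.LieClassical.OrthCore Cfsg.Agent.LieClassical.OrthTrans
  Cfsg.Agent.H454.Reg Cfsg.Agent.H884.El Cfsg.Agent.H955 Cfsg.Agent.H954.TSing Cfsg.Agent.H193.Dg Cfsg.Agent.H851.Dg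
open Cfsg.Agent.LieClassical.OrthForms (oddForm coe_oddForm)
open Cfsg.Agent.LieClassical.OrthFinite (glEquiv glEquiv_apply)
open Cfsg.Agent.H951 (fx cm Inv)
open Cfsg.Agent.H278.Cov (Red Ext)
open scoped MatrixGroups Matrix

universe u v

/-- maximal overgroups -/
theorem exists_max {A : Type*} [Group A] [Finite A] {K H : Subgroup A} (h : H < K) : ∃ M, IsMaximalIn K M ∧ H ≤ M := by
  obtain ⟨M, hHM, hM⟩ := (Set.toFinite {N : Subgroup A | N < K}).exists_le_maximal h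
  refine ⟨M, ⟨hM.prop, fun N hMN hNK => ?_⟩, hHM⟩
  by_cases hN : N = K
  · exact Or.inr hN
  · exact Or.inl (hM.eq_of_le (lt_of_le_of_ne hNK hN) hMN).symm

/-- conjugating into a subgroup with the full `r`-part -/
theorem exists_conj_mem {A : Type*} [Group A] [Finite A] {X0 : Subgroup A} {r : ℕ} (hr : r.Prime)
    (hv : (Nat.card X0).factorization r = (Nat.card A).factorization r) {t : A} (ht : t ^ r = 1) :
    ∃ s : A, s * t * s⁻¹ ∈ X0 := by
  classical
  have := Fact.mk hr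
  obtain ⟨S⟩ : Nonempty (Sylow r X0) := inferInstance
  have hc : Nat.card ((S : Subgroup X0).map X0.subtype) = r ^ (Nat.card A).factorization r := by
    rw [Subgroup.card_map_of_injective X0.subtype_injective, S.card_eq_multiplicity, hv]
  let S' : Sylow r A := Sylow.ofCard _ hc
  have hz : IsPGroup r (Subgroup.zpowers t) := by
    apply IsPGroup.of_card (n := if t = 1 then 0 else 1)
    rw [Nat.card_zpowers]
    split_ifs with h1
    · rw [h1, orderOf_one, pow_zero]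
    · rw [pow_one]
      exact orderOf_eq_prime ht h1
  obtain ⟨P, hP⟩ := hz.exists_le_sylow
  obtain ⟨s, hs⟩ := MulAction.exists_smul_eq A P S'
  refine ⟨s, ?_⟩
  have h1 : s * t * s⁻¹ ∈ (S' : Subgroup A) := by
    rw [← hs]
    have h2 : t ∈ (P : Subgroup A) := hP (Subgroup.mem_zpowers t)
    exact Subgroup.smul_mem_pointwise_smul _ (MulAut.conj s) _ h2
  have h3 : ((S' : Sylow r A) : Subgroup A) = (S : Subgroup X0).map X0.subtype := rfl
  rw [h3] at h1
  obtain ⟨y, -, hy⟩ := h1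
  rw [← hy]
  exact y.2

section ctx

variable {F : Type} [Field F] [Fintype F]
variable {G : Type u} [Group G] [Finite G] {T : Subgroup G} [T.Normal] {hG : Good (oddForm 4 F)}
  {eT : T ≃* POmega F (⇑(oddForm 4 F))} {hI : Ind ((eP hG eT :))} {X Y : Subgroup G} {p f : ℕ}

namespace Ctx

/-- the list lemma for a factor -/
theorem nine_elt (h : Ctx hI X Y p f 4) (hR : S5836Stmt) (hodd : Odd (Fintype.card F)) (hq : 5 ≤ p ^ f) {k r a : ℕ}
    (hn : NN p f k r a) (hd : r ^ a ∣ Nat.card (X.subgroupOf T)) :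
    Red (preG eT X) ∨ (k = 6 ∧ ∃ K : Subalgebra F (Matrix (Unit ⊕ (Fin 4 ⊕ Fin 4)) (Unit ⊕ (Fin 4 ⊕ Fin 4)) F),
      IsFieldSubalgebra 3 K ∧ preG eT X ≤ subalgebraNormalizer K) := by
  have h6 := hn.six_le
  have h8 : k = 8 ∨ k = 6 := by rcases hn.big with h | h <;> omega
  obtain ⟨g, hg, ho⟩ := h.elt hn.pp (by omega) (by omega) hd
  have hlt : preG eT X < omegaGL (⇑(oddForm 4 F)) :=
    lt_of_le_of_ne preG_le_omega fun h1 => not_omega_le h.fac.not_le_left h1.ge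
  obtain ⟨M, hM, hle⟩ := exists_max hlt
  rw [coe_oddForm] at hM
  have hF : Fintype.card F = p ^ f := by rw [← Nat.card_eq_fintype_card]; exact h.card
  rcases nine_list hR hodd hF hq hn hM (hle hg) ho with ⟨W, hW0, hW1, hW⟩ | ⟨h6, K, hK, hMK⟩
  · exact Or.inl ⟨W, hW0, hW1, hle.trans hW⟩
  · exact Or.inr ⟨h6, K, hK, hle.trans hMK⟩

/-- **`X` fixes a minus point and `Y` contains no `r_4`**: impossible -/
theorem four_kill (h : Ctx hI X Y p f 4) {v : Unit ⊕ (Fin 4 ⊕ Fin 4) → F} (hv : Pt hI X v)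
    (hY : ∀ r, PP p (f * 4) r → ¬ r ∣ Nat.card (Y.subgroupOf T)) : False := by
  obtain ⟨r, hr⟩ := exists_pp (q := p) (e := f * 4) h.prime.two_le (by
    have := Nat.mul_le_mul h.pos (show 4 ≤ 4 from le_rfl); omega) (fun h1 => h.podd h1.1)
  have hrq := h.pp hr
  have hrlt := hrq.lt (by norm_num)
  have hvv := h.fac.val_eq (h.out 4 r (by norm_num) hr)
  rw [Nat.factorization_eq_zero_of_not_dvd (hY r hr), add_zero] at hvv
  have hfT : Finite T := inferInstance
  obtain ⟨g, hg, hgr, hg1, hcm⟩ := exists_g (A := 2) hG.nondeg hrq (by decide) (by norm_num) (by norm_num)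
    (Or.inr ⟨h.two_ne, by rw [h.dim]; norm_num⟩)
  have hrodd : Odd r := hr.prime.odd_of_ne_two (by omega)
  obtain ⟨x, rfl⟩ := exists_omega h.data hg hrodd hgr
  have hxr : x ^ r = 1 := Subtype.ext (Subtype.ext hgr)
  have hx1 : x ≠ 1 := by rintro rfl; exact hg1 rfl
  set t : T := eT.symm (QuotientGroup.mk x) with ht
  have htr : t ^ r = 1 := by
    rw [ht, ← map_pow]
    have h1 : ((QuotientGroup.mk x : POmega F (⇑(oddForm 4 F))) ^ r) =
        QuotientGroup.mk' (Subgroup.center (Omega F (⇑(oddForm 4 F)))) (x ^ r) := by rw [map_pow]; rfl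
    rw [h1, hxr, map_one, map_one]
  obtain ⟨s, hs⟩ := exists_conj_mem hr.prime hvv htr
  obtain ⟨c, hc⟩ := QuotientGroup.mk_surjective (eT s)
  have hmem : (((c * x * c⁻¹ : Omega F (⇑(oddForm 4 F))) : isometryGroup F (⇑(oddForm 4 F))) :
      GL (Unit ⊕ (Fin 4 ⊕ Fin 4)) F) ∈ preG eT X := by
    rw [mem_preG]
    have h1 : (QuotientGroup.mk (c * x * c⁻¹) : POmega F (⇑(oddForm 4 F))) = eT (s * t * s⁻¹) := by
      rw [map_mul, map_mul, map_inv, ht, eT.apply_symm_apply, ← hc]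
      rfl
    rw [h1, eT.symm_apply_apply]
    exact hs
  set c' : GL (Unit ⊕ (Fin 4 ⊕ Fin 4)) F := ((c : isometryGroup F (⇑(oddForm 4 F))) : GL (Unit ⊕ (Fin 4 ⊕ Fin 4)) F) with hc'
  set x' : GL (Unit ⊕ (Fin 4 ⊕ Fin 4)) F := ((x : isometryGroup F (⇑(oddForm 4 F))) : GL (Unit ⊕ (Fin 4 ⊕ Fin 4)) F) with hx'
  have hmem' : c' * x' * c'⁻¹ ∈ preG eT X := hmem
  have hyr : (c' * x' * c'⁻¹) ^ r = 1 := by rw [conj_pow, hgr, mul_one, mul_inv_cancel]
  have hy1 : c' * x' * c'⁻¹ ≠ 1 := by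
    intro h1
    apply hg1
    have h2 : x' = c'⁻¹ * (c' * x' * c'⁻¹) * c' := by group
    rw [h2, h1, mul_one, inv_mul_cancel]
  have ho : orderOf (c' * x' * c'⁻¹) = r := by
    have := Fact.mk hr.prime
    exact orderOf_eq_prime hyr hy1
  have hiso := h.isoOf hr (by norm_num) hmem' ho
  have hcm' : finrank F (cm (lin (c' * x' * c'⁻¹))) = 4 * 2 := by rw [finrank_cm_conj, hcm]
  have hplus := hiso.even_two hG.nondeg hrq (by decide) hcm'
  have hadd := hiso.finrank_add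
  have hfin : finrank F (Unit ⊕ (Fin 4 ⊕ Fin 4) → F) = 9 := by rw [Module.finrank_fintype_fun_eq_card, h.dim]
  have hfx : finrank F (fx (lin (c' * x' * c'⁻¹))) = 1 := by omega
  have h5 : F ∙ v ≤ fx (lin (c' * x' * c'⁻¹)) := by
    rw [Submodule.span_singleton_le_iff_mem]
    apply H951.mem_fx.2
    rw [lin, Matrix.toLin'_apply]
    exact hv.fix_of_odd h.two_ne hmem' (by rw [ho]; exact hrodd)
  have h6 : F ∙ v = fx (lin (c' * x' * c'⁻¹)) :=
    Submodule.eq_of_le_of_finrank_eq h5 (by rw [finrank_span_singleton hv.ne0, hfx])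
  apply hv.minus
  have h7 : perp (oddForm 4 F) (F ∙ v) = cm (lin (c' * x' * c'⁻¹)) := by
    rw [h6, ← perp_cm hG.nondeg hiso.iso hiso.ne0 hiso.pow, perp_perp hG.nondeg]
  rw [h7]
  exact hplus

/-- a factor normalising a field of degree three contains no `r_4` -/
theorem no_four (h : Ctx hI X Y p f 4) {K : Subalgebra F (Matrix (Unit ⊕ (Fin 4 ⊕ Fin 4)) (Unit ⊕ (Fin 4 ⊕ Fin 4)) F)}
    (hK : IsFieldSubalgebra 3 K) (hle : preG eT X ≤ subalgebraNormalizer K) {r : ℕ} (hr : PP p (f * 4) r) :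
    ¬ r ∣ Nat.card (X.subgroupOf T) := by
  intro hd
  have hrq := h.pp hr
  have hrlt := hrq.lt (by norm_num)
  obtain ⟨y, hy, hiso, hyr, hy1⟩ := exists_elt (preG_le (eT := eT) (X := X)) hrq (by norm_num) (hd.trans card_dvd_preG)
  have h3 := H906.Cov.ext_dvd Nat.prime_three hK (t := y) (hle hy)
    (Nat.Coprime.coprime_dvd_left (orderOf_dvd_of_pow_eq_one hyr) ((Nat.coprime_primes hr.prime Nat.prime_three).2 (by omega)))
    (Polynomial.X - 1)
  have h4 : LinearMap.ker (Polynomial.aeval (Matrix.toLin' (y : Matrix (Unit ⊕ (Fin 4 ⊕ Fin 4)) (Unit ⊕ (Fin 4 ⊕ Fin 4)) F))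
      (Polynomial.X - 1 : Polynomial F)) = fx (lin y) := by
    ext w
    rw [map_sub, Polynomial.aeval_X, map_one, LinearMap.mem_ker, LinearMap.sub_apply, sub_eq_zero]
    exact H951.mem_fx.symm
  rw [h4] at h3
  have hadd := hiso.finrank_add
  have hfin : finrank F (Unit ⊕ (Fin 4 ⊕ Fin 4) → F) = 9 := by rw [Module.finrank_fintype_fun_eq_card, h.dim]
  have hcm := hiso.dvd_cm hrq
  have hcm0 : finrank F (cm (lin y)) ≠ 0 := fun h0 => cm_ne_bot ((lin_ne_one hy1 :)) (Submodule.finrank_eq_zero.1 h0)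
  obtain ⟨a, ha⟩ := h3
  obtain ⟨b, hb⟩ := hcm
  omega

end Ctx

end ctx

end Cfsg.Agent.H449.Reg
end
end

-- part: H449/Reg/Nineteen
section
prune_inst 0x2000002582020000000002000000442000042000000000088000000000802000002000020000021220000100010008110000100000000000000000000400000000040001000008000008000000000000000000000000000000000000000000000000000
set_option linter.all false
open scoped Cfsg.Agent.FastGrp

-- part: H898/Rg/FBcnt
section
/-!
# S3691, the residual case F-B-: numbers (helper898)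

* `card_norm` : if `D` is totally singular of dimension `m`, `dim V = 2 m + 1`, and `D^⊥` has no vector of norm `c`, there are
  `q ^ m (q ^ m - 1)` vectors of norm `c`
* `le_card_norm` : at least `q ^ (dim V - 2)` vectors of each norm
* `two_pow_dvd` : `2 ^ (v + 3)` divides `q ^ m - 1` if `m` is even, `q = p ^ f` odd, `2 ^ v ∣ f`
-/

set_option autoImplicit false

namespace Cfsg.Agent.H898.Rg

open Module QuadraticMap Cfsg.Agent.LieClassical.OrthCore Cfsg.Agent.LieClassical.OrthTrans Cfsg.Agent.H883.Sub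

section

variable {F V : Type*} [Field F] [AddCommGroup V] [Module F V] {Q : QuadraticForm F V}

theorem exists_omega [FiniteDimensional F V] {D : Submodule F V} :
    ∃ ω : V → V, (∀ x, x ∉ perp Q D → ω x ∈ D ∧ polar Q x (ω x) = 1) ∧ ∀ x, ∀ y ∈ perp Q D, ω (x + y) = ω x := by
  classical
  have h1 : ∀ ξ : V ⧸ perp Q D, ∃ w : V, ξ ≠ 0 → w ∈ D ∧ ∀ x : V, (Submodule.Quotient.mk x : V ⧸ perp Q D) = ξ → polar Q x w = 1 := by
    intro ξ
    obtain ⟨x, rfl⟩ := Submodule.Quotient.mk_surjective _ ξ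
    by_cases hx : x ∈ perp Q D
    · exact ⟨0, fun h => absurd ((Submodule.Quotient.mk_eq_zero _).2 hx) h⟩
    · obtain ⟨w, hw, hw0⟩ : ∃ w ∈ D, polar Q w x ≠ 0 := by
        by_contra hcon
        push Not at hcon
        exact hx (mem_perp.2 hcon)
      refine ⟨(polar Q w x)⁻¹ • w, fun _ => ⟨D.smul_mem _ hw, fun z hz => ?_⟩⟩
      have h2 : z - x ∈ perp Q D := (Submodule.Quotient.eq _).1 hz
      have h3 : polar Q z w = polar Q x w := by
        have h4 := mem_perp'.1 h2 w hw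
        rw [polar_sub_left] at h4
        exact sub_eq_zero.1 h4
      rw [polar_smul_right, h3, polar_comm Q x w, smul_eq_mul, inv_mul_cancel₀ hw0]
  choose w hw using h1
  refine ⟨fun x => w (Submodule.Quotient.mk x), fun x hx => ?_, fun x y hy => ?_⟩
  · have h2 : (Submodule.Quotient.mk x : V ⧸ perp Q D) ≠ 0 := fun h0 => hx ((Submodule.Quotient.mk_eq_zero _).1 h0)
    exact ⟨(hw _ h2).1, (hw _ h2).2 x rfl⟩
  · have h2 : (Submodule.Quotient.mk (x + y) : V ⧸ perp Q D) = Submodule.Quotient.mk x := by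
      rw [Submodule.Quotient.mk_add, (Submodule.Quotient.mk_eq_zero _).2 hy, add_zero]
    change w _ = w _
    rw [h2]

/-- the number of vectors of norm `c` -/
theorem card_norm [Finite F] [FiniteDimensional F V] (hQ : Nondeg Q) (h2 : (2 : F) ≠ 0) {D : Submodule F V} {m : ℕ}
    (hV : finrank F V = 2 * m + 1) (hD : finrank F D = m) (hts : D ≤ perp Q D) {c : F} (hc : ∀ y ∈ perp Q D, Q y ≠ c) :
    Nat.card {x : V // Q x = c} = Nat.card F ^ m * (Nat.card F ^ m - 1) := by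
  classical
  have := Module.finite_of_finite F (M := V)
  obtain ⟨ω, h1, h3⟩ := exists_omega (Q := Q) (D := D)
  have hsing : ∀ w ∈ D, Q w = 0 := by
    intro w hw
    have h4 := mem_perp.1 (hts hw) w hw
    rw [polar_self'] at h4
    exact (mul_eq_zero.1 h4).resolve_left h2
  have hval : ∀ x, x ∉ perp Q D → ∀ s : F, Q (x + s • ω x) = Q x + s := by
    intro x hx s
    obtain ⟨h5, h6⟩ := h1 x hx
    rw [Q_add, QuadraticMap.map_smul, hsing _ h5, polar_smul_right, h6]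
    simp
  have hnot : ∀ x, x ∉ perp Q D → ∀ s : F, x + s • ω x ∉ perp Q D := by
    intro x hx s hcon
    apply hx
    have h5 : s • ω x ∈ perp Q D := hts (D.smul_mem _ (h1 x hx).1)
    have := (perp Q D).sub_mem hcon h5
    rwa [add_sub_cancel_right] at this
  have hom : ∀ x, x ∉ perp Q D → ∀ s : F, ω (x + s • ω x) = ω x := fun x hx s =>
    h3 x _ (hts (D.smul_mem _ (h1 x hx).1))
  let Φ : {x : V // Q x = c} × F ≃ {x : V // x ∉ perp Q D} :=
    { toFun := fun z => ⟨z.1.1 + z.2 • ω z.1.1, hnot _ (fun h => hc _ h z.1.2) _⟩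
      invFun := fun y => (⟨y.1 + (c - Q y.1) • ω y.1, by rw [hval _ y.2]; ring⟩, -(c - Q y.1))
      left_inv := fun z => by
        have hz : z.1.1 ∉ perp Q D := fun h => hc _ h z.1.2
        have e : c - Q (z.1.1 + z.2 • ω z.1.1) = - z.2 := by rw [hval _ hz, z.1.2]; ring
        refine Prod.ext (Subtype.ext ?_) ?_
        · change z.1.1 + z.2 • ω z.1.1 + (c - Q (z.1.1 + z.2 • ω z.1.1)) • ω (z.1.1 + z.2 • ω z.1.1) = z.1.1
          rw [e, hom _ hz, neg_smul, add_neg_cancel_right]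
        · change -(c - Q (z.1.1 + z.2 • ω z.1.1)) = z.2
          rw [e, neg_neg]
      right_inv := fun y => by
        apply Subtype.ext
        change y.1 + (c - Q y.1) • ω y.1 + (-(c - Q y.1)) • ω (y.1 + (c - Q y.1) • ω y.1) = y.1
        rw [hom _ y.2, neg_smul, add_neg_cancel_right] }
  have hcard := Nat.card_congr Φ
  rw [Nat.card_prod] at hcard
  have hcompl : Nat.card {x : V // x ∉ perp Q D} + Nat.card (perp Q D) = Nat.card V := by
    have h5 := Nat.card_congr (Equiv.sumCompl fun x : V => x ∈ perp Q D)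
    rw [Nat.card_sum] at h5
    rw [add_comm]
    exact h5
  have hVc : Nat.card V = Nat.card F ^ (2 * m + 1) := by rw [Module.natCard_eq_pow_finrank (K := F), hV]
  have hPc : Nat.card (perp Q D) = Nat.card F ^ (m + 1) := by
    have := finrank_perp hQ D
    rw [Module.natCard_eq_pow_finrank (K := F)]
    congr 1
    omega
  rw [hVc, hPc] at hcompl
  have hq : 1 < Nat.card F := Finite.one_lt_card
  set q := Nat.card F with hqd
  set N := Nat.card {x : V // Q x = c} with hN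
  apply Nat.eq_of_mul_eq_mul_right (show 0 < q by omega)
  rw [hcard]
  have h5 : 1 ≤ q ^ m := Nat.one_le_pow _ _ (by omega)
  obtain ⟨j, hj⟩ : ∃ j, q ^ m = j + 1 := ⟨q ^ m - 1, by omega⟩
  have h6 : q ^ (2 * m + 1) = (j + 1) * (j + 1) * q := by rw [← hj]; ring
  have h7 : q ^ (m + 1) = (j + 1) * q := by rw [← hj]; ring
  rw [h6, h7] at hcompl
  rw [hj, Nat.add_sub_cancel]
  have h8 : (j + 1) * (j + 1) * q = (j + 1) * j * q + (j + 1) * q := by ring
  rw [h8] at hcompl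
  exact Nat.add_right_cancel hcompl

/-- many vectors of norm `c` -/
theorem le_card_norm [Finite F] [FiniteDimensional F V] (hG : Good Q) (c : F) :
    Nat.card F ^ (finrank F V - 2) ≤ Nat.card {x : V // Q x = c} := by
  classical
  have := Module.finite_of_finite F (M := V)
  obtain ⟨x, y, hxy⟩ := hG.exists_hyp
  set U := Submodule.span F ({x, y} : Set V) with hU
  have hd : finrank F U ≤ 2 := by
    have h1 := finrank_span_finset_le_card (R := F) ({x, y} : Finset V)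
    have h2 : ({x, y} : Finset V).card ≤ 2 := Finset.card_le_two
    have h3 : ((({x, y} : Finset V) : Set V)) = {x, y} := by simp
    rw [h3] at h1
    exact h1.trans h2
  have hdp := finrank_perp hG.nondeg U
  have h1 : Nat.card F ^ (finrank F V - 2) ≤ Nat.card (perp Q U) := by
    rw [Module.natCard_eq_pow_finrank (K := F) (V := perp Q U)]
    exact Nat.pow_le_pow_right Nat.card_pos (by omega)
  refine h1.trans ?_
  have hx : ∀ r ∈ perp Q U, polar Q x r = 0 := fun r hr => mem_perp.1 hr x (Submodule.subset_span (by simp))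
  have hy : ∀ r ∈ perp Q U, polar Q y r = 0 := fun r hr => mem_perp.1 hr y (Submodule.subset_span (by simp))
  refine Nat.card_le_card_of_injective (fun r : perp Q U => (⟨x + (c - Q (r : V)) • y + r, ?_⟩ : {x : V // Q x = c})) ?_
  · rw [Q_add, Q_add, QuadraticMap.map_smul, hxy.left, hxy.right, polar_smul_right, hxy.pair, polar_add_left,
      polar_smul_left, hx _ r.2, hy _ r.2]
    simp
  · intro r s hrs
    have h2 : x + (c - Q (r : V)) • y + r = x + (c - Q (s : V)) • y + (s : V) := congrArg Subtype.val hrs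
    have h3 := congrArg (polar Q x) h2
    rw [polar_add_right, polar_add_right, polar_add_right, polar_add_right, polar_smul_right, polar_smul_right,
      hx _ r.2, hx _ s.2, hxy.pair, hxy.polar_left] at h3
    simp only [zero_add, smul_eq_mul, mul_one, add_zero, sub_right_inj] at h3
    rw [h3] at h2
    exact Subtype.ext (add_left_cancel h2)

end

/-! ### Arithmetic -/

theorem two_pow_aux {p : ℕ} (hp : Odd p) (v : ℕ) : 2 ^ (v + 3) ∣ p ^ 2 ^ (v + 1) - 1 := by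
  have hp1 : 1 ≤ p := hp.pos
  induction v with
  | zero =>
    obtain ⟨j, rfl⟩ := hp
    have h1 : (2 * j + 1) ^ 2 ^ (0 + 1) - 1 = 4 * (j * (j + 1)) := by
      have : (2 * j + 1) ^ 2 ^ (0 + 1) = 4 * (j * (j + 1)) + 1 := by ring
      omega
    rw [h1]
    obtain ⟨k, hk⟩ := (Nat.even_mul_succ_self j).two_dvd
    rw [hk]
    exact ⟨k, by ring⟩
  | succ v ih =>
    have h1 : p ^ 2 ^ (v + 1 + 1) - 1 = (p ^ 2 ^ (v + 1) - 1) * (p ^ 2 ^ (v + 1) + 1) := by
      have h2 : 1 ≤ p ^ 2 ^ (v + 1) := Nat.one_le_pow _ _ hp1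
      obtain ⟨j, hj⟩ : ∃ j, p ^ 2 ^ (v + 1) = j + 1 := ⟨p ^ 2 ^ (v + 1) - 1, by omega⟩
      have h3 : p ^ 2 ^ (v + 1 + 1) = (j + 1) * (j + 1) := by
        rw [← hj, ← pow_add]
        congr 1
        ring
      rw [h3, hj]
      have : (j + 1) * (j + 1) = j * (j + 1 + 1) + 1 := by ring
      rw [this]
      simp only [_root_.add_tsub_cancel_right]
    rw [h1, show v + 1 + 3 = (v + 3) + 1 by ring, pow_succ 2 (v + 3)]
    refine mul_dvd_mul ih ?_
    have h2 : Odd (p ^ 2 ^ (v + 1)) := hp.pow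
    obtain ⟨j, hj⟩ := h2
    rw [hj]
    exact ⟨j + 1, by ring⟩

theorem two_pow_dvd {p f m v : ℕ} (hp : Odd p) (hm : Even m) (hv : 2 ^ v ∣ f) : 2 ^ (v + 3) ∣ (p ^ f) ^ m - 1 := by
  obtain ⟨a, rfl⟩ := hm.two_dvd
  obtain ⟨b, rfl⟩ := hv
  refine (two_pow_aux hp v).trans ?_
  have h1 : (p ^ (2 ^ v * b)) ^ (2 * a) = (p ^ 2 ^ (v + 1)) ^ (b * a) := by
    rw [← pow_mul, ← pow_mul]
    congr 1
    ring
  rw [h1]
  exact Nat.sub_one_dvd_pow_sub_one _ _

/-- the final numerical contradiction -/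
theorem num_kill {p f m k e : ℕ} (hp : Odd p) (hf : 0 < f) (hm : Even m) (hk : Odd k) (he : e ∣ 2 * f)
    (hN : (p ^ f) ^ m * ((p ^ f) ^ m - 1) ∣ 2 * k * e) : False := by
  obtain ⟨v, f', hf', rfl⟩ := Nat.exists_eq_two_pow_mul_odd hf.ne'
  have h1 := two_pow_dvd (m := m) hp hm (Dvd.intro f' rfl : 2 ^ v ∣ 2 ^ v * f')
  have h2 : 2 ^ (v + 3) ∣ 2 * k * (2 * (2 ^ v * f')) :=
    (h1.trans (Dvd.intro_left _ rfl)).trans (hN.trans (mul_dvd_mul_left _ he))
  have h3 : 2 * k * (2 * (2 ^ v * f')) = 2 ^ (v + 2) * (k * f') := by ring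
  rw [h3, show v + 3 = (v + 2) + 1 by ring, pow_succ 2 (v + 2)] at h2
  have h4 : 2 ∣ k * f' := Nat.dvd_of_mul_dvd_mul_left (by positivity) h2
  have h5 : Odd (k * f') := hk.mul hf'
  rw [← Nat.not_even_iff_odd] at h5
  exact h5 (even_iff_two_dvd.2 h4)

end Cfsg.Agent.H898.Rg
end

-- part: H898/Rg/FB
section
/-!
# S3691, the residual case F-B- (helper898)

`resB_false` : there is no factorization `Fac T X Y` of type `ResB hI X m v` (`T = Ω_{2m+1}(q)`, `q` odd, `m ≥ 3`, `|Out T| ∣ 2 f`).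
-/

set_option autoImplicit false
set_option linter.unusedSectionVars false

namespace Cfsg.Agent.H898.Rg

open Module QuadraticMap Cfsg.Agent.LieClassical.OrthCore Cfsg.Agent.LieClassical.OrthTrans
  Cfsg.Agent.ClassicalGeometry.OrthSemi Cfsg.Agent.H449.Reg Cfsg.Agent.H883.Sub Cfsg.Agent.H454.Reg
open Cfsg.Agent.H890.SpParity (fix mem_fix even_E)

universe u v

section center

variable {F V : Type*} [Field F] [AddCommGroup V] [Module F V] {Q : QuadraticForm F V}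

/-- the centre of `Ω_{2m+1}(q)` is trivial -/
theorem center_bot [FiniteDimensional F V] (hG : Good Q) (h2 : (2 : F) ≠ 0) (hodd : Odd (finrank F V)) :
    Subgroup.center ↥(E Q) = ⊥ := by
  rw [Subgroup.eq_bot_iff_forall]
  intro z hz
  have h1 : conjE Q (lg z) = 1 := by
    apply MulEquiv.ext
    intro g
    apply Subtype.ext
    apply LinearEquiv.ext
    intro x
    have h3 := conjLin_apply' (lg z) g.1 (z.1.symm x)
    have h4 : (lg z).1 (z.1.symm x) = x := z.1.apply_symm_apply x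
    rw [h4] at h3
    change conjLin (lg z) g.1 x = g.1 x
    rw [h3]
    change z.1 (g.1 (z.1.symm x)) = g.1 x
    have h5 : z * g = g * z := (Subgroup.mem_center_iff.1 hz g).symm
    have h6 : z.1 (g.1 (z.1.symm x)) = g.1 (z.1 (z.1.symm x)) := by
      change (z.1 * g.1) _ = (g.1 * z.1) _
      rw [show z.1 * g.1 = g.1 * z.1 from congrArg Subtype.val h5]
    rw [h6, LinearEquiv.apply_symm_apply]
  obtain ⟨a, ha, h3⟩ := exists_scalar_of_conjE hG _ h1
  have h3' : ∀ x, z.1 x = a • x := h3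
  obtain ⟨x, y, hxy⟩ := hG.exists_hyp
  have h4 : Q (z.1 (x + y)) = Q (x + y) := E_le_O z.2 _
  have h5 : Q (x + y) = 1 := by rw [Q_add, hxy.left, hxy.right, hxy.pair]; simp
  rw [h3', QuadraticMap.map_smul, h5, smul_eq_mul, mul_one] at h4
  have h6 : (a - 1) * (a + 1) = 0 := by linear_combination h4
  rcases mul_eq_zero.1 h6 with h7 | h7
  · apply Subtype.ext
    apply LinearEquiv.ext
    intro x
    rw [h3', sub_eq_zero.1 h7, one_smul]
    rfl
  · exfalso
    have h8 : fix z.1 = ⊥ := by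
      rw [Submodule.eq_bot_iff]
      intro x hx
      rw [mem_fix, h3', eq_neg_of_add_eq_zero_left h7, neg_smul, one_smul] at hx
      have h9 : (2 : F) • x = 0 := by
        rw [two_smul]
        nth_rewrite 1 [← hx]
        exact neg_add_cancel x
      exact (smul_eq_zero.1 h9).resolve_left h2
    have h9 := even_E hG.nondeg z.2
    rw [h8, finrank_bot, zero_add] at h9
    exact (Nat.not_even_iff_odd.2 hodd) h9

end center

section grp

variable {F V : Type*} [Field F] [AddCommGroup V] [Module F V] {Q : QuadraticForm F V}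
variable {G : Type u} [Group G] {T : Subgroup G} [T.Normal] {e : T ≃* (↥(E Q) ⧸ Subgroup.center ↥(E Q))}

/-- the projection `E Q → T` -/
def tq (e : T ≃* (↥(E Q) ⧸ Subgroup.center ↥(E Q))) : ↥(E Q) →* T :=
  e.symm.toMonoidHom.comp (QuotientGroup.mk' _)

theorem e_tq (x : ↥(E Q)) : e (tq e x) = QuotientGroup.mk x := e.apply_symm_apply _

theorem tq_surj : Function.Surjective (tq e) := by
  intro t
  obtain ⟨x, hx⟩ := QuotientGroup.mk_surjective (e t)
  exact ⟨x, e.injective (by rw [e_tq, hx])⟩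

theorem tq_inj (hc : Subgroup.center ↥(E Q) = ⊥) : Function.Injective (tq e) := by
  rw [injective_iff_map_eq_one]
  intro x hx
  have h1 := e_tq (e := e) x
  rw [hx, map_one] at h1
  have h2 : x ∈ Subgroup.center ↥(E Q) := (QuotientGroup.eq_one_iff x).1 h1.symm
  rw [hc] at h2
  exact h2

/-- the preimage in `GL(V)` of `X ∩ T` -/
def preE (e : T ≃* (↥(E Q) ⧸ Subgroup.center ↥(E Q))) (X : Subgroup G) : Subgroup (V ≃ₗ[F] V) :=
  ((X.subgroupOf T).comap (tq e)).map (E Q).subtype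

theorem mem_preE {X : Subgroup G} {k : V ≃ₗ[F] V} : k ∈ preE e X ↔ ∃ hk : k ∈ E Q, ((tq e ⟨k, hk⟩ : T) : G) ∈ X := by
  constructor
  · rintro ⟨x, hx, rfl⟩
    exact ⟨x.2, hx⟩
  · rintro ⟨hk, h⟩
    exact ⟨⟨k, hk⟩, h, rfl⟩

theorem card_preE (hc : Subgroup.center ↥(E Q) = ⊥) (X : Subgroup G) : Nat.card (preE e X) = Nat.card (X.subgroupOf T) := by
  rw [preE, Subgroup.card_map_of_injective (E Q).subtype_injective]
  refine Nat.card_congr (Equiv.ofBijective (fun x : (X.subgroupOf T).comap (tq e) => (⟨tq e x, x.2⟩ : X.subgroupOf T)) ⟨?_, ?_⟩)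
  · intro a b hab
    exact Subtype.ext (tq_inj hc (congrArg Subtype.val hab))
  · rintro ⟨t, ht⟩
    obtain ⟨x, rfl⟩ := tq_surj (e := e) t
    exact ⟨⟨x, ht⟩, rfl⟩

/-- the semisimilitudes inducing elements of `Y` -/
def gamY (e : T ≃* (↥(E Q) ⧸ Subgroup.center ↥(E Q))) (Y : Subgroup G) : Subgroup (Gam Q) :=
  (Y.map (autP e)).comap (Psi Q)

theorem tq_conjE {M : Gam Q} {g : G} (h : Psi Q M = autP e g) (x : ↥(E Q)) :
    ((tq e (conjE Q M x) : T) : G) = g * (tq e x : T) * g⁻¹ := by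
  have h1 : tq e (conjE Q M x) = MulAut.conjNormal g (tq e x) := by
    apply e.injective
    rw [e_tq, ← autP_apply, e_tq, ← h]
    rfl
  rw [h1, MulAut.conjNormal_apply]

theorem conj_mem_preE {Y : Subgroup G} {M : Gam Q} (hM : M ∈ gamY e Y) {k : V ≃ₗ[F] V} (hk : k ∈ preE e Y) :
    conjLin M k ∈ preE e Y := by
  obtain ⟨y, hy, hMy⟩ := hM
  obtain ⟨hkE, hkY⟩ := mem_preE.1 hk
  refine mem_preE.2 ⟨conjLin_mem_E M hkE, ?_⟩
  have h1 := tq_conjE (e := e) hMy.symm ⟨k, hkE⟩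
  have h2 : conjE Q M ⟨k, hkE⟩ = ⟨conjLin M k, conjLin_mem_E M hkE⟩ := rfl
  rw [h2] at h1
  rw [h1]
  exact Y.mul_mem (Y.mul_mem hy hkY) (Y.inv_mem hy)

/-- **the configuration of the linear part** -/
theorem cfg_of [Finite G] [Finite F] [FiniteDimensional F V] (hG : Good Q) (hI : Ind e) {X Y : Subgroup G} (hf : Fac T X Y)
    (h2 : (2 : F) ≠ 0) {m : ℕ} (hm : 3 ≤ m) (hd : finrank F V = 2 * m + 1) {v : V} (hv : Q v ≠ 0)
    (hX : ∀ x ∈ X, act hI x (F ∙ v) = F ∙ v) (hEY : EY Q (perp Q (F ∙ v)) ≤ preE e X) :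
    Cfg Q m v (preE e Y) (gamY e Y) := by
  have hv0 : v ≠ 0 := by
    rintro rfl
    exact hv (map_zero Q)
  have hc := center_bot hG h2 (by rw [hd]; exact ⟨m, rfl⟩)
  refine ⟨hG, h2, hd, hm, hv, ?_, fun M hM k hk => conj_mem_preE hM hk, ?_, ?_⟩
  · intro k hk
    exact (mem_preE.1 hk).1
  · intro S hS hinv w hw
    by_contra hcon
    push Not at hcon
    have hw0 : w ≠ 0 := by
      rintro rfl
      rw [map_zero] at hw
      exact hv hw.symm
    refine no_common hG hI hf hv0 hX hS (fun y hy => ?_) hw0 hw hcon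
    exact hinv _ ⟨y, hy, ((hI y).choose_spec).symm⟩
  · intro k hk w hw hkw
    have hw0 : w ≠ 0 := by
      rintro rfl
      rw [map_zero] at hw
      exact hv hw.symm
    obtain ⟨hkE, hkY⟩ := mem_preE.1 hk
    obtain ⟨g, hg, hgw⟩ := hG.trans_norm hw0 hv0 hw
    set x : ↥(E Q) := ⟨k, hkE⟩ with hx
    set g' : ↥(E Q) := ⟨g, hg⟩ with hg'
    have hfixv : (g' * x * g'⁻¹).1 v = v := by
      change g (k (g.symm v)) = v
      rw [← hgw, LinearEquiv.symm_apply_apply, hkw]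
    have hU : NondegOn Q (perp Q (F ∙ v)) := by
      refine NondegOn.perp hG.nondeg ?_
      intro y hy hy'
      obtain ⟨a, rfl⟩ := Submodule.mem_span_singleton.1 hy
      have h3 := hy' v (Submodule.mem_span_singleton_self v)
      rw [polar_smul_left, polar_self', smul_eq_mul] at h3
      have h4 : a = 0 := by
        rcases mul_eq_zero.1 h3 with h5 | h5
        · exact h5
        · rcases mul_eq_zero.1 h5 with h6 | h6
          · exact absurd h6 h2
          · exact absurd h6 hv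
      rw [h4, zero_smul]
    have hdU : 5 ≤ finrank F (perp Q (F ∙ v)) := by
      have h3 := finrank_perp hG.nondeg (F ∙ v)
      rw [finrank_span_singleton hv0, hd] at h3
      omega
    have h3 : (g' * x * g'⁻¹).1 ∈ EY Q (perp Q (F ∙ v)) := by
      refine Cfsg.Agent.H922.Om.mem_EY_of_fix h2 hG hU (good_res hU hdU) (g' * x * g'⁻¹).2 fun y hy => ?_
      rw [perp_perp hG.nondeg] at hy
      obtain ⟨a, rfl⟩ := Submodule.mem_span_singleton.1 hy
      rw [map_smul, hfixv]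
    obtain ⟨h4, h5⟩ := mem_preE.1 (hEY h3)
    have h6 : ((tq e (g' * x * g'⁻¹) : T) : G) ∈ X := h5
    rw [map_mul, map_mul, map_inv] at h6
    have h7 := hf.symm.not_conj hkY ((tq e g' : T) : G) h6
    have h8 : x = 1 := tq_inj hc (Subtype.ext (by rw [map_one]; exact h7))
    exact congrArg Subtype.val h8

/-- **F-B-, abstract form** -/
theorem false_of [Finite G] [Finite F] [FiniteDimensional F V] (hG : Good Q) (hI : Ind e) {X Y : Subgroup G} (hf : Fac T X Y)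
    {p f : ℕ} (hp : p.Prime) (hp2 : p ≠ 2) (hf0 : 0 < f) (hF : Nat.card F = p ^ f) (hout : Nat.card (Cfsg.Out T) ∣ 2 * f)
    {m : ℕ} (hm : 3 ≤ m) (hd : finrank F V = 2 * m + 1) {v : V} (hv : Q v ≠ 0)
    (hX : ∀ x ∈ X, act hI x (F ∙ v) = F ∙ v) (hEY : EY Q (perp Q (F ∙ v)) ≤ preE e X) : False := by
  classical
  have := Module.finite_of_finite F (M := V)
  have : Finite (V ≃ₗ[F] V) := Finite.of_injective (fun g => (g : V → V)) DFunLike.coe_injective
  have h2 : (2 : F) ≠ 0 := by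
    intro h0
    have h1 : 2 ∣ Nat.card F := by
      have hF' := Fintype.ofFinite F
      have h3 : ringChar F = 2 := by
        rcases (Nat.dvd_prime Nat.prime_two).1 ((ringChar.spec F 2).1 (by exact_mod_cast h0)) with h4 | h4
        · exact absurd h4 CharP.ringChar_ne_one
        · exact h4
      have : CharP F 2 := by rw [← h3]; exact ringChar.charP F
      obtain ⟨n, -, hn⟩ := FiniteField.card F 2
      rw [Nat.card_eq_fintype_card, hn]
      exact dvd_pow_self 2 n.ne_zero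
    rw [hF] at h1
    exact hp2 ((Nat.prime_dvd_prime_iff_eq Nat.prime_two hp).1 (Nat.prime_two.dvd_of_dvd_pow h1)).symm
  have hC := cfg_of hG hI hf h2 hm hd hv hX hEY
  have hv0 : v ≠ 0 := by
    rintro rfl
    exact hv (map_zero Q)
  have hc := center_bot hG h2 (by rw [hd]; exact ⟨m, rfl⟩)
  -- the orbit of `v`
  have horb : (MulAction.orbit ↥(E Q) v).ncard = Nat.card {x : V // Q x = Q v} := by
    rw [← Nat.card_coe_set_eq]
    refine Nat.card_congr (Equiv.subtypeEquivRight fun x => ?_)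
    constructor
    · rintro ⟨g, rfl⟩
      exact E_le_O g.2 v
    · intro hx
      have hx0 : x ≠ 0 := by
        rintro rfl
        rw [map_zero] at hx
        exact hv hx.symm
      obtain ⟨g, hg, hgx⟩ := hG.trans_norm hv0 hx0 hx.symm
      exact ⟨⟨g, hg⟩, hgx⟩
  set N := Nat.card {x : V // Q x = Q v} with hN
  have hidx : Nat.card (MulAction.stabilizer ↥(E Q) v) * N = Nat.card ↥(E Q) := by
    rw [← horb, ← MulAction.index_stabilizer]
    exact Subgroup.card_mul_index _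
  have hET : Nat.card ↥(E Q) = Nat.card T :=
    Nat.card_congr (Equiv.ofBijective (tq e) ⟨tq_inj hc, tq_surj⟩)
  -- `|X ∩ T|` divides `2 |E_v|`
  set XE : Subgroup ↥(E Q) := (X.subgroupOf T).comap (tq e) with hXE
  have hXEc : Nat.card XE = Nat.card (X.subgroupOf T) := by
    rw [← card_preE (e := e) hc X, preE, Subgroup.card_map_of_injective (E Q).subtype_injective]
  have hXv : ∀ g ∈ XE, g.1 v = v ∨ g.1 v = -v := by
    intro g hg
    have h1 : act hI ((tq e g : T) : G) (F ∙ v) = (F ∙ v).map (g.1 : V →ₗ[F] V) := act_T hG hI (e_tq g) _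
    rw [hX ((tq e g : T) : G) hg] at h1
    have h3 : g.1 v ∈ F ∙ v := by
      rw [h1]
      exact ⟨v, Submodule.mem_span_singleton_self v, rfl⟩
    obtain ⟨a, ha⟩ := Submodule.mem_span_singleton.1 h3
    have h4 : Q (g.1 v) = Q v := E_le_O g.2 v
    rw [← ha, QuadraticMap.map_smul, smul_eq_mul] at h4
    have h5 : a * a = 1 := mul_right_cancel₀ hv (by rw [h4, one_mul])
    rcases mul_self_eq_one_iff.1 h5 with h6 | h6
    · left; rw [← ha, h6, one_smul]
    · right; rw [← ha, h6, neg_smul, one_smul]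
  have hdvd : Nat.card XE ∣ 2 * Nat.card (MulAction.stabilizer ↥(E Q) v) := by
    have h1 := Subgroup.card_mul_index (MulAction.stabilizer XE v)
    rw [MulAction.index_stabilizer] at h1
    have h3 : (MulAction.orbit XE v).ncard ∣ 2 := by
      have h4 : MulAction.orbit XE v ⊆ {v, -v} := by
        rintro _ ⟨g, rfl⟩
        rcases hXv g.1 g.2 with h5 | h5
        · left; exact h5
        · right; exact h5
      have h5 := Set.ncard_le_ncard h4
      have h6 : ({v, -v} : Set V).ncard ≤ 2 := (Set.ncard_insert_le _ _).trans (by rw [Set.ncard_singleton])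
      have h7 : 0 < (MulAction.orbit XE v).ncard := by
        rw [Set.ncard_pos]
        exact ⟨v, MulAction.mem_orbit_self v⟩
      have h8 : (MulAction.orbit XE v).ncard = 1 ∨ (MulAction.orbit XE v).ncard = 2 := by omega
      rcases h8 with h8 | h8 <;> rw [h8]
      exact one_dvd 2
    have h4 : Nat.card (MulAction.stabilizer XE v) ∣ Nat.card (MulAction.stabilizer ↥(E Q) v) := by
      have h5 : Nat.card (MulAction.stabilizer XE v) =
          Nat.card ((MulAction.stabilizer XE v).map XE.subtype) :=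
        (Subgroup.card_map_of_injective XE.subtype_injective).symm
      rw [h5]
      refine Subgroup.card_dvd_of_le ?_
      rintro _ ⟨g, hg, rfl⟩
      exact hg
    rw [← h1, mul_comm]
    exact mul_dvd_mul h3 h4
  obtain ⟨c, -, hcd, hcard⟩ := hf.card0
  have hYc := card_preE (e := e) hc Y
  obtain ⟨j, hj⟩ := hdvd
  -- `N ∣ 2 |K| c`
  have hkey : N ∣ 2 * Nat.card (preE e Y) * c := by
    refine ⟨j, ?_⟩
    have h1 : 0 < Nat.card XE := Nat.card_pos
    apply Nat.eq_of_mul_eq_mul_left h1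
    have h3 : Nat.card XE * (2 * Nat.card (preE e Y) * c) = 2 * Nat.card T := by
      rw [hYc, ← hcard, hXEc]
      ring
    rw [h3, ← hET, ← hidx]
    calc 2 * (Nat.card (MulAction.stabilizer ↥(E Q) v) * N) = (2 * Nat.card (MulAction.stabilizer ↥(E Q) v)) * N := by ring
      _ = Nat.card XE * j * N := by rw [hj]
      _ = Nat.card XE * (N * j) := by ring
  have hc2 : c ∣ 2 * f := hcd.trans hout
  -- `K ≠ 1`
  have hK : preE e Y ≠ ⊥ := by
    intro hbot
    rw [hbot, Subgroup.card_bot, mul_one] at hkey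
    have h1 := Nat.le_of_dvd (by omega) (hkey.trans (mul_dvd_mul_left 2 hc2))
    have h3 := le_card_norm (F := F) hG (Q v)
    rw [← hN, hd, hF] at h3
    have h4 : p ^ f ≤ (p ^ f) ^ (2 * m + 1 - 2) := Nat.le_self_pow (by omega) _
    have h5 : (p ^ f) ^ 5 ≤ (p ^ f) ^ (2 * m + 1 - 2) := Nat.pow_le_pow_right (pow_pos hp.pos f) (by omega)
    have h6 : f < p ^ f := Nat.lt_pow_self hp.one_lt
    have h7 : 3 ≤ p := by
      have := hp.two_le
      omega
    have h8 : 3 ≤ p ^ f := h7.trans (Nat.le_self_pow hf0.ne' p)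
    have h9 : 4 * p ^ f < (p ^ f) ^ 5 := by
      have : (p ^ f) ^ 5 = (p ^ f) ^ 4 * p ^ f := by ring
      rw [this]
      have h10 : 3 ^ 4 ≤ (p ^ f) ^ 4 := Nat.pow_le_pow_left h8 4
      nlinarith only [h8, h10]
    omega
  obtain ⟨hme, D, hDm, hts, hDc⟩ := hC.main hK
  have hNc := card_norm hG.nondeg h2 hd hDm hts hDc
  rw [← hN, hF] at hNc
  rw [hNc] at hkey
  exact num_kill (hp.odd_of_ne_two hp2) hf0 hme hC.odd_card hc2 hkey

end grp

section res

open Cfsg Cfsg.Agent.LieClassical.OrthFinite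
open Cfsg.Agent.AutOrth.Main (oe pe oe_apply pe_mk)

variable {ι : Type} [Fintype ι] [DecidableEq ι] {F : Type v} [Field F] {Q : QuadraticForm F (ι → F)}
variable {G : Type u} [Group G] {T : Subgroup G} [T.Normal] {hG : Good Q} {eT : T ≃* POmega F (⇑Q)}

/-- the two descriptions of the preimage of `X ∩ T` -/
theorem mem_preE_of_preG {X : Subgroup G} {k : (ι → F) ≃ₗ[F] (ι → F)} (hk : (glEquiv ι F).symm k ∈ preG eT X) :
    k ∈ preE ((eP hG eT :)) X := by
  obtain ⟨x, hx, hxX⟩ := exists_of_mem_preG hk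
  have h1 : ((oe hG x : ↥(E Q)) : (ι → F) ≃ₗ[F] (ι → F)) = k := by
    have h2 : glEquiv ι F ((glEquiv ι F).symm k) = k := (glEquiv ι F).apply_symm_apply k
    rw [← hx] at h2
    rw [← h2]
    rfl
  refine mem_preE.2 ⟨by rw [← h1]; exact (oe hG x).2, ?_⟩
  have h2 : (⟨k, by rw [← h1]; exact (oe hG x).2⟩ : ↥(E Q)) = oe hG x := Subtype.ext h1.symm
  rw [h2]
  have h3 : tq ((eP hG eT :)) (oe hG x) = eT.symm (QuotientGroup.mk x) := by
    apply (eP hG eT).injective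
    rw [e_tq]
    change _ = pe hG (eT (eT.symm _))
    rw [eT.apply_symm_apply, pe_mk]
  rw [h3]
  exact hxX

/-- **F-B-** : there is no factorization of type `ResB` -/
theorem resB_false [Finite G] [Finite F] {hI : Ind ((eP hG eT :))} {X Y : Subgroup G} (hf : Fac T X Y) {p f : ℕ} (hp : p.Prime)
    (hp2 : p ≠ 2) (hf0 : 0 < f) (hF : Nat.card F = p ^ f) (hout : Nat.card (Cfsg.Out T) ∣ 2 * f) {m : ℕ} (hm : 3 ≤ m)
    {v : ι → F} (h : ResB hI X m v) : False := by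
  refine false_of hG hI hf hp hp2 hf0 hF hout hm (by rw [Module.finrank_fintype_fun_eq_card, h.card]) h.ne h.fix ?_
  rw [EY, Subgroup.closure_le]
  rintro _ ⟨u, w, hu, hw, huY, hwY, rfl⟩
  exact mem_preE_of_preG (h.sieg u w hu hw (mem_perp'.1 huY v (Submodule.mem_span_singleton_self v))
    (mem_perp'.1 hwY v (Submodule.mem_span_singleton_self v)))

end res

end Cfsg.Agent.H898.Rg
end

-- part: H449/Reg/OddFin
section
/-!
# S3691, section 5: no factorization of `PΩ_{2m+1}(q)`, `m ≥ 5` (helper449)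
-/

set_option autoImplicit false
set_option linter.unusedSectionVars false

namespace Cfsg.Agent.H449.Reg

open Module QuadraticMap Cfsg Cfsg.Geo Cfsg.Agent.LieClassical.OrthCore Cfsg.Agent.LieClassical.OrthTrans
  Cfsg.Agent.H454.Reg Cfsg.Agent.H884.El Cfsg.Agent.H955 Cfsg.Agent.H954.TSing Cfsg.Agent.H193.Dg Cfsg.Agent.H851.Dg
open Cfsg.Agent.LieClassical.OrthForms (oddForm coe_oddForm)

universe u

theorem lp_of_big {p f k r a : ℕ} (h : H851.Rl.Big p f k r a) : LP p f k := ⟨r, a, ⟨h.prime, h.ord⟩, h.big, h.dvd⟩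

/-- **(N)** for `q` odd, `k` even -/
theorem lp_of {p f k : ℕ} (hp : p.Prime) (hf : 1 ≤ f) (h2 : p ≠ 2) (hk : 8 ≤ k) (h : ¬ (p = 3 ∧ f = 1 ∧ k = 18)) : LP p f k := by
  obtain ⟨r, hr⟩ := H951.Rl.exists_big hp hf (k := k) (by omega) (by
    simp only [List.mem_cons, Prod.mk.injEq, List.not_mem_nil, or_false]
    (solve | lia | omega))
  exact lp_of_big hr

variable {G : Type u} [Group G] [Finite G] {T X Y : Subgroup G}

seal _root_.Finset.sum _root_.dotProduct in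
theorem out_dvd {F : Type} [Field F] [Fintype F] {m p f : ℕ} (hm : 3 ≤ m) (hp : p.Prime) (hf1 : 1 ≤ f)
    (hF : Fintype.card F = p ^ f) (hodd : Odd (Fintype.card F)) (hf : Fac T X Y)
    (e : T ≃* POmega F (quadFormOdd m F)) : Nat.card (Cfsg.Out T) ∣ 2 * f := by
  have hT := hf.simple
  have hZT : Subgroup.center T = ⊥ := by
    rcases (inferInstance : (Subgroup.center T).Normal).eq_bot_or_eq_top with h | h
    · exact h
    · exfalso
      apply hf.nonab
      refine ⟨⟨fun a b => ?_⟩⟩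
      have h1 : a ∈ Subgroup.center T := by rw [h]; trivial
      exact (Subgroup.mem_center_iff.1 h1 b).symm
  have hZ : Subgroup.center (POmega F (quadFormOdd m F)) = ⊥ := by
    rw [Subgroup.eq_bot_iff_forall]
    intro x hx
    have h1 : e.symm x ∈ Subgroup.center T := by
      rw [Subgroup.mem_center_iff]
      intro y
      apply e.injective
      rw [map_mul, map_mul, e.apply_symm_apply]
      exact Subgroup.mem_center_iff.1 hx (e y)
    rw [hZT, Subgroup.mem_bot] at h1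
    rw [← e.apply_symm_apply x, h1, map_one]
  rw [H934.OutB.card_out_congr e, H163.PG.card_out_oodd hp hf1 hF hodd hm hZ]

/-- from `ResB` to a contradiction -/
theorem Ctx.false_of {F : Type} [Field F] [Fintype F] {m p f : ℕ} [T.Normal] {hG : Good (oddForm m F)}
    {eT : T ≃* POmega F (⇑(oddForm m F))} {hI : Ind ((eP hG eT :))} (hm : 3 ≤ m) (h : Ctx hI X Y p f m) (hodd : Odd (Fintype.card F))
    (e : T ≃* POmega F (quadFormOdd m F)) (hr : ∃ v, ResB hI X m v ∨ ResB hI Y m v) : False := by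
  have hF : Fintype.card F = p ^ f := by rw [← Nat.card_eq_fintype_card]; exact h.card
  have hout := out_dvd hm h.prime h.pos hF hodd h.fac e
  obtain ⟨v, hv | hv⟩ := hr
  · exact H898.Rg.resB_false h.fac h.prime h.podd h.pos h.card hout hm hv
  · exact H898.Rg.resB_false h.fac.symm h.prime h.podd h.pos h.card hout hm hv

/-- **no factorization of `Ω_{2m+1}(q)`, `m ≥ 5`**, `(q, m) ≠ (3, 9)` -/
theorem false5 (hP : H659.CovCore.S5948Stmt.{0}) {F : Type} [Field F] [Fintype F] {m : ℕ} (hm : 5 ≤ m)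
    (hodd : Odd (Fintype.card F)) (h39 : ¬ (Fintype.card F = 3 ∧ m = 9)) (hf : Fac T X Y)
    (hT : Nonempty (T ≃* POmega F (quadFormOdd m F))) : False := by
  obtain ⟨p, f, hp, hf1, hF'⟩ := exists_char F
  have hF : Fintype.card F = p ^ f := by rw [← Nat.card_eq_fintype_card]; exact hF'
  have := hf.normal
  obtain ⟨hG, eT, hI, h⟩ := exists_ctx (by omega) hp hf1 hF hodd hf hT
  obtain ⟨e⟩ := hT
  refine h.false_of (by omega) hodd e ?_
  have h2 := h.podd
  have h39' : ¬ (p = 3 ∧ f = 1 ∧ m = 9) := fun h1 => h39 ⟨by rw [hF, h1.1, h1.2.1, pow_one], h1.2.2⟩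
  by_cases h10 : m = 10
  · subst h10
    exact h.main10 hP (lp_of hp hf1 h2 (by norm_num) (by omega)) (lp_of hp hf1 h2 (by norm_num) (by omega))
      (lp_of hp hf1 h2 (by norm_num) (by omega))
  · by_cases h11 : m = 11
    · subst h11
      exact h.main5 hP (by omega) (lp_of hp hf1 h2 (by norm_num) (by omega)) (lp_of hp hf1 h2 (by norm_num) (by omega))
        (fun h3 => absurd h3 (by norm_num))
    · refine h.main5 hP (by omega) (lp_of hp hf1 h2 (by omega) (by omega)) (lp_of hp hf1 h2 (by omega) (by omega))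
        (fun h3 => ?_)
      have h7 : 7 ≤ m := by
        obtain ⟨c, hc⟩ := h3
        omega
      exact lp_of hp hf1 h2 (by omega) (by omega)

end Cfsg.Agent.H449.Reg
end

-- part: H449/Reg/NineC
section
/-!
# S3691, section 5: `Ω_9(q)`, the block of dimension eight, and the result (helper449)
-/

set_option autoImplicit false
set_option linter.unusedSectionVars false

namespace Cfsg.Agent.H449.Reg

open Module QuadraticMap Cfsg Cfsg.Geo Cfsg.Agent.LieClassical.OrthCore Cfsg.Agent.LieClassical.OrthTrans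
  Cfsg.Agent.H454.Reg Cfsg.Agent.H884.El Cfsg.Agent.H955 Cfsg.Agent.H954.TSing Cfsg.Agent.H193.Dg Cfsg.Agent.H851.Dg
open Cfsg.Agent.LieClassical.OrthForms (oddForm coe_oddForm)
open Cfsg.Agent.LieClassical.OrthFinite (glEquiv glEquiv_apply)
open Cfsg.Agent.H951 (fx cm Inv)
open Cfsg.Agent.H278.Cov (Red Ext)
open scoped MatrixGroups Matrix

universe u v

/-- `H975.Cov.a_case` : maximal subgroups of `Ω⁻₈(q)` containing elements of order `r_8` -/
def ACase : Prop := ∀ {F : Type} [Field F] [Fintype F] {Q : QuadraticForm F (Fin 8 → F)} {H : Subgroup (GL (Fin 8) F)}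
  {p f r8 : ℕ}, p.Prime → 1 ≤ f → Nat.card F = p ^ f → PP p (f * 8) r8 → Nondeg Q → ¬ IsPlus Q →
  IsMaximalIn (omegaGL (⇑Q)) H → ∀ {a : GL (Fin 8) F}, a ∈ H → orderOf a = r8 →
  ∃ K : Subalgebra F (Matrix (Fin 8) (Fin 8) F), IsFieldSubalgebra 2 K ∧ H ≤ subalgebraNormalizer K

section E

variable {F : Type u} [Field F] {V : Type v} [AddCommGroup V] [Module F V] {Q : QuadraticForm F V}

/-- back from matrices -/
theorem E_le_of_omega [Fintype F] {n : ℕ} (hn5 : 5 ≤ n) (hQ : Nondeg Q) {H : Subgroup (V ≃ₗ[F] V)} (φ : V ≃ₗ[F] (Fin n → F))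
    (h : omegaGL (⇑(tq Q φ)) ≤ H.map (cj φ).toMonoidHom) : E Q ≤ H := by
  have hQ' := nondeg_tq hQ φ
  have hQ'' := H884.OddForm.isNondegenerate_of_nondeg _ hQ'
  rw [E, Subgroup.closure_le]
  rintro _ ⟨u, w, hu, hw, rfl⟩
  have hu' : (H884.OmegaGL.bundle (⇑(tq Q φ)) hQ'') (φ u) = 0 := by
    change Q (φ.symm (φ u)) = 0
    rw [φ.symm_apply_apply, hu]
  have hw' : polar (H884.OmegaGL.bundle (⇑(tq Q φ)) hQ'') (φ u) (φ w) = 0 := by
    change polar (tq Q φ) (φ u) (φ w) = 0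
    rw [polar_tq, φ.symm_apply_apply, φ.symm_apply_apply, hw]
  have h1 : cj φ (siegel Q u w hu hw) ∈ omegaGL (⇑(tq Q φ)) := by
    rw [H884.OmegaGL.mem_omegaGL _ hQ'' (by rw [Fintype.card_fin]; exact hn5)]
    have h2 : glEquiv (Fin n) F (cj φ (siegel Q u w hu hw)) = siegel _ (φ u) (φ w) hu' hw' := by
      apply LinearEquiv.ext
      intro v
      rw [glEquiv_apply, siegel_apply, cj_apply, siegel_apply, map_sub, map_sub, map_add, map_smul, map_smul, map_smul,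
        φ.apply_symm_apply]
      have e1 : ∀ a b : V, polar (H884.OmegaGL.bundle (⇑(tq Q φ)) hQ'') (φ a) (φ b) = polar Q a b := by
        intro a b
        change polar (tq Q φ) (φ a) (φ b) = _
        rw [polar_tq, φ.symm_apply_apply, φ.symm_apply_apply]
      have e2 : (H884.OmegaGL.bundle (⇑(tq Q φ)) hQ'') (φ w) = Q w := by
        change Q (φ.symm (φ w)) = _
        rw [φ.symm_apply_apply]
      have e3 : v = φ (φ.symm v) := (φ.apply_symm_apply v).symm
      rw [e2]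
      conv_rhs => rw [e3, e1, e1]
      rw [φ.apply_symm_apply]
    rw [h2]
    exact siegel_mem_E hu' hw'
  obtain ⟨x, hx, hxe⟩ := h h1
  have : x = siegel Q u w hu hw := (cj φ).injective hxe
  rw [← this]
  exact hx

/-- **groups of isometries of `Ω⁻₈(q)`, `q` odd, containing elements of order `r_8`, `r_6`** -/
theorem eight_abs (hA : ACase) {F : Type} [Field F] [Fintype F] {V : Type} [AddCommGroup V] [Module F V] [FiniteDimensional F V]
    {Q : QuadraticForm F V} (hQ : Nondeg Q) (hP : ¬ IsPlus Q) (hdim : finrank F V = 8)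
    {H : Subgroup (V ≃ₗ[F] V)} (hH : H ≤ O Q) {p f r8 r6 : ℕ} (hp : p.Prime) (hf : 1 ≤ f) (hpf : Nat.card F = p ^ f)
    (h8 : PP p (f * 8) r8) (h6 : PP p (f * 6) r6) {a b : V ≃ₗ[F] V} (ha : a ∈ H) (hb : b ∈ H) (hoa : orderOf a = r8)
    (hob : orderOf b = r6) : E Q ≤ H := by
  let φ : V ≃ₗ[F] (Fin 8 → F) := LinearEquiv.ofFinrankEq _ _ (by rw [Module.finrank_fintype_fun_eq_card, Fintype.card_fin, hdim])
  have hQ' := nondeg_tq hQ φ
  have hP' : ¬ IsPlus (tq Q φ) := fun h => hP (h.of_equiv φ.symm fun v => rfl)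
  refine E_le_of_omega (n := 8) (by norm_num) hQ φ ?_
  by_contra hcon
  have hlt : H.map (cj φ).toMonoidHom ⊓ omegaGL (⇑(tq Q φ)) < omegaGL (⇑(tq Q φ)) :=
    lt_of_le_of_ne inf_le_right fun h => hcon (by rw [← h]; exact inf_le_left)
  obtain ⟨M, hM, hle⟩ := exists_max hlt
  have hG : Good (tq Q φ) := LieClassical.OrthFinite.good_of_finite hQ' (by
    rw [Module.finrank_fintype_fun_eq_card, Fintype.card_fin]; norm_num)
  have hD : H390.Lift.Data (tq Q φ) := by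
    obtain ⟨x, y, hxy⟩ := hG.exists_hyp
    refine H390.data_of _ (nondegenerate_of_nondeg hQ') (by rw [Fintype.card_fin]; norm_num) ⟨x, ?_, hxy.left⟩
      (Or.inr (by rw [Fintype.card_fin]; norm_num))
    rintro rfl
    have := hxy.pair
    rw [polar_zero_left] at this
    exact zero_ne_one this
  have hmem : ∀ {c : V ≃ₗ[F] V}, c ∈ H → Odd (orderOf c) → cj φ c ∈ M := by
    intro c hc ho
    apply hle
    refine ⟨⟨c, hc, rfl⟩, ?_⟩
    obtain ⟨x, hx⟩ := exists_omega hD (cj_iso φ (hH hc)) ho (by rw [← map_pow, pow_orderOf_eq_one, map_one])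
    exact ⟨x.1, x.2, hx⟩
  have hf8 := h8.odd (by omega)
  have hf6 := h6.odd (by omega)
  have ha' := hmem ha (by rw [hoa]; exact hf8)
  have hb' := hmem hb (by rw [hob]; exact hf6)
  have hoa' : orderOf (cj φ a) = r8 := by rw [← hoa]; exact MulEquiv.orderOf_eq _ a
  have hob' : orderOf (cj φ b) = r6 := by rw [← hob]; exact MulEquiv.orderOf_eq _ b
  obtain ⟨K, hK, hMK⟩ := hA hp hf hpf h8 hQ' hP' hM ha' hoa'
  have hpa : PP (Nat.card F) 8 r8 := by rw [hpf]; exact h8.of_pow hf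
  have hpb : PP (Nat.card F) 6 r6 := by rw [hpf]; exact h6.of_pow hf
  exact no_field2 hQ' (H := M) (hM.1.le.trans omega_le) hpa hpb (by rw [Fintype.card_fin]) (by decide) (by decide) (by norm_num)
    (by norm_num) (by decide) (by rw [← hoa']; exact Subgroup.orderOf_dvd_natCard M ha')
    (by rw [← hob']; exact Subgroup.orderOf_dvd_natCard M hb') hK hMK

end E

theorem pp_seventeen : PP 17 6 13 := by
  refine ⟨by norm_num, ?_⟩
  rw [orderOf_eq_iff (by norm_num)]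
  decide

/-- a primitive prime power of order six different from `7` -/
theorem lq_six {p f : ℕ} (hp : p.Prime) (hf : 1 ≤ f) (h2 : p ≠ 2) (hq : 9 ≤ p ^ f) :
    ∃ r a, PP p (f * 6) r ∧ 7 < r ^ a ∧ r ^ a ∣ (p ^ f) ^ 6 - 1 := by
  by_cases h17 : p = 17 ∧ f = 1
  · obtain ⟨rfl, rfl⟩ := h17
    exact ⟨13, 1, pp_seventeen, by norm_num, by norm_num⟩
  · obtain ⟨r, hr⟩ := H951.Rl.exists_big hp hf (k := 6) le_rfl (by
      simp only [List.mem_cons, Prod.mk.injEq, List.not_mem_nil, or_false]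
      rintro (h | h | h | h | h | h | h | h | h | h | h | h)
      all_goals first
        | exact h2 h.1
        | exact h17 ⟨h.1, h.2.1⟩
        | (obtain ⟨rfl, rfl, -⟩ := h; norm_num at hq))
    exact ⟨r, _, ⟨hr.prime, hr.ord⟩, by have := hr.big; omega, hr.dvd⟩

section ctx

variable {F : Type} [Field F] [Fintype F]
variable {G : Type u} [Group G] [Finite G] {T : Subgroup G} [T.Normal] {hG : Good (oddForm 4 F)}
  {eT : T ≃* POmega F (⇑(oddForm 4 F))} {hI : Ind ((eP hG eT :))} {X Y : Subgroup G} {p f : ℕ}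

namespace Ctx

theorem point9 (h : Ctx hI X Y p f 4) (hR : S5836Stmt) (hA : ACase) (hodd : Odd (Fintype.card F)) (hq : 9 ≤ p ^ f)
    {v : Unit ⊕ (Fin 4 ⊕ Fin 4) → F} (hv : Pt hI X v) (h8 : Has T X p f 8) : ResB hI X 4 v := by
  by_cases h6 : Has T X p f 6
  · obtain ⟨r8, hr8, hd8⟩ := h8
    obtain ⟨r6, hr6, hd6⟩ := h6
    obtain ⟨x, hx, hox⟩ := h.elt1 hr8 (by norm_num) (by norm_num) hd8
    obtain ⟨y, hy, hoy⟩ := h.elt1 hr6 (by norm_num) (by norm_num) hd6
    have hxv := hv.fix_of_odd h.two_ne hx (by rw [hox]; simpa using h.odd_of_pp hr8 (by norm_num) 1)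
    have hyv := hv.fix_of_odd h.two_ne hy (by rw [hoy]; simpa using h.odd_of_pp hr6 (by norm_num) 1)
    have hnd : Nondeg (res (oddForm 4 F) (perp (oddForm 4 F) (F ∙ v))) :=
      nondeg_perp hG.nondeg (nondeg_line h.two_ne hv.ne)
    have hU := h.finrank_U hv
    have hE := eight_abs hA hnd hv.minus hU (resG_le_O (U := perp (oddForm 4 F) (F ∙ v)) (preG_le (eT := eT) (X := X)))
      h.prime h.pos h.card hr8 hr6 (rst_mem (hv.le_perp hx) hx) (rst_mem (hv.le_perp hy) hy)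
      (by rw [orderOf_rst h.two_ne hv.ne hxv, hox]) (by rw [orderOf_rst h.two_ne hv.ne hyv, hoy])
    have hGU : Good (res (oddForm 4 F) (perp (oddForm 4 F) (F ∙ v))) :=
      LieClassical.OrthFinite.good_of_finite hnd (by rw [hU]; norm_num)
    exact ⟨h.dim, hv.ne, hv.minus, hv.fix, fun u w hu hw huv hwv =>
      sieg_of hv.ne h.two_ne preG_le (fun g hg => hv.sgn hg) hGU hE hu hw huv hwv⟩
  · exfalso
    obtain ⟨r, a, hr, hb, hd⟩ := lq_six h.prime h.pos h.podd hq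
    have hn : NN p f 6 r a := ⟨h.prime, h.pos, hr, Or.inr ⟨rfl, hb⟩⟩
    rcases h.side (i := 3) (by norm_num) (by norm_num) (by norm_num) hr with h1 | h1
    · exact h6 ⟨r, hr, (dvd_pow_self r hn.ha).trans (h1 a hd)⟩
    · have h2 := h1 a hd
      rcases h.symm.nine_elt hR hodd (by omega) hn h2 with h3 | ⟨-, K, hK, hle⟩
      · exact h.no_red' hv.ne0 hv.fix (k := 6) (by norm_num) (by norm_num) ⟨r, hr, (dvd_pow_self r hn.ha).trans h2⟩ h3
      · exact h.four_kill hv fun r hr => h.symm.no_four hK hle hr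

/-- **`Ω_9(q)`** -/
theorem main9 (h : Ctx hI X Y p f 4) (hR : S5836Stmt) (hA : ACase) (hodd : Odd (Fintype.card F)) (hq : 9 ≤ p ^ f) :
    ∃ v, ResB hI X 4 v ∨ ResB hI Y 4 v := by
  obtain ⟨r, a, hr, hb, hd⟩ := lp_of h.prime h.pos h.podd (k := 8) le_rfl (by omega)
  have hn : NN p f 8 r a := ⟨h.prime, h.pos, hr, Or.inl ⟨rfl, by omega⟩⟩
  rcases h.side (i := 4) (by norm_num) (by norm_num) (by norm_num) hr with h1 | h1
  · have h2 := h1 a hd
    have h3 : Has T X p f (2 * 4) := ⟨r, hr, (dvd_pow_self r hn.ha).trans h2⟩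
    rcases h.nine_elt hR hodd (by omega) hn h2 with h4 | ⟨h4, -⟩
    · obtain ⟨v, hv⟩ := h.pt_of_red (by norm_num) h3 h4
      exact ⟨v, Or.inl (h.point9 hR hA hodd hq hv h3)⟩
    · omega
  · have h2 := h1 a hd
    have h3 : Has T Y p f (2 * 4) := ⟨r, hr, (dvd_pow_self r hn.ha).trans h2⟩
    rcases h.symm.nine_elt hR hodd (by omega) hn h2 with h4 | ⟨h4, -⟩
    · obtain ⟨v, hv⟩ := h.symm.pt_of_red (by norm_num) h3 h4
      exact ⟨v, Or.inr (h.symm.point9 hR hA hodd hq hv h3)⟩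
    · omega

end Ctx

end ctx

/-- **no factorization of `Ω_9(q)`, `q ≥ 9`** -/
theorem false9 (hR : S5836Stmt) (hA : ACase) {G : Type u} [Group G] [Finite G] {T X Y : Subgroup G} {F : Type} [Field F]
    [Fintype F] (hodd : Odd (Fintype.card F)) (hq : 9 ≤ Fintype.card F) (hf : Fac T X Y)
    (hT : Nonempty (T ≃* POmega F (quadFormOdd 4 F))) : False := by
  obtain ⟨p, f, hp, hf1, hF'⟩ := exists_char F
  have hF : Fintype.card F = p ^ f := by rw [← Nat.card_eq_fintype_card]; exact hF'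
  have := hf.normal
  obtain ⟨hG, eT, hI, h⟩ := exists_ctx (by norm_num) hp hf1 hF hodd hf hT
  obtain ⟨e⟩ := hT
  exact h.false_of (by norm_num) hodd e (h.main9 hR hA hodd (by rw [← hF]; exact hq))

end Cfsg.Agent.H449.Reg
end

-- part: H449/Reg/Nineteen
section
/-!
# S3691, section 5: `Ω_19(3)` (helper449)

* `count` : if `X` fixes a nonzero subspace of dimension at most three, then `(q - 1) q ^ (n - 2) ≤ |Y| q ^ 3`
-/

set_option autoImplicit false
set_option linter.unusedSectionVars false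

namespace Cfsg.Agent.H449.Reg

open Module QuadraticMap Cfsg Cfsg.Geo Cfsg.Agent.LieClassical.OrthCore Cfsg.Agent.LieClassical.OrthTrans
  Cfsg.Agent.ClassicalGeometry.OrthSemi
  Cfsg.Agent.H454.Reg Cfsg.Agent.H884.El Cfsg.Agent.H955 Cfsg.Agent.H954.TSing Cfsg.Agent.H193.Dg Cfsg.Agent.H851.Dg
open Cfsg.Agent.LieClassical.OrthForms (oddForm coe_oddForm)
open Cfsg.Agent.LieClassical.OrthFinite (glEquiv glEquiv_apply)
open Cfsg.Agent.H951 (fx cm Inv)
open Cfsg.Agent.H278.Cov (Red Ext)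
open scoped MatrixGroups Matrix

universe u v

section count

variable {G : Type u} [Group G] {T : Subgroup G} [T.Normal]
variable {F V : Type*} [Field F] [AddCommGroup V] [Module F V] {Q : QuadraticForm F V}
variable {e : T ≃* (↥(E Q) ⧸ Subgroup.center ↥(E Q))}

/-- **counting vectors of a given norm** -/
theorem count [Finite G] [Finite F] [FiniteDimensional F V] (hG : Good Q) (h : Ind e) {X Y : Subgroup G} (hf : Fac T X Y)
    {S : Submodule F V} (hS : S ≠ ⊥) (hX : ∀ x ∈ X, act h x S = S) (hd : finrank F S ≤ 3) :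
    (Nat.card F - 1) * Nat.card F ^ (finrank F V - 2) ≤ Nat.card Y * Nat.card F ^ 3 := by
  classical
  have hfV : Finite V := Module.finite_of_finite F
  have := Fintype.ofFinite V
  have := Fintype.ofFinite F
  have := Fintype.ofFinite Y
  obtain ⟨s, hs, hs0⟩ := Submodule.exists_mem_ne_zero_of_ne_bot hS
  obtain ⟨x, y, hxy⟩ := hG.exists_hyp
  set Z := perp Q (Submodule.span F {x, y}) with hZ
  have hzx : ∀ z : Z, polar Q (z : V) x = 0 := fun z => by
    rw [polar_comm]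
    exact z.2 x (Submodule.subset_span (by simp))
  have hzy : ∀ z : Z, polar Q (z : V) y = 0 := fun z => by
    rw [polar_comm]
    exact z.2 y (Submodule.subset_span (by simp))
  let Φ : Fˣ × Z → V := fun az => (az.1 : F) • x + (((az.1⁻¹ : Fˣ) : F) * (Q s - Q (az.2 : V))) • y + (az.2 : V)
  have hpy : ∀ az, polar Q (Φ az) y = az.1 := by
    intro az
    simp only [Φ]
    rw [polar_add_left, polar_add_left, polar_smul_left, polar_smul_left, hxy.pair, hxy.polar_right, hzy]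
    simp
  have hpx : ∀ az, polar Q (Φ az) x = ((az.1⁻¹ : Fˣ) : F) * (Q s - Q (az.2 : V)) := by
    intro az
    simp only [Φ]
    rw [polar_add_left, polar_add_left, polar_smul_left, polar_smul_left, hxy.pair', hxy.polar_left, hzx]
    simp
  have hQΦ : ∀ az, Q (Φ az) = Q s := by
    intro az
    simp only [Φ]
    rw [Q_add, Q_add, QuadraticMap.map_smul, QuadraticMap.map_smul, hxy.left, hxy.right, polar_smul_left, polar_smul_right,
      hxy.pair, polar_add_left, polar_smul_left, polar_smul_left, polar_comm Q x, polar_comm Q y, hzx, hzy]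
    have : (az.1 : F) * ((az.1⁻¹ : Fˣ) : F) = 1 := by simp
    simp only [smul_eq_mul, mul_zero, mul_one, add_zero, zero_add]
    rw [← mul_assoc, this]
    ring
  have hΦ0 : ∀ az, Φ az ≠ 0 := by
    intro az h0
    have := hpy az
    rw [h0, polar_zero_left] at this
    exact az.1.ne_zero this.symm
  have hinj : Function.Injective Φ := by
    rintro ⟨a, z⟩ ⟨a', z'⟩ hab
    have h1 : (a : F) = a' := by rw [← hpy ⟨a, z⟩, hab, hpy]
    have h2 : a = a' := Units.ext h1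
    subst h2
    have h3 := hpx ⟨a, z⟩
    rw [hab, hpx] at h3
    have h4 : Φ ⟨a, z⟩ = (a : F) • x + (((a⁻¹ : Fˣ) : F) * (Q s - Q (z : V))) • y + (z : V) := rfl
    have h5 : Φ ⟨a, z'⟩ = (a : F) • x + (((a⁻¹ : Fˣ) : F) * (Q s - Q (z' : V))) • y + (z' : V) := rfl
    rw [h4, h5] at hab
    simp only at h3
    rw [h3] at hab
    have h6 : (z : V) = z' := add_left_cancel hab
    rw [Subtype.ext h6]
  have hcov : ∀ az, ∃ b : Y, Φ az ∈ act h (b : G) S := by
    intro az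
    obtain ⟨g, hg, hgs⟩ := hG.trans_norm hs0 (hΦ0 az) (hQΦ az).symm
    obtain ⟨b, hb, hbS⟩ := exists_act_eq hG h hf.symm hX hg
    exact ⟨⟨b, hb⟩, by rw [hbS, ← hgs]; exact ⟨s, hs, rfl⟩⟩
  have hcardS : ∀ b : Y, ((act h (b : G) S : Submodule F V) : Set V).toFinset.card ≤ Nat.card F ^ 3 := by
    intro b
    have h1 : Nat.card (act h (b : G) S) = Nat.card F ^ finrank F (act h (b : G) S) := Module.natCard_eq_pow_finrank
    have h2 : ((act h (b : G) S : Submodule F V) : Set V).toFinset.card = Nat.card (act h (b : G) S) := by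
      rw [Set.toFinset_card, Nat.card_eq_fintype_card]
      rfl
    rw [h2, h1, finrank_act]
    exact Nat.pow_le_pow_right Nat.card_pos hd
  have h1 : (Finset.univ.image Φ).card ≤
      ((Finset.univ : Finset Y).biUnion fun b => ((act h (b : G) S : Submodule F V) : Set V).toFinset).card := by
    apply Finset.card_le_card
    intro w hw
    obtain ⟨az, -, rfl⟩ := Finset.mem_image.1 hw
    obtain ⟨b, hb⟩ := hcov az
    exact Finset.mem_biUnion.2 ⟨b, Finset.mem_univ _, by simpa using hb⟩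
  rw [Finset.card_image_of_injective _ hinj, Finset.card_univ, Fintype.card_prod] at h1
  have h2 := Finset.card_biUnion_le_card_mul (Finset.univ : Finset Y)
    (fun b => ((act h (b : G) S : Submodule F V) : Set V).toFinset) (Nat.card F ^ 3) fun b _ => hcardS b
  have h3 : Fintype.card Fˣ = Nat.card F - 1 := by rw [Fintype.card_units, Nat.card_eq_fintype_card]
  have h4 : Nat.card F ^ (finrank F V - 2) ≤ Fintype.card Z := by
    rw [← Nat.card_eq_fintype_card, Module.natCard_eq_pow_finrank (K := F) (V := Z)]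
    apply Nat.pow_le_pow_right Nat.card_pos
    rw [hZ, finrank_perp hG.nondeg]
    have h5 : finrank F (Submodule.span F {x, y}) ≤ 2 := by
      have h6 := finrank_span_finset_le_card (R := F) ({x, y} : Finset V)
      have h7 : ({x, y} : Finset V).card ≤ 2 := Finset.card_le_two
      have h8 : (({x, y} : Finset V) : Set V) = {x, y} := by simp
      rw [Set.finrank, h8] at h6
      omega
    omega
  calc (Nat.card F - 1) * Nat.card F ^ (finrank F V - 2) ≤ Fintype.card Fˣ * Fintype.card Z := by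
        rw [h3]; exact Nat.mul_le_mul_left _ h4
    _ ≤ _ := h1
    _ ≤ _ := h2
    _ = Nat.card Y * Nat.card F ^ 3 := by rw [Finset.card_univ, Nat.card_eq_fintype_card (α := Y)]

end count

/-- the order of a factor -/
theorem card_factor_le {G : Type u} [Group G] [Finite G] {T Y : Subgroup G} [T.Normal]
    (hc : Subgroup.centralizer (T : Set G) = ⊥) :
    Nat.card Y ≤ Nat.card (Y.subgroupOf T) * Nat.card (Cfsg.Out T) := by
  rw [← card_subgroupOf_mul T Y]
  apply Nat.mul_le_mul_left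
  have h1 : Nat.card (Y.map (QuotientGroup.mk' T)) ≤ Nat.card (G ⧸ T) := Subgroup.card_le_card_group _
  have h2 : Nat.card (G ⧸ T) ∣ Nat.card (Cfsg.Out T) := index_dvd_out T hc
  have hfin : Finite (Cfsg.Out T) := by
    have : Finite (MulAut T) := Finite.of_injective (fun σ => (σ : T → T)) DFunLike.coe_injective
    exact Quotient.finite _
  exact h1.trans (Nat.le_of_dvd Nat.card_pos h2)

/-- **the small list for `(q, n, k, r) = (3, 19, 18, 37)`** -/
def Small37 : Prop := ∀ {F : Type} [Field F] [Finite F], Nat.card F = 3 → ∀ (R : Subgroup (GL (Fin 19) F)),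
  37 ∣ Nat.card R → ActsIrreducibly (matrixSet R) →
    specialLinear (Fin 19) F ≤ R ∨
    (∃ f : (Fin 19 → F) → (Fin 19 → F) → F, IsSymplecticForm f ∧
        ∀ x : GL (Fin 19) F, FixesForm {(x : Matrix (Fin 19) (Fin 19) F)} f → x ∈ R) ∨
    (∃ (τ : F ≃+* F) (f : (Fin 19 → F) → (Fin 19 → F) → F), IsUnitaryForm τ f ∧
        ∀ x : GL (Fin 19) F, FixesForm {(x : Matrix (Fin 19) (Fin 19) F)} f →
          Matrix.GeneralLinearGroup.det x = 1 → x ∈ R) ∨
    (∃ Q : (Fin 19 → F) → F, IsNondegenerateQuadraticForm Q ∧ omegaGL Q ≤ R) ∨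
    Nat.card R ≤ 3000000

theorem sm_iso (hS : Small37) {F : Type} [Field F] [Fintype F] (hF : Nat.card F = 3) {Q : QuadraticForm F (Fin 19 → F)}
    (hQ : Nondeg Q) {H : Subgroup (GL (Fin 19) F)} (hH : H ≤ Cfsg.isometryGroup F (⇑Q)) (hd : 37 ∣ Nat.card H) :
    Red H ∨ omegaGL (⇑Q) ≤ H ∨ Nat.card H ≤ 3000000 := by
  by_cases hred : Red H
  · exact Or.inl hred
  right
  have hQ' := H884.OddForm.isNondegenerate_of_nondeg _ hQ
  have hmem : ∀ x ∈ H, ∀ v, Q ((x : Matrix (Fin 19) (Fin 19) F) *ᵥ v) = Q v := fun x hx =>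
    LieClassical.OrthFinite.mem_isometryGroup_iff.1 (hH hx)
  have hirr : ActsIrreducibly (matrixSet H) := by
    intro W hW
    by_contra hcon
    push Not at hcon
    refine hred ⟨W, hcon.1, hcon.2, fun g hg => H884.OmegaGL.mem_subspaceStabilizer.2 fun w hw => ?_⟩
    exact hW _ ⟨g, hg, rfl⟩ ⟨w, hw, rfl⟩
  rcases hS hF H hd hirr with h | ⟨f', hf', h⟩ | ⟨τ, f', hf', h⟩ | ⟨Q', hQ'', h⟩ | h
  · exfalso
    refine H905.not_sl_le_quadSimilarityGroup (by rw [Fintype.card_fin]; norm_num) hQ' fun x hx => ?_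
    exact ⟨1, fun v => by rw [Units.val_one, one_mul]; exact hmem x (h hx) v⟩
  · exact (H558.Cov.symp_quad_false (by rw [Fintype.card_fin]; norm_num) hQ' hf' fun x hx => hmem x (h x hx)).elim
  · exact (H558.Cov.unit_quad_false (by rw [Fintype.card_fin]; norm_num) hQ' hf' fun x hx hd => hmem x (h x hx hd)).elim
  · left
    have h1 : FixesQuadForm (matrixSet (omegaGL Q')) (⇑Q) := by
      rintro _ ⟨x, hx, rfl⟩ v
      exact hmem x (h hx) v
    obtain ⟨c, hc, h2⟩ := H925.Nat.quad_prop (H925.Nat.omegaGL_absIrr hQ'' (by rw [Fintype.card_fin]; norm_num)) hQ'' hQ'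
      (H925.Nat.omegaGL_fixes Q') h1
    have h3 : omegaGL (⇑Q) = omegaGL Q' := H925.Nat.omegaGL_smul hc h2
    rw [h3]
    exact h
  · exact Or.inr h

section main

variable {ι : Type} [Fintype ι] [DecidableEq ι] {F : Type} [Field F] [Fintype F] {Q : QuadraticForm F (ι → F)}
variable {G : Type u} [Group G] [Finite G] {T : Subgroup G} [T.Normal] {hG : Good Q} {eT : T ≃* POmega F (⇑Q)}
  {hI : Ind ((eP hG eT :))} {X Y : Subgroup G}

namespace Ctx

/-- the list lemma for a factor containing `37` -/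
theorem sm_pre (h : Ctx hI X Y 3 1 9) (hS : Small37) (hd : 37 ∣ Nat.card (X.subgroupOf T)) :
    Red (preG eT X) ∨ Nat.card (preG eT X) ≤ 3000000 := by
  have hF : Nat.card F = 3 := by rw [h.card]; rfl
  let φ : (ι → F) ≃ₗ[F] (Fin 19 → F) := LinearEquiv.ofFinrankEq _ _ (by
    rw [Module.finrank_fintype_fun_eq_card, Module.finrank_fintype_fun_eq_card, Fintype.card_fin, h.dim])
  set H1 : Subgroup ((ι → F) ≃ₗ[F] (ι → F)) := (preG eT X).map (glEquiv ι F).toMonoidHom with hH1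
  have hH1O : H1 ≤ O Q := by
    rintro _ ⟨g, hg, rfl⟩
    rw [mem_O]
    intro v
    exact LieClassical.OrthFinite.mem_isometryGroup_iff.1 (preG_le hg) v
  have hc1 : Nat.card H1 = Nat.card (preG eT X) := Subgroup.card_map_of_injective (glEquiv ι F).injective
  have hc2 : Nat.card (H1.map (cj φ).toMonoidHom) = Nat.card H1 := Subgroup.card_map_of_injective (cj φ).injective
  rcases sm_iso hS hF (nondeg_tq hG.nondeg φ) (H := H1.map (cj φ).toMonoidHom) (by
    rintro _ ⟨x, hx, rfl⟩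
    exact cj_iso φ (hH1O hx)) (by rw [hc2, hc1]; exact hd.trans card_dvd_preG) with ⟨W, hW0, hW1, hW⟩ | h1 | h1
  · left
    refine ⟨W.comap (φ : (ι → F) →ₗ[F] (Fin 19 → F)), ?_, ?_, ?_⟩
    · intro h0
      apply hW0
      rw [Submodule.eq_bot_iff]
      intro w hw
      have : φ.symm w ∈ W.comap (φ : (ι → F) →ₗ[F] (Fin 19 → F)) := by
        change φ (φ.symm w) ∈ W
        rwa [φ.apply_symm_apply]
      rw [h0, Submodule.mem_bot] at this
      rw [← φ.apply_symm_apply w, this, map_zero]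
    · intro h0
      apply hW1
      rw [eq_top_iff]
      intro w _
      have : φ.symm w ∈ W.comap (φ : (ι → F) →ₗ[F] (Fin 19 → F)) := by rw [h0]; trivial
      have h1 : φ (φ.symm w) ∈ W := this
      rwa [φ.apply_symm_apply] at h1
    · intro g hg
      refine H884.OmegaGL.mem_subspaceStabilizer.2 fun w hw => ?_
      have h1 : cj φ (glEquiv ι F g) ∈ subspaceStabilizer W := hW ⟨glEquiv ι F g, ⟨g, hg, rfl⟩, rfl⟩
      have h2 : (cj φ (glEquiv ι F g) : Matrix (Fin 19) (Fin 19) F) *ᵥ φ w ∈ W := (h1 (φ w)).1 hw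
      rw [cj_apply'] at h2
      exact h2
  · exfalso
    have h2 := E_le_of_omega (n := 19) (by norm_num) hG.nondeg φ h1
    apply not_omega_le h.fac.not_le_left (eT := eT)
    intro x hx
    have hx' : glEquiv ι F x ∈ E Q := by
      have h5 : 5 ≤ Fintype.card ι := by rw [h.dim]; norm_num
      have hb : H884.OmegaGL.bundle (⇑Q) (H884.OddForm.isNondegenerate_of_nondeg _ hG.nondeg) = Q := DFunLike.coe_injective rfl
      have h6 := (H884.OmegaGL.mem_omegaGL _ (H884.OddForm.isNondegenerate_of_nondeg _ hG.nondeg) h5 x).1 hx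
      rwa [hb] at h6
    obtain ⟨y, hy, hyx⟩ := h2 hx'
    have : y = x := (glEquiv ι F).injective hyx
    rw [← this]
    exact hy
  · right
    rw [← hc1, ← hc2]
    exact h1

theorem pp37 : PP 3 (1 * (2 * 9)) 37 := by
  refine ⟨by norm_num, ?_⟩
  rw [orderOf_eq_iff (by norm_num)]
  decide

/-- **`Ω_19(3)`** -/
theorem main19_aux (h : Ctx hI X Y 3 1 9) (hP : H659.CovCore.S5948Stmt.{0}) (hS : Small37)
    (hout : Nat.card (Cfsg.Out T) ∣ 2) (hB : Big T X 3 1 16) : ∃ v, ResB hI X 9 v := by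
  have hred : Red (preG eT X) := by
    rcases h.list hP (by norm_num) (k := 16) (by norm_num) (by norm_num) hB with h1 | ⟨s, K, hs, hsd, -⟩
    · exact h1
    · exfalso
      have h3 : s ∣ 1 := by
        have h4 : Nat.gcd (2 * 9 + 1) 16 = 1 := by norm_num
        rwa [h4] at hsd
      exact hs.one_lt.ne' (Nat.dvd_one.1 h3)
  by_cases hX : Has T X 3 1 (2 * 9)
  · obtain ⟨v, hv⟩ := h.pt_of_red (by norm_num) hX hred
    refine ⟨v, h.stepB hP (by norm_num) hv hX (k := 16) (by norm_num) (by norm_num) hB fun s hs hd => ?_⟩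
    have h4 : Nat.gcd (2 * 9) 16 = 2 := by norm_num
    rw [h4] at hd
    rw [(Nat.prime_dvd_prime_iff_eq hs Nat.prime_two).1 hd]
    exact h.no_two (by norm_num) hv hX (i := 8) (by norm_num) ⟨8, by norm_num⟩ hB.has
  · exfalso
    have h37 : 37 ∣ Nat.card (Y.subgroupOf T) := by
      rcases h.side (i := 9) (by norm_num) le_rfl (by norm_num) pp37 with h1 | h1
      · exfalso
        exact hX ⟨37, pp37, by simpa only [_root_.pow_one] using h1 1 (by norm_num)⟩
      · simpa only [_root_.pow_one] using h1 1 (by norm_num)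
    have hY : Has T Y 3 1 (2 * 9) := ⟨37, pp37, h37⟩
    rcases h.symm.sm_pre hS h37 with h1 | h1
    · obtain ⟨v, hv⟩ := h.symm.pt_of_red (by norm_num) hY h1
      exact h.symm.no_red' hv.ne0 hv.fix (k := 16) (by norm_num) (by norm_num) hB.has hred
    · -- counting
      obtain ⟨r, hr, hd⟩ := hB.has
      obtain ⟨x, hx, ho⟩ := h.elt1 hr (by norm_num) (by norm_num) hd
      have hx1 := ne_one hr.prime ho
      have hiso := h.isoOf hr (by norm_num) hx ho
      have hfin : finrank F (ι → F) = 19 := by rw [Module.finrank_fintype_fun_eq_card, h.dim]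
      obtain ⟨hcm, -⟩ := hiso.even_case hG.nondeg (lin_ne_one hx1) (h.pp hr) (by decide) (by rw [hfin]; norm_num)
      have hadd := hiso.finrank_add
      obtain ⟨S, hS0, hSle, hSX⟩ := red_fixed hI (h.pp hr) (by norm_num) (by rw [h.dim]; norm_num) hx
        (by rw [← ho, pow_orderOf_eq_one]) hx1 hred
      have hS3 : finrank F S ≤ 3 := by
        have := Submodule.finrank_mono hSle
        omega
      have h2 := count hG hI h.fac hS0 hSX hS3
      have hF : Nat.card F = 3 := by rw [h.card]; rfl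
      rw [hF, hfin] at h2
      have h3 := card_factor_le (Y := Y) h.fac.cent
      have h4 : Nat.card (Y.subgroupOf T) ≤ 3000000 :=
        (Nat.le_of_dvd Nat.card_pos card_dvd_preG).trans h1
      have h5 : Nat.card (Cfsg.Out T) ≤ 2 := Nat.le_of_dvd (by norm_num) hout
      have h6 : Nat.card Y ≤ 3000000 * 2 := h3.trans (Nat.mul_le_mul h4 h5)
      norm_num only [] at h2
      omega

theorem main19 (h : Ctx hI X Y 3 1 9) (hP : H659.CovCore.S5948Stmt.{0}) (hS : Small37)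
    (hout : Nat.card (Cfsg.Out T) ∣ 2) : ∃ v, ResB hI X 9 v ∨ ResB hI Y 9 v := by
  rcases h.big_side (i := 8) (by norm_num) (by norm_num) (by norm_num)
    (lp_of Nat.prime_three le_rfl (by norm_num) (by norm_num) (by norm_num)) with hB | hB
  · obtain ⟨v, hv⟩ := h.main19_aux hP hS hout hB
    exact ⟨v, Or.inl hv⟩
  · obtain ⟨v, hv⟩ := h.symm.main19_aux hP hS hout hB
    exact ⟨v, Or.inr hv⟩

end Ctx

end main

/-- **no factorization of `Ω_19(3)`** -/
theorem false19 (hP : H659.CovCore.S5948Stmt.{0}) (hS : Small37) {G : Type u} [Group G] [Finite G] {T X Y : Subgroup G} {F : Type}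
    [Field F] [Fintype F] (hF : Fintype.card F = 3) (hf : Fac T X Y)
    (hT : Nonempty (T ≃* POmega F (quadFormOdd 9 F))) : False := by
  have hodd : Odd (Fintype.card F) := by rw [hF]; decide
  have := hf.normal
  obtain ⟨hG, eT, hI, h⟩ := exists_ctx (p := 3) (f := 1) (by norm_num) Nat.prime_three le_rfl (by rw [hF]; rfl) hodd hf hT
  obtain ⟨e⟩ := hT
  have hout := out_dvd (p := 3) (f := 1) (by norm_num) Nat.prime_three le_rfl (by rw [hF]; rfl) hodd hf e
  exact h.false_of (by norm_num) hodd e (h.main19 hP hS (by simpa only [_root_.mul_one] using hout))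

end Cfsg.Agent.H449.Reg
end

private theorem dce_740a3293b2ed : _root_.True := by
  try have : _root_.True := by simp only [_root_.Cfsg.Agent.H449.Reg.act.congr_simp]
  try have : _root_.True := by simp only [_root_.Cfsg.Agent.H898.Rg.preE.eq_1]
  exact _root_.True.intro
end

-- part: H449/Reg/OddRows
section
set_option linter.all false
open scoped Cfsg.Agent.FastGrp

/-!
# S3691: the field `oodd` of `H386.Rg.Inp` (helper449)

Explicit hypotheses: `S5948Stmt`, `S5836Stmt`, `ACase` (`H975.Cov.a_case`), `Small37` (helper2), `Seven` (helper430), `Ex.toFac`.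
-/

set_option autoImplicit false
set_option linter.unusedSectionVars false

namespace Cfsg.Agent.H449.Reg

open Module QuadraticMap Cfsg Cfsg.Geo Cfsg.Agent.LieClassical.OrthCore Cfsg.Agent.LieClassical.OrthTrans
  Cfsg.Agent.H454.Reg Cfsg.Agent.H884.El Cfsg.Agent.H955 Cfsg.Agent.H954.TSing Cfsg.Agent.H193.Dg Cfsg.Agent.H851.Dg
  Cfsg.Agent.OrdDiv Cfsg.Agent.H436
open Cfsg.Agent.LieClassical.OrthForms (oddForm coe_oddForm)

universe u

/-- **`Ω_7(q)`** (helper430) -/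
def Seven : Prop := ∀ {F : Type} [Field F] [Fintype F] {G : Type u} [Group G] [Finite G] {T : Subgroup G} [T.Normal]
  {hG : Good (oddForm 3 F)} {eT : T ≃* POmega F (⇑(oddForm 3 F))} {hI : Ind (eP hG eT)} {X Y : Subgroup G} {p f : ℕ},
  Ctx hI X Y p f 3 → 31 < p ^ f → (∃ v, ResB hI X 3 v) ∨ (∃ v, ResB hI Y 3 v)

theorem isNamed_oodd {T : Type u} [Group T] {F : Type} [Field F] [Fintype F] {m : ℕ} (hm : 3 ≤ m) (hodd : Odd (Fintype.card F))
    (e : T ≃* POmega F (quadFormOdd m F)) : IsNamed (.oodd m (Fintype.card F)) T := by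
  have h1 : fOOdd.den m (Fintype.card F) * Nat.card T = fOOdd.num m (Fintype.card F) := by
    rw [Nat.card_congr e.toEquiv]
    exact oodd_eq hm hodd
  refine ⟨⟨F, inferInstance, inferInstance, rfl, ⟨e⟩⟩, ⟨hm, hodd, Fintype.isPrimePow_card_of_field⟩, h1, ?_⟩
  have h2 : fOOdd.den m (Fintype.card F) = 2 := rfl
  change Nat.card T = fOOdd.num m (Fintype.card F) / fOOdd.den m (Fintype.card F)
  rw [← h1, h2, Nat.mul_div_cancel_left _ two_pos]

/-- **no factorization of `PΩ_{2m+1}(q)`** -/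
theorem no_fac_oodd (hP : H659.CovCore.S5948Stmt.{0}) (hR : S5836Stmt) (hA : ACase) (hS : Small37) (h7 : Seven.{u})
    {F : Type} [Field F] [Fintype F] {m : ℕ} (hm : 3 ≤ m) (hodd : Odd (Fintype.card F)) {G : Type u} [Group G] [Finite G]
    {T X Y : Subgroup G} (hf : Fac T X Y) (hT : Nonempty (T ≃* POmega F (quadFormOdd m F))) : False := by
  obtain ⟨e⟩ := hT
  obtain ⟨h31, h71, -, -⟩ := H370.Rg.oodd_ge hf.large (isNamed_oodd hm hodd e)
  rcases (by omega : m = 3 ∨ m = 4 ∨ 5 ≤ m) with rfl | rfl | h5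
  · obtain ⟨p, f, hp, hf1, hF'⟩ := exists_char F
    have hF : Fintype.card F = p ^ f := by rw [← Nat.card_eq_fintype_card]; exact hF'
    have := hf.normal
    obtain ⟨hG, eT, hI, h⟩ := exists_ctx (by norm_num) hp hf1 hF hodd hf ⟨e⟩
    have h1 : 31 < p ^ f := by rw [← hF]; exact h31 rfl
    refine h.false_of (by norm_num) hodd e ?_
    rcases h7 h h1 with ⟨v, hv⟩ | ⟨v, hv⟩
    · exact ⟨v, Or.inl hv⟩
    · exact ⟨v, Or.inr hv⟩
  · have h8 := h71 rfl
    have h9 : 9 ≤ Fintype.card F := by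
      obtain ⟨c, hc⟩ := hodd
      omega
    exact false9 hR hA hodd h9 hf ⟨e⟩
  · by_cases h39 : Fintype.card F = 3 ∧ m = 9
    · obtain ⟨h3, rfl⟩ := h39
      exact false19 hP hS h3 hf ⟨e⟩
    · exact false5 hP h5 hodd h39 hf ⟨e⟩

/-- **the field `oodd`** -/
theorem row_oodd (hP : H659.CovCore.S5948Stmt.{0}) (hR : S5836Stmt) (hA : ACase) (hS : Small37) (h7 : Seven.{u})
    (hfac : ∀ {G : Type u} [Group G] [Finite G] {T H B : Subgroup G}, Ex T H B → Fac T H B)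
    (F : Type) [Field F] [Fintype F] (m : ℕ) (hm : 3 ≤ m) (hodd : Odd (Fintype.card F)) :
    Cfsg.Agent.H454.Reg.Row.{0, u} (POmega F (quadFormOdd m F)) := fun _ _ _ hE hT => (no_fac_oodd hP hR hA hS h7 hm hodd (hfac hE) hT).elim

end Cfsg.Agent.H449.Reg
end

-- part: H73/Rg/HCore
section
set_option linter.all false
open scoped Cfsg.Agent.FastGrp

-- part: H73/Rg/HTab
section
/-!
# Tables for half classes (helper73)

`chk1` : the test for a number `M` (the order of a simple group in cross characteristic), the classes `e`, `e'` and the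
field exponent `f`; `no_crossH`, `no_sporH`.
-/

set_option autoImplicit false
set_option exponentiation.threshold 7000

namespace Cfsg.Agent.H73.Rg

open Cfsg.Agent.H902 Cfsg.Agent.H290.ElReg Cfsg.Agent.H290.ElTab Cfsg.Agent.H290.ElCross Cfsg.Agent.H563.KG
open Cfsg.Agent.H436 (Prim)

/-- the data of a test: the shape, the classes, the bound for small primes, lower bounds for the totients, the extra
classes, the smallest field -/
structure TD where
  Y : Art.Sh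
  e : ℕ
  e' : ℕ
  P : ℕ
  t : ℕ
  t' : ℕ
  exs : List ℕ
  q₀ : ℕ

/-- `M` contains half of the primitive part -/
def tb1 (p k M : ℕ) : Bool := Nat.ble (pc p k) ((Nat.gcd M (pc p k)) ^ 2)

/-- the small primes up to `P` -/
def smp (P : ℕ) : List ℕ := sps.filter fun p => Nat.ble p P

/-- the test at a small prime: it is impossible that all conditions hold -/
def tq1 (D : TD) (M d l f p : ℕ) : Bool :=
  p == l || (Nat.blt (p ^ f) D.q₀ || (!(tb1 p (f * D.e) M) || (!(tb1 p (f * D.e') M) ||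
    (D.exs.any (fun c => okk (f * c) && Nat.gcd M (pc p (f * c)) == 1) || !((d * OL D.Y (p ^ f)) % M == 0)))))

/-- the test at `f` -/
def chk1 (D : TD) (ps : List ℕ) (M d l f : ℕ) : Bool :=
  De ps M (f * D.e) == 1 || (De ps M (f * D.e') == 1 ||
    (okk (f * D.e) && (okk (f * D.e') &&
      ((Nat.blt ((De ps M (f * D.e)) ^ 2 * (D.e * f)) (D.P ^ D.t) ||
        Nat.blt ((De ps M (f * D.e')) ^ 2 * (D.e' * f)) (D.P ^ D.t')) &&
      ((smp D.P).all fun p => tq1 D M d l f p)))))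

/-- the test -/
def chkM (D : TD) (ps : List ℕ) (M d l : ℕ) : Bool :=
  Nat.blt M (2 ^ 600) && ((List.range (619 / D.e)).all fun f => chk1 D ps M d l (f + 1))

/-- the table of the region -/
def chkR (n : ℕ) (D : TD) (exc : List (Art.Sh × ℕ × ℕ)) : Bool := (reg n).all fun x =>
  decide (x ∈ exc) || chkM D (pd (NS x.1 x.2.1 x.2.2)) (OL x.1 (x.2.1 ^ x.2.2)) (Art.dd x.1 (x.2.1 ^ x.2.2)) x.2.1

/-- the table of the sporadic groups -/
def chkS (D : TD) : Bool := Cfsg.Agent.OrdDiv.spor.all fun x => chkM D (pd x.2) x.2 1 0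

/-- the conditions on the data -/
structure TD.Ok (D : TD) : Prop where
  e7 : 5 ≤ D.e
  e7' : 5 ≤ D.e'
  ne6 : D.e ≠ 6
  ne6' : D.e' ≠ 6
  ht : D.t ≤ D.e.totient
  ht' : D.t' ≤ D.e'.totient
  hP : 1 ≤ D.P
  hP' : D.P ≤ 311

theorem mem_sps {p : ℕ} (hp : p.Prime) (h : p ≤ 311) : p ∈ sps := by
  have h1 : ((List.range 312).all fun p => Nat.blt p 2 || (sps.elem p ||
      [2, 3, 5, 7, 11, 13, 17].any fun d => Nat.blt d p && Nat.beq (p % d) 0 && Nat.blt 1 d)) = true := by decide +kernel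
  have h2 := List.all_eq_true.1 h1 p (List.mem_range.2 (Nat.lt_succ_of_le h))
  rw [Bool.or_eq_true, Bool.or_eq_true, List.any_eq_true] at h2
  rcases h2 with h2 | h2 | ⟨d, -, h2⟩
  · exact absurd (Nat.blt_eq.mp h2) hp.two_le.not_gt
  · exact List.mem_of_elem_eq_true h2
  · rw [Bool.and_eq_true, Bool.and_eq_true, Nat.blt_eq, Nat.blt_eq, Nat.beq_eq] at h2
    exact ((hp.eq_one_or_self_of_dvd d (Nat.dvd_of_mod_eq_zero h2.1.2)).elim h2.2.ne' h2.1.1.ne).elim

/-- the facts about the field -/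
structure Fac1 (D : TD) (M : ℕ) (p f : ℕ) : Prop where
  hp : p.Prime
  hf : 1 ≤ f
  hq : D.q₀ ≤ p ^ f
  h1 : PP p (f * D.e) ≤ (Nat.gcd M (PP p (f * D.e))) ^ 2
  h2 : PP p (f * D.e') ≤ (Nat.gcd M (PP p (f * D.e'))) ^ 2
  hex : ∀ c ∈ D.exs, ∃ s, Prim p (f * c) s ∧ s ∣ M

theorem gcd_ne_one {p k M : ℕ} (hp : 2 ≤ p) (hk : 3 ≤ k) (h6 : ¬ (p = 2 ∧ k = 6)) (h : PP p k ≤ (Nat.gcd M (PP p k)) ^ 2) :
    Nat.gcd M (PP p k) ≠ 1 := by
  intro h1
  rw [h1] at h
  have := one_lt_PP hp hk h6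
  omega

theorem mul6 {f e : ℕ} (hf : 1 ≤ f) (h5 : 5 ≤ e) (h6 : e ≠ 6) : f * e ≠ 6 := by
  intro h
  rcases Nat.lt_or_ge f 2 with h1 | h1
  · obtain rfl : f = 1 := by omega
    omega
  · have : 2 * e ≤ f * e := Nat.mul_le_mul_right _ h1
    omega

theorem chkM_false {D : TD} (hD : D.Ok) {ps : List ℕ} {M d l N p f : ℕ} (hM0 : M ≠ 0)
    (hps : ∀ r, r.Prime → r ∣ M → r ∈ ps) (hps' : ∀ r ∈ ps, r ≤ 619) (hF : Fac1 D M p f) (hpl : p ≠ l)
    (hM : M = d * N) (hd : N ∣ OL D.Y (p ^ f)) (hc : chkM D ps M d l = true) : False := by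
  obtain ⟨hp, hf, hq, h1, h2, hex⟩ := hF
  have hp2 := hp.two_le
  have h5 := hD.e7
  have h5' := hD.e7'
  have hfe : 1 * D.e ≤ f * D.e := Nat.mul_le_mul_right _ hf
  have hfe' : 1 * D.e' ≤ f * D.e' := Nat.mul_le_mul_right _ hf
  have g1 := gcd_ne_one hp2 (by omega) (fun h => mul6 hf h5 hD.ne6 h.2) h1
  have g2 := gcd_ne_one hp2 (by omega) (fun h => mul6 hf h5' hD.ne6' h.2) h2
  unfold chkM at hc
  simp only [Bool.and_eq_true, Nat.blt_eq] at hc
  obtain ⟨hM6, hc⟩ := hc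
  have key : ∀ e, 3 ≤ f * e → Nat.gcd M (PP p (f * e)) ∣ De ps M (f * e) := by
    intro e he
    refine dvd_De hM0 hM6 (Nat.gcd_dvd_left _ _) fun r hr hrd => ?_
    have h3 := prim_of_dvd_PP hp2 he hr (hrd.trans (Nat.gcd_dvd_right _ _))
    exact ⟨hps r hr (hrd.trans (Nat.gcd_dvd_left _ _)), Nat.mod_eq_zero_of_dvd (mod_of_prim' hp2 h3)⟩
  have hDe0 : ∀ k, De ps M k ≠ 0 := by
    intro k h4
    unfold De at h4
    rw [List.prod_eq_zero_iff, List.mem_map] at h4
    obtain ⟨r, -, h5⟩ := h4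
    exact hM0 (Nat.eq_zero_of_gcd_eq_zero_left h5)
  have key2 : ∀ e, 3 ≤ f * e → Nat.gcd M (PP p (f * e)) ≤ De ps M (f * e) := fun e he =>
    Nat.le_of_dvd (Nat.pos_of_ne_zero (hDe0 _)) (key e he)
  -- the range of `f`
  have hfr : f - 1 ∈ List.range (619 / D.e) := by
    obtain ⟨r, hr, hrd⟩ := Nat.exists_prime_and_dvd g1
    have h3 := prim_of_dvd_PP hp2 (by omega) hr (hrd.trans (Nat.gcd_dvd_right _ _))
    have h4 := hps' r (hps r hr (hrd.trans (Nat.gcd_dvd_left _ _)))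
    have h6 := Nat.le_of_dvd (by have := hr.two_le; omega) (mod_of_prim' hp2 h3)
    have h7 : f ≤ 619 / D.e := by
      rw [Nat.le_div_iff_mul_le (by omega)]
      omega
    exact List.mem_range.2 (by omega)
  have hc1 := List.all_eq_true.1 hc _ hfr
  rw [show f - 1 + 1 = f by omega] at hc1
  unfold chk1 at hc1
  simp only [Bool.or_eq_true, Bool.and_eq_true, Nat.blt_eq, beq_iff_eq] at hc1
  rcases hc1 with hc1 | hc1 | ⟨ho, ho', hb, hs⟩
  · have h3 := key D.e (by omega)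
    rw [hc1] at h3
    exact g1 (Nat.dvd_one.1 h3)
  · have h3 := key D.e' (by omega)
    rw [hc1] at h3
    exact g2 (Nat.dvd_one.1 h3)
  have ho1 : nl (fl (f * D.e)) = f * D.e := by simpa [okk] using ho
  have ho2 : nl (fl (f * D.e')) = f * D.e' := by simpa [okk] using ho'
  have hpP : p ≤ D.P := by
    by_contra hcon
    push Not at hcon
    have hl : ∀ e t, 1 ≤ e → t ≤ e.totient → 3 ≤ f * e → PP p (f * e) ≤ (Nat.gcd M (PP p (f * e))) ^ 2 →
        ¬ (De ps M (f * e)) ^ 2 * (e * f) < D.P ^ t := by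
      intro e t he ht h3 h4
      have h6 := PP_lower (p := p) (f := f) hp2 he hf hcon
      rw [mul_comm e f] at h6
      have h7 : D.P ^ t ≤ D.P ^ e.totient := Nat.pow_le_pow_right hD.hP ht
      have h8 : (Nat.gcd M (PP p (f * e))) ^ 2 ≤ (De ps M (f * e)) ^ 2 := Nat.pow_le_pow_left (key2 e h3) 2
      have h9 : PP p (f * e) * (f * e) ≤ (De ps M (f * e)) ^ 2 * (f * e) := Nat.mul_le_mul_right _ (h4.trans h8)
      rw [mul_comm e f]
      omega
    rcases hb with hb | hb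
    · exact hl D.e D.t (by omega) hD.ht (by omega) h1 hb
    · exact hl D.e' D.t' (by omega) hD.ht' (by omega) h2 hb
  have hpm : p ∈ smp D.P := List.mem_filter.2 ⟨mem_sps hp (hpP.trans hD.hP'), by simpa using hpP⟩
  have h3 := List.all_eq_true.1 hs p hpm
  unfold tq1 at h3
  simp only [Bool.or_eq_true, Nat.blt_eq, beq_iff_eq, Bool.not_eq_true', List.any_eq_true, Bool.and_eq_true] at h3
  rcases h3 with h3 | h3 | h3 | h3 | ⟨c, hcm, hco, hcg⟩ | h3
  · exact hpl h3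
  · omega
  · have h4 : tb1 p (f * D.e) M = true := by
      unfold tb1
      rw [Nat.ble_eq, ← PP_eq ho1 hp2]
      exact h1
    rw [h4] at h3
    exact absurd h3 (by decide)
  · have h4 : tb1 p (f * D.e') M = true := by
      unfold tb1
      rw [Nat.ble_eq, ← PP_eq ho2 hp2]
      exact h2
    rw [h4] at h3
    exact absurd h3 (by decide)
  · obtain ⟨s, hs1, hs2⟩ := hex c hcm
    have hcc : nl (fl (f * c)) = f * c := by simpa [okk] using hco
    rw [← PP_eq hcc hp2] at hcg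
    rcases Nat.lt_or_ge (f * c) 3 with h6 | h6
    · -- then `PP p (f * c)` is divisible by `s` as well
      have h7 : s ∣ PP p (f * c) := by
        have h8 := mod_of_prim' hp2 hs1
        have h0 : f * c ≠ 0 := by
          intro h0
          have := (hs1.dvd_iff 0).2 (by rw [h0])
          have h9 := (hs1.dvd_iff 1).1 (by
            have h10 : ∀ m, s ∣ p ^ m - 1 → s ∣ p ^ m - 1 := fun _ h => h
            exact absurd (hs1.dvd_iff 1) (by
              rw [h0]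
              intro h11
              have h12 : s ∣ p ^ (s - 1) - 1 := by
                have := Fact.mk hs1.prime
                have h13 : (p : ZMod s) ^ (s - 1) = 1 := ZMod.pow_card_sub_one_eq_one (by
                  rw [Ne, ZMod.natCast_eq_zero_iff]; exact hs1.not_dvd)
                rw [← ZMod.natCast_eq_zero_iff, Nat.cast_sub (Nat.one_le_pow _ _ (by omega))]
                push_cast
                rw [h13, sub_self]
              have h14 := (hs1.dvd_iff (s - 1)).1 h12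
              rw [h0, Nat.zero_dvd] at h14
              have := hs1.prime.two_le
              omega))
          rw [h0, Nat.zero_dvd] at h9
          exact absurd h9 (by norm_num)
        have h9 : s ∣ Cfsg.Agent.H365.Zsig.Ph (f * c) p := by
          have h10 : f * c = 1 ∨ f * c = 2 := by omega
          rcases h10 with h10 | h10
          · rw [h10] at hs1 ⊢
            rw [Ph_one (by omega)]
            simpa using hs1.dvd dvd_rfl
          · rw [h10] at hs1 ⊢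
            have h11 := Cfsg.Agent.H365.Zsig.Ph_two (q := p) (k := 0) hp2
            norm_num at h11
            rw [h11]
            have h12 := hs1.dvd dvd_rfl
            have h13 : p ^ 2 - 1 = (p + 1) * (p - 1) := by
              have := Nat.sq_sub_sq p 1
              rwa [one_pow] at this
            rw [h13] at h12
            refine (hs1.prime.dvd_mul.1 h12).resolve_right fun h14 => ?_
            have := (hs1.dvd_iff 1).1 (by simpa using h14)
            have := Nat.le_of_dvd (by norm_num) this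
            omega
        rw [← PP_mul (p := p) (k := f * c)] at h9
        refine (hs1.prime.dvd_mul.1 h9).resolve_right fun h10 => ?_
        have h11 : s ∣ f * c := h10.trans (Nat.gcd_dvd_right _ _)
        have h12 := Nat.le_of_dvd (by omega) h11
        have h13 := Nat.le_of_dvd (by have := hs1.prime.two_le; omega) h8
        omega
      have h8 : s ∣ 1 := hcg ▸ Nat.dvd_gcd hs2 h7
      exact hs1.prime.one_lt.ne' (Nat.dvd_one.1 h8)
    · have h8 : s ∣ 1 := hcg ▸ Nat.dvd_gcd hs2 (dvd_PP hp2 h6 hs1)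
      exact hs1.prime.one_lt.ne' (Nat.dvd_one.1 h8)
  · have h4 : (d * OL D.Y (p ^ f)) % M = 0 := Nat.mod_eq_zero_of_dvd (hM ▸ Nat.mul_dvd_mul_left d hd)
    rw [h4] at h3
    exact absurd h3 (by decide)

theorem prs_le : ∀ r ∈ prs, r ≤ 619 := by
  have h : (prs.all fun r => Nat.ble r 619) = true := by decide +kernel
  intro r hr
  simpa using List.all_eq_true.1 h r hr

variable {n : ℕ} {D : TD} {exc : List (Art.Sh × ℕ × ℕ)} {p f : ℕ}

/-- **Cross characteristic.** -/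
theorem no_crossH (hn : n ≤ 248) (hD : D.Ok) (hc : chkR n D exc = true) {X : Art.Sh} {l a N : ℕ}
    (hR : Art.Real X l a N) (hlb : lb X (l ^ a) ≤ n) (hpl : p ≠ l) (hF : Fac1 D N p f)
    (hd : N ∣ OL D.Y (p ^ f)) : (X, (l, a)) ∈ exc := by
  obtain ⟨hl, ha, hokX, heq⟩ := hR
  have hreg := mem_reg hn hl ha hokX hlb
  have hs' : smooth (NA X l a) = true :=
    List.all_eq_true.1 smooth_reg (X, (l, a)) (mem_reg le_rfl hl ha hokX (hlb.trans hn))
  have hsS : smooth (NS X l a) = true := by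
    have h1 : NS X l a ∣ NA X l a := Dvd.intro_left _ rfl
    have h2 : NA X l a ∣ prs.prod ^ 100 := Nat.dvd_of_mod_eq_zero (by simpa [smooth] using hs')
    simpa [smooth] using Nat.mod_eq_zero_of_dvd (h1.trans h2)
  have hM : OL X (l ^ a) = Art.dd X (l ^ a) * N := by unfold OL; rw [numL_eq]; exact heq.symm
  have hNM : N ∣ OL X (l ^ a) := Dvd.intro_left _ hM.symm
  have hMS : ∀ r, r.Prime → r ∣ OL X (l ^ a) → r ∈ pd (NS X l a) := by
    intro r hr h
    refine mem_pd hsS hr ?_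
    unfold NS
    rcases hr.dvd_mul.1 h with h2 | h2
    · exact (hr.dvd_of_dvd_pow (hr.dvd_of_dvd_pow h2)).mul_right _
    · exact h2.mul_left _
  have hM0 : OL X (l ^ a) ≠ 0 := by
    intro h0
    have h3 : l ^ a ≠ 0 := pow_ne_zero _ hl.ne_zero
    have h4 : NS X l a ≠ 0 := by
      intro h5
      have h6 : NS X l a ∣ prs.prod ^ 100 := Nat.dvd_of_mod_eq_zero (by simpa [smooth] using hsS)
      rw [h5] at h6
      have h7 := Nat.eq_zero_of_zero_dvd h6
      have h8 : prs.prod ≠ 0 := by decide +kernel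
      exact pow_ne_zero 100 h8 h7
    apply h4
    unfold OL at h0
    rcases Nat.mul_eq_zero.1 h0 with h5 | h5
    · exact absurd h5 (pow_ne_zero _ h3)
    · unfold NS
      rw [h5, mul_zero]
  have h1 := List.all_eq_true.1 hc (X, (l, a)) hreg
  simp only [Bool.or_eq_true, decide_eq_true_eq] at h1
  refine h1.resolve_right fun h2 => ?_
  have hmono : ∀ k, Nat.gcd N k ≤ Nat.gcd (OL X (l ^ a)) k := fun k =>
    Nat.le_of_dvd (Nat.gcd_pos_of_pos_left _ (Nat.pos_of_ne_zero hM0)) (Nat.gcd_dvd_gcd_of_dvd_left _ hNM)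
  have hF' : Fac1 D (OL X (l ^ a)) p f :=
    { hF with
      h1 := hF.h1.trans (Nat.pow_le_pow_left (hmono _) 2)
      h2 := hF.h2.trans (Nat.pow_le_pow_left (hmono _) 2)
      hex := fun c hc => (hF.hex c hc).imp fun s hs => ⟨hs.1, hs.2.trans hNM⟩ }
  exact chkM_false hD hM0 hMS (fun r hr => prs_le r (List.mem_of_mem_filter hr)) hF' hpl hM hd h2

/-- **Sporadic groups.** -/
theorem no_sporH (hD : D.Ok) (hc : chkS D = true) {x : Cfsg.Agent.OrdDiv.Grp × ℕ} (hx : x ∈ Cfsg.Agent.OrdDiv.spor)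
    (hF : Fac1 D x.2 p f) (hd : x.2 ∣ OL D.Y (p ^ f)) : False := by
  have hs' : smooth x.2 = true := List.all_eq_true.1 smooth_spor x hx
  have hM0 : x.2 ≠ 0 := by
    have : ∀ x ∈ Cfsg.Agent.OrdDiv.spor, x.2 ≠ 0 := by decide +kernel
    exact this x hx
  exact chkM_false hD hM0 (fun r hr h => mem_pd hs' hr h) (fun r hr => prs_le r (List.mem_of_mem_filter hr)) hF
    hF.hp.ne_zero (one_mul _).symm hd (List.all_eq_true.1 hc x hx)

end Cfsg.Agent.H73.Rg
end

-- part: H73/Rg/HCore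
section
/-!
# The core argument for half classes (helper73)

`coreH` : the simple normal subgroup; `nameH` : its name; `half_gt`, `good_gt`, `good_pr'`, `good_prod` : reducedness.
-/

set_option autoImplicit false
set_option exponentiation.threshold 7000

namespace Cfsg.Agent.H73.Rg

open Cfsg Cfsg.Agent.OrdDiv Cfsg.Agent.H436 Cfsg.Agent.H902 Cfsg.Agent.H902.Names Cfsg.Agent.H915.GN
  Cfsg.Agent.H290.ElReg Cfsg.Agent.H290.ElTab Cfsg.Agent.H290.ElCross Cfsg.Agent.H264.FKS Cfsg.Agent.H56.Exc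
  Cfsg.Agent.H325.Loc Cfsg.Agent.H563.KG

variable {n p f : ℕ} {fam : List ℕ} {M E : ℕ → ℕ}

/-- the family of the `p`-primitive primes of the classes dividing `N` -/
def FmH (p f : ℕ) (fam : List ℕ) (M E : ℕ → ℕ) (N : ℕ) (r m e : ℕ) : Prop :=
  ∃ c ∈ fam, Prim p (f * c) r ∧ r ∣ N ∧ m = M c ∧ e = E c

theorem pr_fmH {N r : ℕ} : Pr (FmH p f fam M E N) r ↔ ∃ c ∈ fam, Prim p (f * c) r ∧ r ∣ N := by
  constructor
  · rintro ⟨m, e, c, hc, h, hN, -, -⟩
    exact ⟨c, hc, h, hN⟩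
  · rintro ⟨c, hc, h, hN⟩
    exact ⟨M c, E c, c, hc, h, hN, rfl, rfl⟩

theorem prim_q (hf : 1 ≤ f) {c r : ℕ} (h : Prim p (f * c) r) : Prim (p ^ f) c r :=
  Cfsg.Agent.H264.GN.prim_pow hf h

/-- the class is not empty -/
theorem exists_of_half (hp : 2 ≤ p) {k : ℕ} (hk : 3 ≤ k) (h6 : ¬ (p = 2 ∧ k = 6)) {N : ℕ}
    (h : PP p k ≤ (Nat.gcd N (PP p k)) ^ 2) : ∃ r, Prim p k r ∧ r ∣ N := by
  obtain ⟨r, hr, hrd⟩ := Nat.exists_prime_and_dvd (gcd_ne_one hp hk h6 h)
  exact ⟨r, prim_of_dvd_PP hp hk hr (hrd.trans (Nat.gcd_dvd_right _ _)), hrd.trans (Nat.gcd_dvd_left _ _)⟩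

theorem HAt.exists_prim {c : ℕ} {K : Type*} [Group K] {B : Subgroup K} (h : HAt p f c B) (hp : 2 ≤ p) (hf : 1 ≤ f)
    (hc : 5 ≤ c) (hc6 : c ≠ 6) : ∃ r, Prim p (f * c) r ∧ r ∣ Nat.card B :=
  exists_of_half hp (by have : 1 * c ≤ f * c := Nat.mul_le_mul_right _ hf
                        omega) (fun h6 => mul6 hf hc hc6 h6.2) h.half

/-- the class part of `B` divides the order of `S` -/
theorem half_S (hp : 2 ≤ p) {k : ℕ} (hk : 3 ≤ k) {B : Type*} [Group B] [Finite B] (S : Subgroup B)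
    (h : PP p k ≤ (Nat.gcd (Nat.card B) (PP p k)) ^ 2) (hS : ∀ r, Prim p k r → r ∣ Nat.card B → ¬ r ∣ S.index) :
    PP p k ≤ (Nat.gcd (Nat.card S) (PP p k)) ^ 2 := by
  have h1 : Nat.gcd (Nat.card B) (PP p k) ∣ Nat.card S := by
    have h2 : Nat.gcd (Nat.card B) (PP p k) ∣ Nat.card S * S.index := by
      rw [S.card_mul_index]; exact Nat.gcd_dvd_left _ _
    refine Nat.Coprime.dvd_of_dvd_mul_right ?_ h2
    by_contra hcon
    obtain ⟨r, hr, h3, h4⟩ := Nat.Prime.not_coprime_iff_dvd.1 hcon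
    exact hS r (prim_of_dvd_PP hp hk hr (h3.trans (Nat.gcd_dvd_right _ _))) (h3.trans (Nat.gcd_dvd_left _ _)) h4
  have h2 : Nat.gcd (Nat.card B) (PP p k) ∣ Nat.gcd (Nat.card S) (PP p k) := Nat.dvd_gcd h1 (Nat.gcd_dvd_right _ _)
  have h3 := Nat.le_of_dvd (Nat.gcd_pos_of_pos_left _ Nat.card_pos) h2
  exact h.trans (Nat.pow_le_pow_left h3 2)

/-! ### the alternating groups -/

/-- the automizers of the elements of order `r` in `A_m` -/
def AltAut : Prop := ∀ {S : Type} [Group S] [Finite S] {m r N e : ℕ}, Big S r N e → (S ≃* alternatingGroup (Fin m)) →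
  5 ≤ r → r ∣ Nat.card S → r - 1 ∣ 2 * e

/-- the class part in an alternating group is a prime in the window `[m - 3, m]` with a small automizer -/
theorem windowH (haut : AltAut) (hp : 2 ≤ p) (hf : 1 ≤ f) {c m N e : ℕ} (hc : 5 ≤ c) (hc6 : c ≠ 6) {S : Type} [Group S] [Finite S]
    (hm : 2 ≤ m) (Φ : S ≃* alternatingGroup (Fin m))
    (hB : ∀ r, Prim p (f * c) r → r ∣ Nat.card S → Big S r N e)
    (h : PP p (f * c) ≤ (Nat.gcd (Nat.card S) (PP p (f * c))) ^ 2) :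
    ∃ r, Prim p (f * c) r ∧ r ∣ PP p (f * c) ∧ PP p (f * c) ≤ r ^ 2 ∧ r ≤ m ∧ m ≤ r + 3 ∧ r - 1 ∣ 2 * e ∧ c ∣ r - 1 := by
  have hfc : 1 * c ≤ f * c := Nat.mul_le_mul_right _ hf
  have hk : 3 ≤ f * c := by omega
  obtain ⟨r, hr, hrS⟩ := exists_of_half hp hk (fun h6 => mul6 hf hc hc6 h6.2) h
  have hmod : ∀ s, Prim p (f * c) s → c ∣ s - 1 := fun s hs => (Dvd.intro_left _ rfl).trans (mod_of_prim' hp hs)
  have h5 : ∀ s, Prim p (f * c) s → 5 ≤ s := fun s hs => by
    have h1 := Nat.le_of_dvd (by have := hs.prime.two_le; omega) (hmod s hs)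
    omega
  have key : ∀ s, Prim p (f * c) s → s ∣ Nat.card S → s ≤ m ∧ m ≤ s + 3 := fun s hs h1 => by
    refine ⟨Cfsg.Agent.H290.ElRich.le_of_dvd_alt hs.prime hm Φ h1,
      Cfsg.Agent.H290.ElRich.alt_le hs.prime (h5 s hs) Φ h1 fun x hx => ?_⟩
    have := (hB s hs h1).cyc x hx
    let _ := IsCyclic.commGroup (α := ↥(Subgroup.centralizer ({x} : Set S)))
    infer_instance
  have hg0 : Nat.gcd (Nat.card S) (PP p (f * c)) ≠ 0 := Nat.gcd_ne_zero_left Nat.card_pos.ne'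
  have huniq : ∀ {s : ℕ}, s.Prime → s ∣ Nat.gcd (Nat.card S) (PP p (f * c)) → s = r := by
    intro s hs hsd
    have hs' := prim_of_dvd_PP hp hk hs (hsd.trans (Nat.gcd_dvd_right _ _))
    have h1 := key s hs' (hsd.trans (Nat.gcd_dvd_left _ _))
    have h2 := key r hr hrS
    have h3 := hmod s hs'
    have h4 := hmod r hr
    have h6 := h5 s hs'
    have h7 := h5 r hr
    by_contra hne
    rcases Nat.lt_or_gt_of_ne hne with h | h
    · have h8 := Nat.le_of_dvd (by omega) (Nat.dvd_sub h4 h3)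
      omega
    · have h8 := Nat.le_of_dvd (by omega) (Nat.dvd_sub h3 h4)
      omega
  have hpow := Nat.eq_prime_pow_of_unique_prime_dvd hg0 huniq
  set k := (Nat.gcd (Nat.card S) (PP p (f * c))).primeFactorsList.length with hkdef
  have h2 := key r hr hrS
  have h8 := h5 r hr
  have hk1 : k ≤ 1 := by
    by_contra hk1
    have h3 : r ^ 2 ∣ Nat.gcd (Nat.card S) (PP p (f * c)) := by rw [hpow]; exact pow_dvd_pow _ (by omega)
    have : Nontrivial (Fin m) := Fin.nontrivial_iff_two_le.2 hm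
    have h4 : 2 * Nat.card S = m.factorial := by
      rw [Nat.card_congr Φ.toEquiv, Nat.card_eq_fintype_card, two_mul_card_alternatingGroup, Fintype.card_perm,
        Fintype.card_fin]
    refine sq_not_dvd_factorial hr.prime (m := m) (by omega) ?_
    rw [← h4]
    exact (h3.trans (Nat.gcd_dvd_left _ _)).mul_left _
  have hle : Nat.gcd (Nat.card S) (PP p (f * c)) ≤ r := by
    rw [hpow]
    calc r ^ k ≤ r ^ 1 := Nat.pow_le_pow_right (by omega) hk1
      _ = r := pow_one r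
  exact ⟨r, hr, dvd_PP hp hk hr, h.trans (Nat.pow_le_pow_left hle 2), h2.1, h2.2, haut (hB r hr hrS) Φ h8 hrS, hmod r hr⟩

/-- the condition for a prime in an alternating group -/
def ca (e E r : ℕ) : Bool := (r - 1) % e == 0 && (2 * E) % (r - 1) == 0

/-- the test for the alternating groups -/
def chkA (D : TD) (E E' : ℕ) : Bool := (smp (2 * E + 1)).all fun r => !(ca D.e E r) || ((smp (2 * E' + 1)).all fun r' =>
  !(ca D.e' E' r') || (Nat.blt (r + 3) r' || (Nat.blt (r' + 3) r || (r == r' || ((List.range (2 * E)).all fun f' =>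
    !((r - 1) % ((f' + 1) * D.e) == 0) || (okk ((f' + 1) * D.e) && (Nat.blt (r ^ 2 * (D.e * (f' + 1))) (D.P ^ D.t) &&
      ((smp D.P).all fun p => Nat.blt (p ^ (f' + 1)) D.q₀ || (!(pc p ((f' + 1) * D.e) % r == 0) ||
        (!(Nat.ble (pc p ((f' + 1) * D.e)) (r ^ 2)) || (okk ((f' + 1) * D.e') && !(pc p ((f' + 1) * D.e') % r' == 0))))))))))))

theorem chkA_false {D : TD} (hD : D.Ok) (hne : D.e ≠ D.e') {E E' r r' m : ℕ} (hp : p.Prime) (hf : 1 ≤ f) (hq : D.q₀ ≤ p ^ f)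
    (hE : 1 ≤ E) (hE' : 1 ≤ E') (hE30 : E ≤ 155) (hE30' : E' ≤ 155)
    (hr : Prim p (f * D.e) r) (h1 : PP p (f * D.e) ≤ r ^ 2) (h2 : r ≤ m) (h3 : m ≤ r + 3)
    (h4 : r - 1 ∣ 2 * E) (hr' : Prim p (f * D.e') r') (h2' : r' ≤ m) (h3' : m ≤ r' + 3)
    (h4' : r' - 1 ∣ 2 * E') (hc : chkA D E E' = true) : False := by
  have hp2 := hp.two_le
  have h5 := hD.e7
  have h5' := hD.e7'
  have hfe : 1 * D.e ≤ f * D.e := Nat.mul_le_mul_right _ hf
  have hfe' : 1 * D.e' ≤ f * D.e' := Nat.mul_le_mul_right _ hf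
  have a1 := Nat.le_of_dvd (by omega) h4
  have a1' := Nat.le_of_dvd (by omega) h4'
  have b1 := mod_of_prim' hp2 hr
  have b1' := mod_of_prim' hp2 hr'
  have b2 : D.e ∣ r - 1 := (Dvd.intro_left _ rfl).trans b1
  have b2' : D.e' ∣ r' - 1 := (Dvd.intro_left _ rfl).trans b1'
  have r2 := hr.prime.two_le
  have r2' := hr'.prime.two_le
  have m1 : r ∈ smp (2 * E + 1) := List.mem_filter.2 ⟨mem_sps hr.prime (by omega), by simp; omega⟩
  have m1' : r' ∈ smp (2 * E' + 1) := List.mem_filter.2 ⟨mem_sps hr'.prime (by omega), by simp; omega⟩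
  have c1 : ca D.e E r = true := by
    unfold ca
    simp only [Bool.and_eq_true, beq_iff_eq]
    exact ⟨Nat.mod_eq_zero_of_dvd b2, Nat.mod_eq_zero_of_dvd h4⟩
  have c1' : ca D.e' E' r' = true := by
    unfold ca
    simp only [Bool.and_eq_true, beq_iff_eq]
    exact ⟨Nat.mod_eq_zero_of_dvd b2', Nat.mod_eq_zero_of_dvd h4'⟩
  have hrr : r ≠ r' := by
    rintro rfl
    have := hr.unique hr'
    exact hne (Nat.eq_of_mul_eq_mul_left (by omega) this)
  have hb := Nat.le_of_dvd (by omega) b1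
  have hff : f - 1 ∈ List.range (2 * E) := List.mem_range.2 (by
    have : f * 5 ≤ f * D.e := Nat.mul_le_mul_left _ h5
    omega)
  have d1 := List.all_eq_true.1 hc r m1
  simp only [c1, Bool.not_true, Bool.false_or] at d1
  have d2 := List.all_eq_true.1 d1 r' m1'
  simp only [c1', Bool.not_true, Bool.false_or, Bool.or_eq_true, Nat.blt_eq, beq_iff_eq] at d2
  rcases d2 with d2 | d2 | d2 | d2
  · omega
  · omega
  · exact hrr d2
  have d3 := List.all_eq_true.1 d2 _ hff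
  rw [show f - 1 + 1 = f by omega] at d3
  have e1 : ((r - 1) % (f * D.e) == 0) = true := by
    rw [beq_iff_eq]; exact Nat.mod_eq_zero_of_dvd b1
  simp only [e1, Bool.not_true, Bool.false_or, Bool.and_eq_true, Nat.blt_eq] at d3
  obtain ⟨ho, hb2, hs⟩ := d3
  have ho1 : nl (fl (f * D.e)) = f * D.e := by simpa [okk] using ho
  have hpP : p ≤ D.P := by
    by_contra hcon
    push Not at hcon
    have h6 := PP_lower (p := p) (f := f) (e := D.e) hp2 (by omega) hf hcon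
    rw [mul_comm D.e f] at h6 hb2
    have h7 : D.P ^ D.t ≤ D.P ^ D.e.totient := Nat.pow_le_pow_right hD.hP hD.ht
    have h8 : PP p (f * D.e) * (f * D.e) ≤ r ^ 2 * (f * D.e) := Nat.mul_le_mul_right _ h1
    omega
  have hpm : p ∈ smp D.P := List.mem_filter.2 ⟨mem_sps hp (hpP.trans hD.hP'), by simpa using hpP⟩
  have d4 := List.all_eq_true.1 hs p hpm
  have e2 : Nat.blt (p ^ f) D.q₀ = false := by
    rw [Bool.eq_false_iff, Ne, Nat.blt_eq]; omega
  have e3 : (pc p (f * D.e) % r == 0) = true := by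
    rw [beq_iff_eq, ← PP_eq ho1 hp2]; exact Nat.mod_eq_zero_of_dvd (dvd_PP hp2 (by omega) hr)
  have e4 : Nat.ble (pc p (f * D.e)) (r ^ 2) = true := by
    rw [Nat.ble_eq, ← PP_eq ho1 hp2]; exact h1
  simp only [e2, e3, e4, Bool.not_true, Bool.false_or, Bool.and_eq_true, Bool.not_eq_true', beq_eq_false_iff_ne] at d4
  obtain ⟨ho', d5⟩ := d4
  have ho2 : nl (fl (f * D.e')) = f * D.e' := by simpa [okk] using ho'
  rw [← PP_eq ho2 hp2] at d5
  exact d5 (Nat.mod_eq_zero_of_dvd (dvd_PP hp2 (by omega) hr'))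

/-! ### the name -/

/-- the tables -/
structure TblH (n : ℕ) (D : TD) (exc : List (Art.Sh × ℕ × ℕ)) (E E' : ℕ) : Prop where
  hn : n ≤ 248
  ok : D.Ok
  ne : D.e ≠ D.e'
  hR : chkR n D exc = true
  hS : chkS D = true
  hE : 1 ≤ E
  hE' : 1 ≤ E'
  hE30 : E ≤ 155
  hE30' : E' ≤ 155
  hA : chkA D E E' = true

variable {D : TD} {exc : List (Art.Sh × ℕ × ℕ)} {EE EE' N N' : ℕ}

/-- **The name.** -/
theorem nameH (tb : OrderTable.{0}) (haut : AltAut) (ht : TblH n D exc EE EE') (hp : p.Prime) (hf : 1 ≤ f)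
    (hq : D.q₀ ≤ p ^ f) {F : Type} [Field F] [CharP F p] {S : Type} [Group S] [Finite S] [IsSimpleGroup S]
    (hna : ¬ IsMulCommutative S) (hK : IsKnownSimple' S) (hrep : Fth n F S) (hd : Nat.card S ∣ OL D.Y (p ^ f))
    (h1 : PP p (f * D.e) ≤ (Nat.gcd (Nat.card S) (PP p (f * D.e))) ^ 2)
    (h2 : PP p (f * D.e') ≤ (Nat.gcd (Nat.card S) (PP p (f * D.e'))) ^ 2)
    (hex : ∀ c ∈ D.exs, ∃ s, Prim p (f * c) s ∧ s ∣ Nat.card S)
    (hB : ∀ r, Prim p (f * D.e) r → r ∣ Nat.card S → Big S r N EE)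
    (hB' : ∀ r, Prim p (f * D.e') r → r ∣ Nat.card S → Big S r N' EE')
    (hexc : ∀ g l X a, l.Prime → IsNamed g S → IsLie g X l a → (X, (l, a)) ∈ exc → False) :
    ∃ g, IsNamed g S ∧ HasChar p g := by
  have hna' : ¬ ∀ a b : S, a * b = b * a := fun h => hna ⟨⟨h⟩⟩
  obtain ⟨g, hgS⟩ := exists_named tb hK hna'
  have hF : Fac1 D (Nat.card S) p f := ⟨hp, hf, hq, h1, h2, hex⟩
  have h5 := ht.ok.e7
  have h5' := ht.ok.e7'
  rcases Cfsg.Agent.H192.Singer.cases_name hgS.cond with ⟨m, rfl⟩ | hsp | ⟨l, hl, hch⟩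
  · exfalso
    obtain ⟨Φ⟩ : Nonempty (S ≃* alternatingGroup (Fin m)) := hgS.real
    have hm : 5 ≤ m := hgS.cond
    obtain ⟨r, a1, -, a3, a4, a5, a6, -⟩ := windowH haut hp.two_le hf h5 ht.ok.ne6 (by omega) Φ hB h1
    obtain ⟨r', b1, -, b3, b4, b5, b6, -⟩ := windowH haut hp.two_le hf h5' ht.ok.ne6' (by omega) Φ hB' h2
    exact chkA_false ht.ok ht.ne hp hf hq ht.hE ht.hE' ht.hE30 ht.hE30' a1 a3 a4 a5 a6 b1 b4 b5 b6 ht.hA
  · exfalso
    have h1 := Cfsg.Agent.H192.Singer.spor_mem hsp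
    have h2 : Nat.card S = ordN g := hgS.ord
    exact no_sporH ht.ok ht.hS h1 (by rw [← h2]; exact hF) (by rw [← h2]; exact hd)
  · by_cases hpl : p = l
    · subst hpl
      exact ⟨g, hgS, hch⟩
    · exfalso
      obtain ⟨X, f₁, h1, h2, -⟩ := exists_lie hl hgS hch
      have hlF : (l : F) ≠ 0 := by
        intro h
        exact hpl ((Nat.prime_dvd_prime_iff_eq hp hl).1 ((CharP.cast_eq_zero_iff F p l).1 h))
      have h3 := lb_le hna' ht.hn hrep h1 hgS.real h2 hlF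
      exact hexc g l X f₁ hl hgS h1 (no_crossH ht.hn ht.ok ht.hR h2 h3 hpl hF hd)

/-! ### reducedness -/

/-- the test for the size of the class part -/
def gchk (n c P t q₀ : ℕ) (ex : List (ℕ × ℕ × ℕ)) : Bool := (List.range (n / c)).all fun f' =>
  okk ((f' + 1) * c) && (Nat.blt (n ^ 2 * (c * (f' + 1))) (P ^ t) && ((smp P).all fun p =>
    Nat.blt (p ^ (f' + 1)) q₀ || ((List.range (n + 1)).all fun d =>
      !(pc p ((f' + 1) * c) % d == 0) || (Nat.blt (d ^ 2) (pc p ((f' + 1) * c)) || decide ((p, f' + 1, d) ∈ ex)))))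

theorem half_gt {c P t q₀ : ℕ} {ex : List (ℕ × ℕ × ℕ)} (hp : p.Prime) (hf : 1 ≤ f) (hq : q₀ ≤ p ^ f) (hc : 5 ≤ c) (hc6 : c ≠ 6)
    (ht : t ≤ c.totient) (hP : 1 ≤ P) (hP' : P ≤ 311) (hk : gchk n c P t q₀ ex = true) {N : ℕ}
    (h : PP p (f * c) ≤ (Nat.gcd N (PP p (f * c))) ^ 2) :
    n < Nat.gcd N (PP p (f * c)) ∨ (p, f, Nat.gcd N (PP p (f * c))) ∈ ex := by
  by_contra hcon
  rw [not_or] at hcon
  obtain ⟨hlt, hex⟩ := hcon
  push Not at hlt
  have hp2 := hp.two_le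
  have hfc : 1 * c ≤ f * c := Nat.mul_le_mul_right _ hf
  have h3 : 3 ≤ f * c := by omega
  have hg1 := gcd_ne_one hp2 h3 (fun h6 => mul6 hf hc hc6 h6.2) h
  have hg0 : 0 < Nat.gcd N (PP p (f * c)) := Nat.gcd_pos_of_pos_right _ (PP_pos hp2 (by omega))
  obtain ⟨r, hr, hrd⟩ := Nat.exists_prime_and_dvd hg1
  have hr' := prim_of_dvd_PP hp2 h3 hr (hrd.trans (Nat.gcd_dvd_right _ _))
  have h4 := Nat.le_of_dvd (by have := hr.two_le; omega) (mod_of_prim' hp2 hr')
  have h5 := Nat.le_of_dvd hg0 hrd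
  have hfm : f - 1 ∈ List.range (n / c) := by
    have h7 : f ≤ n / c := by
      rw [Nat.le_div_iff_mul_le (by omega)]
      omega
    exact List.mem_range.2 (by omega)
  have d1 := List.all_eq_true.1 hk _ hfm
  rw [show f - 1 + 1 = f by omega] at d1
  simp only [Bool.and_eq_true, Nat.blt_eq] at d1
  obtain ⟨ho, hb, hs⟩ := d1
  have ho1 : nl (fl (f * c)) = f * c := by simpa [okk] using ho
  have hsq : (Nat.gcd N (PP p (f * c))) ^ 2 ≤ n ^ 2 := Nat.pow_le_pow_left hlt 2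
  have hpP : p ≤ P := by
    by_contra hcon
    push Not at hcon
    have h6 := PP_lower (p := p) (f := f) (e := c) hp2 (by omega) hf hcon
    rw [mul_comm c f] at h6 hb
    have h7 : P ^ t ≤ P ^ c.totient := Nat.pow_le_pow_right hP ht
    have h8 : PP p (f * c) * (f * c) ≤ n ^ 2 * (f * c) := Nat.mul_le_mul_right _ (h.trans hsq)
    omega
  have hpm : p ∈ smp P := List.mem_filter.2 ⟨mem_sps hp (hpP.trans hP'), by simpa using hpP⟩
  have d4 := List.all_eq_true.1 hs p hpm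
  have e2 : Nat.blt (p ^ f) q₀ = false := by
    rw [Bool.eq_false_iff, Ne, Nat.blt_eq]; omega
  simp only [e2, Bool.false_or] at d4
  have d5 := List.all_eq_true.1 d4 (Nat.gcd N (PP p (f * c))) (List.mem_range.2 (by omega))
  rw [← PP_eq ho1 hp2] at d5
  simp only [Bool.or_eq_true, Bool.not_eq_true', beq_eq_false_iff_ne, Nat.blt_eq, decide_eq_true_eq] at d5
  rcases d5 with d5 | d5 | d5
  · exact d5 (Nat.mod_eq_zero_of_dvd (Nat.gcd_dvd_right _ _))
  · omega
  · exact hex d5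

/-- no element of a prime order dividing the class part commutes with an element of order `t` -/
theorem free_gcd {G : Type*} [Group G] [Finite G] {c K t : ℕ} (h : Ord G (p ^ f) c K) (hp : 2 ≤ p) (hf : 1 ≤ f)
    (hc : 5 ≤ c) (ht : t.Prime) (hK : ¬ t ∣ K) : Free G t (Nat.gcd (Nat.card G) (PP p (f * c))) := by
  intro x hx hxm a ha hcx
  have hfc : 1 * c ≤ f * c := Nat.mul_le_mul_right _ hf
  have h0 := prim_of_dvd_PP hp (by omega) hx (hxm.trans (Nat.gcd_dvd_right _ _))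
  have h1 := h _ (prim_q hf h0) x rfl
  have h2 : a ∈ Subgroup.centralizer ({x} : Set G) := Subgroup.mem_centralizer_singleton_iff.2 hcx.symm
  have h3 : orderOf a ∣ K := by
    have h4 : orderOf (⟨a, h2⟩ : ↥(Subgroup.centralizer ({x} : Set G))) = orderOf a := by
      rw [← Subgroup.orderOf_coe]
    rw [← h4]
    exact (orderOf_dvd_natCard _).trans h1
  have h4 : orderOf a ∣ t := orderOf_dvd_of_pow_eq_one ha
  rcases (Nat.dvd_prime ht).1 h4 with h5 | h5
  · rwa [orderOf_eq_one_iff] at h5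
  · rw [h5] at h3
    exact absurd h3 hK

/-- the case of a large class part -/
theorem good_gt {G : Type*} [Group G] [Finite G] {c K t : ℕ} (h : Ord G (p ^ f) c K) (hp : 2 ≤ p) (hf : 1 ≤ f)
    (hc : 5 ≤ c) (ht : t.Prime) (hK : ¬ t ∣ K) (hn : n < Nat.gcd (Nat.card G) (PP p (f * c))) : Good G n t :=
  ⟨_, Nat.gcd_dvd_left _ _, free_gcd h hp hf hc ht hK, Or.inl hn⟩

/-- the case of a prime class part -/
theorem good_prH {G : Type*} [Group G] [Finite G] {c K t d : ℕ} (h : Ord G (p ^ f) c K) (hp : 2 ≤ p) (hf : 1 ≤ f)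
    (hc : 5 ≤ c) (ht : t.Prime) (hK : ¬ t ∣ K) (hd : Nat.gcd (Nat.card G) (PP p (f * c)) = d) (hdp : d.Prime)
    (hk : ∀ k, 0 < k → t ^ k ∣ Nat.card G → ¬ d ∣ t ^ k - 1) : Good G n t :=
  ⟨d, hd ▸ Nat.gcd_dvd_left _ _, hd ▸ free_gcd h hp hf hc ht hK, Or.inr ⟨hdp, hk⟩⟩

theorem pp_coprime {c c' : ℕ} (hp : 2 ≤ p) (hf : 1 ≤ f) (hc : 5 ≤ c) (hc' : 5 ≤ c') (hne : c ≠ c') :
    Nat.Coprime (PP p (f * c)) (PP p (f * c')) := by
  have hfc : 1 * c ≤ f * c := Nat.mul_le_mul_right _ hf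
  have hfc' : 1 * c' ≤ f * c' := Nat.mul_le_mul_right _ hf
  by_contra hcon
  obtain ⟨r, hr, h1, h2⟩ := Nat.Prime.not_coprime_iff_dvd.1 hcon
  have h3 := (prim_of_dvd_PP hp (by omega) hr h1).unique (prim_of_dvd_PP hp (by omega) hr h2)
  exact hne (Nat.eq_of_mul_eq_mul_left (by omega) h3)

/-- the case of two classes: the product of the class parts is at least `(c + 1) (c' + 1)` -/
theorem good_prod {G : Type*} [Group G] [Finite G] {c K c' K' t : ℕ} (h : Ord G (p ^ f) c K) (h' : Ord G (p ^ f) c' K')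
    (hp : 2 ≤ p) (hf : 1 ≤ f) (hc : 5 ≤ c) (hc' : 5 ≤ c') (hne : c ≠ c') (ht : t.Prime) (hK : ¬ t ∣ K) (hK' : ¬ t ∣ K')
    (hn : n < Nat.gcd (Nat.card G) (PP p (f * c)) * Nat.gcd (Nat.card G) (PP p (f * c'))) : Good G n t :=
  ⟨_, (((pp_coprime hp hf hc hc' hne).coprime_dvd_left (Nat.gcd_dvd_right _ _)).coprime_dvd_right
    (Nat.gcd_dvd_right _ _)).mul_dvd_of_dvd_of_dvd (Nat.gcd_dvd_left _ _) (Nat.gcd_dvd_left _ _),
    (free_gcd h hp hf hc ht hK).mul (free_gcd h' hp hf hc' ht hK'), Or.inl hn⟩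

/-- a class part is larger than `2 c` (it is a number `≡ 1` modulo `c` composed of odd primes) -/
theorem gcd_lb {c N : ℕ} (hp : 2 ≤ p) (hf : 1 ≤ f) (hc : 5 ≤ c) (hc6 : c ≠ 6)
    (h : PP p (f * c) ≤ (Nat.gcd N (PP p (f * c))) ^ 2) :
    c + 1 ≤ Nat.gcd N (PP p (f * c)) ∧ (c % 2 = 1 → 2 * c + 1 ≤ Nat.gcd N (PP p (f * c))) := by
  have hfc : 1 * c ≤ f * c := Nat.mul_le_mul_right _ hf
  have h3 : 3 ≤ f * c := by omega
  have hg1 := gcd_ne_one hp h3 (fun h6 => mul6 hf hc hc6 h6.2) h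
  have hg0 : 0 < Nat.gcd N (PP p (f * c)) := Nat.gcd_pos_of_pos_right _ (PP_pos hp (by omega))
  obtain ⟨r, hr, hrd⟩ := Nat.exists_prime_and_dvd hg1
  have hr' := prim_of_dvd_PP hp h3 hr (hrd.trans (Nat.gcd_dvd_right _ _))
  have h4 : c ∣ r - 1 := (Dvd.intro_left _ rfl).trans (mod_of_prim' hp hr')
  have h5 := Nat.le_of_dvd hg0 hrd
  have h6 := Nat.le_of_dvd (by have := hr.two_le; omega) h4
  have h7 := hr'.odd (by omega)
  refine ⟨by omega, fun hodd => ?_⟩
  obtain ⟨k, hk⟩ := h4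
  have hk2 : k % 2 = 0 := by
    by_contra hcon
    have : (c * k) % 2 = 1 := by rw [Nat.mul_mod, hodd, show k % 2 = 1 by omega]
    omega
  have hk0 : k ≠ 0 := by
    rintro rfl
    have := hr.two_le
    omega
  have : c * 2 ≤ c * k := Nat.mul_le_mul_left _ (by omega)
  omega

end Cfsg.Agent.H73.Rg
end

section
set_option autoImplicit false
set_option exponentiation.threshold 7000

/-! ### a faster evaluation of the tables -/

namespace Cfsg.Agent.H73.Rg.Fast

open Cfsg.Agent.H902 Cfsg.Agent.H290.ElReg Cfsg.Agent.H290.ElTab Cfsg.Agent.H563.KG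

/-- the set of the numbers `r - 1` -/
noncomputable def msk (ps : List ℕ) : ℕ :=
  List.rec (motive := fun _ => ℕ) 0 (fun r _ m => Nat.lor (Nat.shiftLeft 1 (Nat.pred r)) m) ps

/-- the first multiples of `k` -/
noncomputable def mul (k n : ℕ) : ℕ := Nat.rec (motive := fun _ => ℕ) 0 (fun _ m => Nat.lor 1 (Nat.shiftLeft m k)) n

/-- no multiple of `k` in the set -/
noncomputable def skip (m k : ℕ) : Bool := Nat.beq (Nat.land m (mul k (Nat.succ (Nat.div 620 k)))) 0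

/-- the small prime divisors -/
noncomputable def pdF (N : ℕ) : List ℕ :=
  List.rec (motive := fun _ => List ℕ) [] (fun r _ l => Bool.rec (motive := fun _ => List ℕ) l (r :: l) (Nat.beq (Nat.mod N r) 0)) prs

/-- the loop over the fields -/
noncomputable def loop (m e e' : ℕ) (g : ℕ → Bool) (n : ℕ) : Bool :=
  Nat.rec (motive := fun _ => Bool) true (fun f b => Bool.rec (motive := fun _ => Bool)
    (Bool.rec (motive := fun _ => Bool) (Bool.rec (motive := fun _ => Bool) false b (g (Nat.succ f))) b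
      (skip m (Nat.mul (Nat.succ f) e'))) b (skip m (Nat.mul (Nat.succ f) e))) n

theorem pd_F : pd = pdF := funext fun N => by
  show prs.filter (fun r => N % r == 0) = List.rec (motive := fun _ => List ℕ) []
    (fun r _ l => Bool.rec (motive := fun _ => List ℕ) l (r :: l) (Nat.beq (Nat.mod N r) 0)) prs
  induction prs with
  | nil => rfl
  | cons r t ih =>
    rw [List.filter_cons, ih, show (N % r == 0) = Nat.beq (Nat.mod N r) 0 by
      rw [Bool.eq_iff_iff, Nat.beq_eq, beq_iff_eq]; rfl]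
    show _ = Bool.rec (motive := fun _ => List ℕ) _ _ (Nat.beq (Nat.mod N r) 0)
    cases Nat.beq (Nat.mod N r) 0 <;> rfl

theorem msk_mem {r : ℕ} : ∀ {ps : List ℕ}, r ∈ ps → (msk ps).testBit (r - 1) = true
  | s :: ps, h => by
    show (1 <<< (s - 1) ||| msk ps).testBit (r - 1) = true
    rw [Nat.testBit_or, Nat.one_shiftLeft, Bool.or_eq_true]
    rcases List.mem_cons.1 h with rfl | h
    · exact Or.inl Nat.testBit_two_pow_self
    · exact Or.inr (msk_mem h)

theorem mul_bit (k : ℕ) : ∀ n j : ℕ, j < n → (mul k n).testBit (k * j) = true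
  | n + 1, j, h => by
    show (1 ||| mul k n <<< k).testBit (k * j) = true
    rw [Nat.testBit_or, Bool.or_eq_true]
    cases j with
    | zero => exact Or.inl (by rw [Nat.mul_zero]; rfl)
    | succ j =>
      rw [Nat.testBit_shiftLeft, Nat.mul_succ, Nat.add_sub_cancel, mul_bit k n j (Nat.lt_of_succ_lt_succ h),
        decide_eq_true (Nat.le_add_left _ _)]
      exact Or.inr rfl

theorem De_one {ps : List ℕ} (hb : ∀ r ∈ ps, r ≤ 620) {k : ℕ} (h : skip (msk ps) k = true) (M : ℕ) : De ps M k = 1 := by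
  have h1 : ps.filter (fun r => (r - 1) % k == 0) = [] := List.filter_eq_nil_iff.2 fun r hr h2 => by
    obtain ⟨j, hj⟩ := Nat.dvd_of_mod_eq_zero (beq_iff_eq.1 h2)
    have h3 : (msk ps &&& mul k (620 / k + 1)).testBit (r - 1) = false :=
      (congrArg (Nat.testBit · (r - 1)) (Nat.eq_of_beq_eq_true h)).trans (Nat.zero_testBit _)
    rw [Nat.testBit_and, msk_mem hr, Bool.true_and, hj] at h3
    rcases Nat.eq_zero_or_pos k with rfl | hk
    · rw [Nat.zero_mul] at h3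
      exact absurd h3 (by decide)
    · rw [mul_bit k _ j (Nat.lt_succ_of_le ((Nat.le_div_iff_mul_le hk).2
        (by rw [Nat.mul_comm, ← hj]; exact (Nat.sub_le _ _).trans (hb r hr))))] at h3
      cases h3
  show ((ps.filter fun r => (r - 1) % k == 0).map fun r => Nat.gcd M (r ^ 600)).prod = 1
  rw [h1]
  rfl

theorem pd_le (N : ℕ) : ∀ r ∈ pd N, r ≤ 620 := fun r h =>
  (by decide +kernel : ∀ r ∈ prs, r ≤ 620) r (List.mem_of_mem_filter h)

theorem loop_all {m e e' : ℕ} {g : ℕ → Bool} (h : ∀ f, skip m (f * e) = true → g f = true)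
    (h' : ∀ f, skip m (f * e') = true → g f = true) :
    ∀ n, loop m e e' g n = true → ((List.range n).all fun f => g (f + 1)) = true
  | 0, _ => rfl
  | n + 1, H => by
    have h1 : Bool.rec (motive := fun _ => Bool) (Bool.rec (motive := fun _ => Bool)
      (Bool.rec (motive := fun _ => Bool) false (loop m e e' g n) (g (n + 1))) (loop m e e' g n)
      (skip m ((n + 1) * e'))) (loop m e e' g n) (skip m ((n + 1) * e)) = true := H
    have h2 : loop m e e' g n = true ∧ g (n + 1) = true := by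
      cases h3 : skip m ((n + 1) * e) <;> rw [h3] at h1
      · cases h4 : skip m ((n + 1) * e') <;> rw [h4] at h1
        · cases h5 : g (n + 1) <;> rw [h5] at h1
          · cases h1
          · exact ⟨h1, rfl⟩
        · exact ⟨h1, h' _ h4⟩
      · exact ⟨h1, h _ h3⟩
    rw [List.range_succ, List.all_append, loop_all h h' n h2.1]
    exact (Bool.and_true _).trans h2.2

/-- the test -/
noncomputable def chkMF (D : TD) (N M d l : ℕ) : Bool :=
  Nat.blt M (2 ^ 600) && loop (msk (pdF N)) D.e D.e' (chk1 D (pdF N) M d l) (619 / D.e)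

theorem chkM_of {D : TD} {N M d l : ℕ} (h : chkMF D N M d l = true) : chkM D (pd N) M d l = true := by
  rw [chkMF, Bool.and_eq_true, ← pd_F] at h
  refine Bool.and_eq_true_iff.2 ⟨h.1, loop_all (fun f hf => ?_) (fun f hf => ?_) _ h.2⟩
  · show (De (pd N) M (f * D.e) == 1 || _) = true
    rw [De_one (pd_le N) hf]
    rfl
  · show (_ || (De (pd N) M (f * D.e') == 1 || _)) = true
    rw [De_one (pd_le N) hf]
    exact Bool.or_true _

/-- the largest region -/
def regL : List (Art.Sh × ℕ × ℕ) :=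
  [(.L 2, 2, 2), (.L 2, 2, 3), (.L 2, 2, 4), (.L 2, 2, 5), (.L 2, 2, 6), (.L 2, 2, 7), (.L 2, 3, 2), (.L 2, 3, 3), (.L
  2, 3, 4), (.L 2, 3, 5), (.L 2, 5, 1), (.L 2, 5, 2), (.L 2, 5, 3), (.L 2, 7, 1), (.L 2, 7, 2), (.L 2, 7, 3), (.L 2,
  11, 1), (.L 2, 11, 2), (.L 2, 13, 1), (.L 2, 13, 2), (.L 2, 17, 1), (.L 2, 17, 2), (.L 2, 19, 1), (.L 2, 19, 2), (.L
  2, 23, 1), (.L 2, 29, 1), (.L 2, 31, 1), (.L 2, 37, 1), (.L 2, 41, 1), (.L 2, 43, 1), (.L 2, 47, 1), (.L 2, 53, 1),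
  (.L 2, 59, 1), (.L 2, 61, 1), (.L 2, 67, 1), (.L 2, 71, 1), (.L 2, 73, 1), (.L 2, 79, 1), (.L 2, 83, 1), (.L 2, 89,
  1), (.L 2, 97, 1), (.L 2, 101, 1), (.L 2, 103, 1), (.L 2, 107, 1), (.L 2, 109, 1), (.L 2, 113, 1), (.L 2, 127, 1),
  (.L 2, 131, 1), (.L 2, 137, 1), (.L 2, 139, 1), (.L 2, 149, 1), (.L 2, 151, 1), (.L 2, 157, 1), (.L 2, 163, 1), (.L
  2, 167, 1), (.L 2, 173, 1), (.L 2, 179, 1), (.L 2, 181, 1), (.L 2, 191, 1), (.L 2, 193, 1), (.L 2, 197, 1), (.L 2,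
  199, 1), (.L 2, 211, 1), (.L 2, 223, 1), (.L 2, 227, 1), (.L 2, 229, 1), (.L 2, 233, 1), (.L 2, 239, 1), (.L 2, 241,
  1), (.L 2, 251, 1), (.L 2, 257, 1), (.L 2, 263, 1), (.L 2, 269, 1), (.L 2, 271, 1), (.L 2, 277, 1), (.L 2, 281, 1),
  (.L 2, 283, 1), (.L 2, 293, 1), (.L 2, 307, 1), (.L 2, 311, 1), (.L 2, 313, 1), (.L 2, 317, 1), (.L 2, 331, 1), (.L
  2, 337, 1), (.L 2, 347, 1), (.L 2, 349, 1), (.L 2, 353, 1), (.L 2, 359, 1), (.L 2, 367, 1), (.L 2, 373, 1), (.L 2,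
  379, 1), (.L 2, 383, 1), (.L 2, 389, 1), (.L 2, 397, 1), (.L 2, 401, 1), (.L 2, 409, 1), (.L 2, 419, 1), (.L 2, 421,
  1), (.L 2, 431, 1), (.L 2, 433, 1), (.L 2, 439, 1), (.L 2, 443, 1), (.L 2, 449, 1), (.L 2, 457, 1), (.L 2, 461, 1),
  (.L 2, 463, 1), (.L 2, 467, 1), (.L 2, 479, 1), (.L 2, 487, 1), (.L 2, 491, 1), (.C 2, 2, 2), (.C 2, 2, 3), (.C 2,
  3, 1), (.C 2, 3, 2), (.C 2, 5, 1), (.C 2, 7, 1), (.C 2, 11, 1), (.C 2, 13, 1), (.C 2, 17, 1), (.C 2, 19, 1), (.L 3,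
  2, 1), (.L 3, 2, 2), (.L 3, 2, 3), (.L 3, 3, 1), (.L 3, 3, 2), (.L 3, 5, 1), (.L 3, 7, 1), (.L 3, 11, 1), (.L 3, 13,
  1), (.C 3, 2, 1), (.C 3, 2, 2), (.C 3, 3, 1), (.C 3, 5, 1), (.C 3, 7, 1), (.U 3, 2, 2), (.U 3, 2, 3), (.U 3, 2, 4),
  (.U 3, 3, 1), (.U 3, 3, 2), (.U 3, 5, 1), (.U 3, 7, 1), (.U 3, 11, 1), (.U 3, 13, 1), (.L 4, 2, 1), (.L 4, 2, 2),
  (.L 4, 3, 1), (.L 4, 5, 1), (.C 4, 2, 1), (.C 4, 3, 1), (.C 4, 5, 1), (.U 4, 2, 1), (.U 4, 2, 2), (.U 4, 3, 1), (.U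
  4, 5, 1), (.D 4, 2, 1), (.D 4, 2, 2), (.D 4, 3, 1), (.D 4, 5, 1), (.DD 4, 2, 1), (.DD 4, 2, 2), (.DD 4, 3, 1), (.DD
  4, 5, 1), (.L 5, 2, 1), (.L 5, 3, 1), (.C 5, 2, 1), (.C 5, 3, 1), (.U 5, 2, 1), (.U 5, 2, 2), (.U 5, 3, 1), (.D 5,
  2, 1), (.D 5, 3, 1), (.DD 5, 2, 1), (.DD 5, 2, 2), (.DD 5, 3, 1), (.DD 5, 5, 1), (.L 6, 2, 1), (.L 6, 3, 1), (.C 6,
  2, 1), (.C 6, 3, 1), (.U 6, 2, 1), (.U 6, 3, 1), (.D 6, 2, 1), (.D 6, 3, 1), (.DD 6, 2, 1), (.DD 6, 3, 1), (.L 7, 2,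
  1), (.C 7, 2, 1), (.U 7, 2, 1), (.D 7, 2, 1), (.DD 7, 2, 1), (.DD 7, 3, 1), (.L 8, 2, 1), (.U 8, 2, 1), (.D 8, 2,
  1), (.DD 8, 2, 1), (.U 9, 2, 1), (.DD 9, 2, 1), (.G2, 2, 2), (.G2, 2, 3), (.G2, 2, 4), (.G2, 3, 1), (.G2, 3, 2),
  (.G2, 5, 1), (.G2, 7, 1), (.G2, 11, 1), (.G2, 13, 1), (.F4, 3, 1), (.TD4, 2, 1), (.TD4, 3, 1), (.Sz, 2, 3), (.Sz, 2,
  5), (.Sz, 2, 7), (.Ree, 3, 3), (.Ree, 3, 5)]

theorem reg_248 : reg 248 = regL := by decide +kernel

theorem mem_regL {n : ℕ} (h : n ≤ 248) {x : Art.Sh × ℕ × ℕ} (hx : x ∈ reg n) :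
    x ∈ regL ∧ Nat.ble (lb x.1 (x.2.1 ^ x.2.2)) n = true := by
  obtain ⟨X, hX, h1⟩ := List.mem_flatMap.1 hx
  obtain ⟨y, hy, rfl⟩ := List.mem_map.1 h1
  obtain ⟨h2, h3⟩ := List.mem_filter.1 hy
  rw [Bool.and_eq_true] at h3
  refine ⟨reg_248 ▸ List.mem_flatMap.2 ⟨X, hX, List.mem_map.2 ⟨y, List.mem_filter.2 ⟨h2, ?_⟩, rfl⟩⟩, h3.1⟩
  exact Bool.and_eq_true_iff.2 ⟨Nat.ble_eq_true_of_le ((Nat.le_of_ble_eq_true h3.1).trans h), h3.2⟩

theorem all_reg {n : ℕ} {g : Art.Sh × ℕ × ℕ → Bool}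
    (h : (Nat.ble n 248 && regL.all fun x => Nat.blt n (lb x.1 (x.2.1 ^ x.2.2)) || g x) = true) :
    ∀ x ∈ reg n, g x = true := fun x hx => by
  rw [Bool.and_eq_true] at h
  have h1 := mem_regL (Nat.le_of_ble_eq_true h.1) hx
  exact (Bool.or_eq_true_iff.1 (List.all_eq_true.1 h.2 x h1.1)).resolve_left fun h2 =>
    Nat.not_succ_le_self _ ((Nat.le_of_ble_eq_true h2).trans (Nat.le_of_ble_eq_true h1.2))

theorem chkR_of {n : ℕ} {D : TD} {exc : List (Art.Sh × ℕ × ℕ)}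
    (h : (Nat.ble n 248 && regL.all fun x => Nat.blt n (lb x.1 (x.2.1 ^ x.2.2)) || (decide (x ∈ exc) ||
      chkMF D (NS x.1 x.2.1 x.2.2) (OL x.1 (x.2.1 ^ x.2.2)) (Art.dd x.1 (x.2.1 ^ x.2.2)) x.2.1)) = true) :
    chkR n D exc = true :=
  List.all_eq_true.2 fun x hx => Bool.or_eq_true_iff.2 ((Bool.or_eq_true_iff.1 (all_reg h x hx)).imp_right chkM_of)

theorem chkS_of {D : TD} (h : (Cfsg.Agent.OrdDiv.spor.all fun x => chkMF D x.2 x.2 1 0) = true) : chkS D = true :=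
  List.all_eq_true.2 fun x hx => chkM_of (List.all_eq_true.1 h x hx)

end Cfsg.Agent.H73.Rg.Fast
end

private theorem dce_633a25b63ee9 : _root_.True := by
  try have : _root_.True := by simp only [_root_.Cfsg.Agent.H73.Rg.okk.eq_1]
  exact _root_.True.intro
end

-- part: H73/Rg/HMain
section
set_option linter.all false
open scoped Cfsg.Agent.FastGrp

/-!
# Two half classes (helper73)

* `redH` : reducedness from `Good`;
* `mainR` : a subgroup containing at least half of two classes and reduced for them has a normal simple subgroup of Lie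
  type in the characteristic;
* `mainH` : the same from `Good`;
* `sepH` : the separation hypothesis from the divisibilities.
-/

set_option autoImplicit false

namespace Cfsg.Agent.H73.Rg

open Cfsg Cfsg.Agent.OrdDiv Cfsg.Agent.H436 Cfsg.Agent.H902 Cfsg.Agent.H902.Names Cfsg.Agent.H915.GN
  Cfsg.Agent.H290.ElReg Cfsg.Agent.H290.ElTab Cfsg.Agent.H290.ElCross Cfsg.Agent.H264.FKS Cfsg.Agent.H56.Exc
  Cfsg.Agent.H325.Loc Cfsg.Agent.H563.KG

variable {n p f : ℕ} {fam : List ℕ} {M E : ℕ → ℕ}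

/-- reducedness from `Good` -/
theorem redH (hcyc : CycFixSolv.{0}) (hp : p.Prime) (hf : 1 ≤ f) {F : Type} [Field F] [CharP F p]
    {T : Type} [Group T] [Finite T] (hrep : Fth n F T)
    (hbig : ∀ c ∈ fam, ∀ r, Prim (p ^ f) c r → Big T r (M c) (E c))
    {c₀ r₀ : ℕ} (hc₀ : c₀ ∈ fam) (hr₀ : Prim p (f * c₀) r₀) (hpiso : PIso p r₀ T)
    {B : Subgroup T} (hr₀B : r₀ ∣ Nat.card B)
    (hgood : ∀ t : ℕ, t.Prime → t ≠ p → (∀ c ∈ fam, ¬ Prim p (f * c) t) → t ∣ Nat.card B → Good B n t) :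
    Red ↥B (Pr (FmH p f fam M E (Nat.card B))) := by
  have := Fact.mk hp
  obtain ⟨τ, hτ⟩ := hrep.sub B.subtype B.subtype_injective
  refine red_of hcyc hτ (fun A hA hAp => pcore_of_piso (hpiso.sub B) hr₀B A hA hAp)
    (pr_fmH.2 ⟨c₀, hc₀, hr₀, hr₀B⟩) hr₀.prime hr₀B
    (fun x hx => ((hbig c₀ hc₀ r₀ (prim_q hf hr₀)).subgroup B).cyc x hx) fun t ht htp htn htB => ?_
  rw [Fintype.card_fin]
  exact hgood t ht htp (fun c hc h => htn (pr_fmH.2 ⟨c, hc, h, htB⟩)) htB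

/-- the simple normal subgroup of a reduced subgroup -/
theorem coreR (hcyc : CycFixSolv.{0}) (hf : 1 ≤ f) {T : Type} [Group T] [Finite T]
    (hbig : ∀ c ∈ fam, ∀ r, Prim (p ^ f) c r → Big T r (M c) (E c))
    {B : Subgroup T} (hfam : fam ≠ []) (hsep : ∀ c ∈ fam, ¬ Nat.card B ∣ E c * M c)
    (hne : ∀ c ∈ fam, ∃ r, Prim p (f * c) r ∧ r ∣ Nat.card B)
    (hred : Red ↥B (Pr (FmH p f fam M E (Nat.card B)))) :
    ∃ (S : Subgroup B) (_ : S.Normal) (_ : IsSimpleGroup S), ¬ IsMulCommutative S ∧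
      (∀ c ∈ fam, S.index ∣ E c * M c) ∧
      (∀ c ∈ fam, ∀ r, Prim p (f * c) r → r ∣ Nat.card B →
        Big S r (M c) (E c) ∧ r ∣ Nat.card S ∧ ¬ r ∣ S.index) := by
  obtain ⟨c₀, hc₀⟩ := List.exists_mem_of_ne_nil fam hfam
  obtain ⟨r₀, hr₀, hr₀B⟩ := hne c₀ hc₀
  have hrf : RFam ↥B (FmH p f fam M E (Nat.card B)) :=
    { big := by
        rintro r m e ⟨c, hc, h, -, rfl, rfl⟩
        exact (hbig c hc r (prim_q hf h)).subgroup B
      dvd := by
        rintro r m e ⟨c, hc, h, hN, rfl, rfl⟩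
        exact hN
      sep := by
        rintro r m e ⟨c, hc, h, -, rfl, rfl⟩
        exact hsep c hc }
  obtain ⟨S, hSn, hSs, hSna, hS⟩ :=
    hrf.exists_full hcyc hred (r₁ := r₀) (m₁ := M c₀) (e₁ := E c₀) ⟨c₀, hc₀, hr₀, hr₀B, rfl, rfl⟩
  refine ⟨S, hSn, hSs, hSna, fun c hc => ?_, fun c hc r h hrB => ?_⟩
  · obtain ⟨r, hr, hrB⟩ := hne c hc
    exact (hS r (M c) (E c) ⟨c, hc, hr, hrB, rfl, rfl⟩).2.2.2
  · obtain ⟨h1, h2, h3, -⟩ := hS r (M c) (E c) ⟨c, hc, h, hrB, rfl, rfl⟩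
    exact ⟨h1, h2, h3⟩

/-- the conclusion of the two-class argument -/
structure ConH (p f : ℕ) (M E : ℕ → ℕ) (e e' : ℕ) {B : Type} [Group B] (S : Subgroup B) : Prop where
  nor : S.Normal
  simple : IsSimpleGroup S
  nc : ¬ IsMulCommutative S
  idx : ∀ c ∈ [e, e'], S.index ∣ E c * M c
  prs : ∀ c ∈ [e, e'], ∀ r, Prim p (f * c) r → r ∣ Nat.card B → Big S r (M c) (E c) ∧ r ∣ Nat.card S ∧ ¬ r ∣ S.index
  half : ∀ c ∈ [e, e'], PP p (f * c) ≤ (Nat.gcd (Nat.card S) (PP p (f * c))) ^ 2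
  h1 : ∀ c ∈ [e, e'], ∃ r, Prim p (f * c) r ∧ r ∣ Nat.card S

/-- **Two half classes.** -/
theorem mainR (tb : OrderTable.{0}) (hcyc : CycFixSolv.{0})
    (hcfsg : ∀ (S : Type) [Group S] [Finite S] [IsSimpleGroup S], IsKnownSimple' S) (haut : AltAut)
    {D : TD} {exc : List (Art.Sh × ℕ × ℕ)} (ht : TblH n D exc (E D.e) (E D.e'))
    (hp : p.Prime) (hf : 1 ≤ f) (hq : D.q₀ ≤ p ^ f) {F : Type} [Field F] [CharP F p]
    {T : Type} [Group T] [Finite T] (hrep : Fth n F T) (hdT : Nat.card T ∣ OL D.Y (p ^ f))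
    (hbig : ∀ c ∈ [D.e, D.e'], ∀ r, Prim (p ^ f) c r → Big T r (M c) (E c))
    {B : Subgroup T} (h1 : HAt p f D.e B) (h2 : HAt p f D.e' B)
    (hsep : ∀ c ∈ [D.e, D.e'], ¬ Nat.card B ∣ E c * M c)
    (hex : ∀ c ∈ D.exs, ∃ s, Prim p (f * c) s ∧ s ∣ Nat.card B ∧ ¬ s ∣ E D.e * M D.e)
    (hred : Red ↥B (Pr (FmH p f [D.e, D.e'] M E (Nat.card B))))
    (hexc : ∀ (S : Subgroup B), ConH p f M E D.e D.e' S → ∀ g l X a, l.Prime → IsNamed g S → IsLie g X l a →
      (X, (l, a)) ∈ exc → False) :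
    ∃ S : Subgroup B, ConH p f M E D.e D.e' S ∧ ∃ g, IsNamed g S ∧ HasChar p g := by
  have h5 := ht.ok.e7
  have h5' := ht.ok.e7'
  have h6 := ht.ok.ne6
  have h6' := ht.ok.ne6'
  have hH : ∀ c ∈ [D.e, D.e'], HAt p f c B := by
    intro c hc
    simp only [List.mem_cons, List.not_mem_nil, or_false] at hc
    rcases hc with rfl | rfl
    · exact h1
    · exact h2
  have hc5 : ∀ c ∈ [D.e, D.e'], 5 ≤ c ∧ c ≠ 6 := by
    intro c hc
    simp only [List.mem_cons, List.not_mem_nil, or_false] at hc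
    rcases hc with rfl | rfl
    · exact ⟨by omega, h6⟩
    · exact ⟨by omega, h6'⟩
  obtain ⟨S, hSn, hSs, hSna, hidx, hbS⟩ := coreR hcyc hf hbig (by simp) hsep
    (fun c hc => (hH c hc).exists_prim hp.two_le hf (hc5 c hc).1 (hc5 c hc).2) hred
  have hc3 : ∀ c ∈ [D.e, D.e'], 3 ≤ f * c := by
    intro c hc
    have h7 := (hc5 c hc).1
    have : 1 * c ≤ f * c := Nat.mul_le_mul_right _ hf
    omega
  have hhalf : ∀ c ∈ [D.e, D.e'], PP p (f * c) ≤ (Nat.gcd (Nat.card S) (PP p (f * c))) ^ 2 := fun c hc =>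
    half_S hp.two_le (hc3 c hc) S (hH c hc).half fun r hr hrB => (hbS c hc r hr hrB).2.2
  have hcon : ConH p f M E D.e D.e' S := ⟨hSn, hSs, hSna, hidx, hbS, hhalf, fun c hc =>
    exists_of_half hp.two_le (hc3 c hc) (fun h8 => mul6 hf (hc5 c hc).1 (hc5 c hc).2 h8.2) (hhalf c hc)⟩
  have hSs' : IsSimpleGroup S := hSs
  have hdS : Nat.card S ∣ OL D.Y (p ^ f) :=
    ((Subgroup.card_subgroup_dvd_card S).trans (Subgroup.card_subgroup_dvd_card B)).trans hdT
  have me : D.e ∈ [D.e, D.e'] := by simp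
  have me' : D.e' ∈ [D.e, D.e'] := by simp
  refine ⟨S, hcon, nameH (N := M D.e) (N' := M D.e') tb haut ht hp hf hq hSna (hcfsg S)
    ((hrep.sub B.subtype B.subtype_injective).sub S.subtype S.subtype_injective) hdS (hhalf _ me) (hhalf _ me') ?_ ?_ ?_
    (hexc S hcon)⟩
  · intro c hc
    obtain ⟨s, hs, hsB, hsn⟩ := hex c hc
    refine ⟨s, hs, ?_⟩
    rw [← S.card_mul_index] at hsB
    rcases hs.prime.dvd_mul.1 hsB with h | h
    · exact h
    · exact absurd (h.trans (hidx _ me)) hsn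
  · exact fun r hr hrS => (hbS _ me r hr (hrS.trans (Subgroup.card_subgroup_dvd_card S))).1
  · exact fun r hr hrS => (hbS _ me' r hr (hrS.trans (Subgroup.card_subgroup_dvd_card S))).1

/-- **Two half classes, reducedness by `Good`.** -/
theorem mainH (tb : OrderTable.{0}) (hcyc : CycFixSolv.{0})
    (hcfsg : ∀ (S : Type) [Group S] [Finite S] [IsSimpleGroup S], IsKnownSimple' S) (haut : AltAut)
    {D : TD} {exc : List (Art.Sh × ℕ × ℕ)} (ht : TblH n D exc (E D.e) (E D.e'))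
    (hp : p.Prime) (hf : 1 ≤ f) (hq : D.q₀ ≤ p ^ f) {F : Type} [Field F] [CharP F p]
    {T : Type} [Group T] [Finite T] (hrep : Fth n F T) (hdT : Nat.card T ∣ OL D.Y (p ^ f))
    (hbig : ∀ c ∈ [D.e, D.e'], ∀ r, Prim (p ^ f) c r → Big T r (M c) (E c))
    {B : Subgroup T} (h1 : HAt p f D.e B) (h2 : HAt p f D.e' B)
    (hsep : ∀ c ∈ [D.e, D.e'], ¬ Nat.card B ∣ E c * M c)
    (hex : ∀ c ∈ D.exs, ∃ s, Prim p (f * c) s ∧ s ∣ Nat.card B ∧ ¬ s ∣ E D.e * M D.e)
    {c₀ : ℕ} (hc₀ : c₀ ∈ [D.e, D.e']) (hpiso : ∀ r, Prim (p ^ f) c₀ r → PIso p r T)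
    (hgood : ∀ t : ℕ, t.Prime → t ≠ p → ¬ Prim p (f * D.e) t → ¬ Prim p (f * D.e') t → t ∣ Nat.card B → Good B n t)
    (hexc : ∀ (S : Subgroup B), ConH p f M E D.e D.e' S → ∀ g l X a, l.Prime → IsNamed g S → IsLie g X l a →
      (X, (l, a)) ∈ exc → False) :
    ∃ S : Subgroup B, ConH p f M E D.e D.e' S ∧ ∃ g, IsNamed g S ∧ HasChar p g := by
  have hH : HAt p f c₀ B ∧ 5 ≤ c₀ ∧ c₀ ≠ 6 := by
    simp only [List.mem_cons, List.not_mem_nil, or_false] at hc₀
    rcases hc₀ with rfl | rfl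
    · exact ⟨h1, by have := ht.ok.e7; omega, ht.ok.ne6⟩
    · exact ⟨h2, by have := ht.ok.e7'; omega, ht.ok.ne6'⟩
  obtain ⟨r₀, hr₀, hr₀B⟩ := hH.1.exists_prim hp.two_le hf hH.2.1 hH.2.2
  exact mainR tb hcyc hcfsg haut ht hp hf hq hrep hdT hbig h1 h2 hsep hex
    (redH hcyc hp hf hrep hbig hc₀ hr₀ (hpiso r₀ (prim_q hf hr₀)) hr₀B fun t ht1 htp htc htB =>
      hgood t ht1 htp (htc _ (by simp)) (htc _ (by simp)) htB) hexc

/-- the separation hypothesis for two classes not dividing each other -/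
theorem sepH {e e' : ℕ} (hp : p.Prime) (hf : 1 ≤ f) {T : Type} [Group T] [Finite T] {B : Subgroup T}
    (h7 : 7 ≤ e) (h7' : 7 ≤ e') (h1 : HAt p f e B) (h2 : HAt p f e' B)
    (hM : ∀ c ∈ [e, e'], M c ∣ (p ^ f) ^ c - 1)
    (hE : ∀ c ∈ [e, e'], ∀ s, s.Prime → s ∣ E c → s ≤ 7) (hnd : ¬ e' ∣ e) (hnd' : ¬ e ∣ e') :
    ∀ c ∈ [e, e'], ¬ Nat.card B ∣ E c * M c := by
  have key : ∀ c c', 7 ≤ c' → HAt p f c' B → M c ∣ (p ^ f) ^ c - 1 → (∀ s, s.Prime → s ∣ E c → s ≤ 7) → ¬ c' ∣ c →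
      ¬ Nat.card B ∣ E c * M c := by
    intro c c' hc7 hc' hMc hEc hnd hcon
    obtain ⟨s, hs, hsB⟩ := hc'.exists_prim hp.two_le hf (by omega) (by omega)
    have hs' := prim_q hf hs
    have hq2 : 2 ≤ p ^ f := hp.two_le.trans (Nat.le_self_pow (by omega) p)
    rcases hs.prime.dvd_mul.1 (hsB.trans hcon) with h3 | h3
    · have h4 := hEc s hs.prime h3
      have h5 := lt_of_prim hq2 (by omega) hs'
      omega
    · exact hnd ((hs'.dvd_iff c).1 (h3.trans hMc))
  intro c hc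
  have hc' := hc
  simp only [List.mem_cons, List.not_mem_nil, or_false] at hc'
  rcases hc' with rfl | rfl
  · exact key _ _ h7' h2 (hM _ hc) (hE _ hc) hnd
  · exact key _ _ h7 h1 (hM _ hc) (hE _ hc) hnd'

end Cfsg.Agent.H73.Rg
end

-- part: H73/Rg/HAlt
section
prune_inst 0x1403044218200000018058033001c46d60005b0006b0000c9c006000f802f222005272182a0111082c8a2c500310048110001d0020000000a000400011c008000890602a148a008100000000080000000000000000000000000000000000004000000000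
set_option linter.all false
open scoped Cfsg.Agent.FastGrp

-- part: H427/Rg/Aut
section
/-!
# S3691, box A: big primes of alternating groups and of `PSL₂(l)` (helper427)

* `alt_aut` : `Big S r N e`, `S ≅ A_m`, `r ∣ |S|`: `r - 1 ∣ 2 e`;
* `psl_aut` : `Big S l N e`, `S ≅ PSL₂(l)`: `l - 1 ∣ 2 e`.
-/

set_option autoImplicit false

namespace Cfsg.Agent.H427.Rg

open Cfsg.Agent.H56.Exc Subgroup
open scoped MatrixGroups

/-- conjugation by a power -/
theorem conj_pow_pow {G : Type*} [Group G] {x y : G} {b : ℕ} (h : y * x * y⁻¹ = x ^ b) (e : ℕ) :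
    y ^ e * x * (y ^ e)⁻¹ = x ^ b ^ e := by
  induction e with
  | zero => simp
  | succ e ih =>
    have h1 : y ^ (e + 1) * x * (y ^ (e + 1))⁻¹ = y * (y ^ e * x * (y ^ e)⁻¹) * y⁻¹ := by
      rw [pow_succ']
      group
    rw [h1, ih, ← conj_pow, h, ← pow_mul, pow_succ']

theorem zmod_pow_eq_one {G : Type*} [Group G] {x y : G} {b r : ℕ} (h : y * x * y⁻¹ = x ^ b) {e : ℕ}
    (hx : orderOf x = r) (hc : Commute (y ^ e) x) : (b : ZMod r) ^ e = 1 := by
  have h1 := conj_pow_pow h e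
  rw [hc.eq, mul_inv_cancel_right] at h1
  have h2 : b ^ e ≡ 1 [MOD r] := by
    rw [← hx, ← pow_eq_pow_iff_modEq, pow_one]
    exact h1.symm
  have h3 := (ZMod.natCast_eq_natCast_iff _ _ _).2 h2
  push_cast at h3
  exact h3

/-- a primitive root -/
theorem exists_root {r : ℕ} (hr : r.Prime) : ∃ a : ℕ, Nat.Coprime a r ∧ ∀ k : ℕ, (a : ZMod r) ^ k = 1 → r - 1 ∣ k := by
  have := Fact.mk hr
  obtain ⟨u, hu⟩ := IsCyclic.exists_ofOrder_eq_natCard (α := (ZMod r)ˣ)
  have h1 : orderOf u = r - 1 := by rw [hu, Nat.card_eq_fintype_card, ZMod.card_units]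
  refine ⟨(u : ZMod r).val, ZMod.val_coe_unit_coprime u, fun k hk => ?_⟩
  rw [ZMod.natCast_zmod_val] at hk
  rw [← h1]
  apply orderOf_dvd_of_pow_eq_one
  apply Units.ext
  rw [Units.val_pow_eq_pow_val, hk, Units.val_one]

/-- **alternating groups** -/
theorem alt_aut {S : Type*} [Group S] [Finite S] {m r N e : ℕ} (h : Big S r N e) (Φ : S ≃* alternatingGroup (Fin m))
    (h5 : 5 ≤ r) (hd : r ∣ Nat.card S) : r - 1 ∣ 2 * e := by
  have hr := h.prime
  have := Fact.mk hr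
  obtain ⟨x₀, hx₀⟩ := exists_prime_orderOf_dvd_card' r hd
  obtain ⟨a, ha, hroot⟩ := exists_root hr
  have hxo : orderOf ((Φ x₀ : alternatingGroup (Fin m)) : Equiv.Perm (Fin m)) = r := by
    rw [Subgroup.orderOf_coe, MulEquiv.orderOf_eq, hx₀]
  set x : Equiv.Perm (Fin m) := ((Φ x₀ : alternatingGroup (Fin m)) : Equiv.Perm (Fin m)) with hx
  have hxa : orderOf (x ^ a) = r := by
    rw [orderOf_pow' x (by
      rintro rfl
      rw [Nat.coprime_zero_left] at ha
      omega), hxo, Nat.Coprime.gcd_eq_one ha.symm, Nat.div_one]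
  have hct : (x ^ a).cycleType = x.cycleType := by
    obtain ⟨n₁, h1⟩ := Equiv.Perm.cycleType_prime_order (σ := x) (by rw [hxo]; exact hr)
    obtain ⟨n₂, h2⟩ := Equiv.Perm.cycleType_prime_order (σ := x ^ a) (by rw [hxa]; exact hr)
    rw [hxo] at h1
    rw [hxa] at h2
    have h3 : (x ^ a).support = x.support := Equiv.Perm.support_pow_coprime (by rw [hxo]; exact ha)
    have h4 := Equiv.Perm.sum_cycleType x
    have h5' := Equiv.Perm.sum_cycleType (x ^ a)
    rw [h3, ← h4, h1, h2, Multiset.sum_replicate, Multiset.sum_replicate, smul_eq_mul, smul_eq_mul] at h5'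
    have h6 := Nat.eq_of_mul_eq_mul_right hr.pos h5'
    rw [h1, h2, h6]
  obtain ⟨σ, hσ⟩ := isConj_iff.1 (Equiv.Perm.isConj_iff_cycleType_eq.2 hct.symm)
  have hy : σ * σ ∈ alternatingGroup (Fin m) := by
    rw [Equiv.Perm.mem_alternatingGroup, map_mul]
    exact Int.units_mul_self _
  set y₀ : S := Φ.symm ⟨σ * σ, hy⟩ with hy₀
  have hc : y₀ * x₀ * y₀⁻¹ = x₀ ^ (a ^ 2) := by
    apply Φ.injective
    rw [map_mul, map_mul, map_inv, map_pow, hy₀, MulEquiv.apply_symm_apply]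
    apply Subtype.ext
    rw [Subgroup.coe_mul, Subgroup.coe_mul, Subgroup.coe_inv, Subgroup.coe_pow]
    change σ * σ * x * (σ * σ)⁻¹ = x ^ (a ^ 2)
    have h1 := conj_pow_pow hσ 2
    rwa [pow_two σ] at h1
  have hcomm := h.aut x₀ y₀ hx₀ (by rw [hc]; exact npow_mem_zpowers x₀ _)
  have h1 := zmod_pow_eq_one hc hx₀ hcomm
  apply hroot
  rw [pow_mul]
  push_cast at h1
  exact h1

/-- **`PSL₂(l)`** -/
theorem psl_aut {S : Type*} [Group S] [Finite S] {l N e : ℕ} (hl : l.Prime) (h5 : 5 ≤ l) {F : Type} [Field F]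
    [Fintype F] (hF : Fintype.card F = l) (Φ : S ≃* Matrix.ProjectiveSpecialLinearGroup (Fin 2) F) (h : Big S l N e) :
    l - 1 ∣ 2 * e := by
  classical
  have := Fact.mk hl
  obtain ⟨a, ha⟩ := IsCyclic.exists_ofOrder_eq_natCard (α := Fˣ)
  have hao : orderOf a = l - 1 := by rw [ha, Nat.card_units, Nat.card_eq_fintype_card, hF]
  let X : F → SL(2, F) := fun t => ⟨!![1, t; 0, 1], by simp⟩
  let Y : SL(2, F) := ⟨!![(a : F), 0; 0, ((a⁻¹ : Fˣ) : F)], by simp⟩
  have hXX : ∀ s t, X s * X t = X (s + t) := by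
    intro s t
    apply Subtype.ext
    change !![1, s; 0, 1] * !![1, t; 0, 1] = !![1, s + t; 0, 1]
    rw [Matrix.mul_fin_two]
    simp [add_comm]
  have hX0 : X 0 = 1 := by
    apply Subtype.ext
    ext i j
    (revert i j; simp only [X, _root_.Fin.forall_fin_succ, _root_.Matrix.of_apply, _root_.Matrix.cons_val', _root_.Matrix.cons_val_fin_one, _root_.Matrix.SpecialLinearGroup.coe_one, Fin.isValue, _root_.Matrix.cons_val_zero, _root_.Matrix.cons_val_succ, _root_.IsEmpty.forall_iff, _root_.and_true, _root_.Matrix.one_apply_eq, Nat.reduceAdd, _root_.Fin.succ_zero_eq_one, _root_.ne_eq, _root_.zero_ne_one, _root_.not_false_eq_true, _root_.Matrix.one_apply_ne, _root_.and_self, _root_.Fin.succ_ne_zero, _root_.true_and])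
  have hXn : ∀ (t : F) (n : ℕ), X t ^ n = X (n * t) := by
    intro t n
    induction n with
    | zero => simp [hX0]
    | succ n ih => rw [pow_succ, ih, hXX]; congr 1; push_cast; ring
  have hYX : ∀ t, Y * X t * Y⁻¹ = X (a ^ 2 * t) := by
    intro t
    rw [mul_inv_eq_iff_eq_mul]
    apply Subtype.ext
    change !![(a : F), 0; 0, ((a⁻¹ : Fˣ) : F)] * !![1, t; 0, 1] = !![1, a ^ 2 * t; 0, 1] * !![(a : F), 0; 0, ((a⁻¹ : Fˣ) : F)]
    rw [Matrix.mul_fin_two, Matrix.mul_fin_two]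
    have h1 : (a : F) * ((a⁻¹ : Fˣ) : F) = 1 := Units.mul_inv a
    ext i j
    (revert i j; simp only [_root_.Fin.forall_fin_succ, _root_.mul_one, _root_.MulZeroClass.mul_zero, _root_.add_zero, _root_.Units.val_inv_eq_inv_val, _root_.MulZeroClass.zero_mul, _root_.zero_add, _root_.Matrix.of_apply, _root_.Matrix.cons_val', _root_.Matrix.cons_val_fin_one, _root_.one_mul, Fin.isValue, _root_.Matrix.cons_val_zero, _root_.Matrix.cons_val_succ, _root_.forall_const, _root_.implies_true, _root_.and_true, _root_.true_and]) <;> (repeat' with_reducible apply And.intro)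
    field_simp
  have hYn : ∀ (n : ℕ) (t : F), Y ^ n * X t * (Y ^ n)⁻¹ = X (a ^ (2 * n) * t) := by
    intro n
    induction n with
    | zero => intro t; simp
    | succ n ih =>
      intro t
      have h1 : Y ^ (n + 1) * X t * (Y ^ (n + 1))⁻¹ = Y * (Y ^ n * X t * (Y ^ n)⁻¹) * Y⁻¹ := by
        rw [pow_succ']
        group
      rw [h1, ih, hYX]
      congr 1
      ring
  -- equality modulo the centre
  have hinj : ∀ s t, (QuotientGroup.mk (X s) : Matrix.ProjectiveSpecialLinearGroup (Fin 2) F) = QuotientGroup.mk (X t) →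
      s = t := by
    intro s t hst
    rw [QuotientGroup.eq, Matrix.SpecialLinearGroup.mem_center_iff] at hst
    obtain ⟨c, -, hc⟩ := hst
    have h1 : (X s : Matrix (Fin 2) (Fin 2) F) * Matrix.scalar (Fin 2) c = X t := by
      rw [hc, ← Matrix.SpecialLinearGroup.coe_mul, mul_inv_cancel_left]
    have h2 : (X s : Matrix (Fin 2) (Fin 2) F) = !![1, s; 0, 1] := rfl
    have h3 : (X t : Matrix (Fin 2) (Fin 2) F) = !![1, t; 0, 1] := rfl
    rw [h2, h3] at h1
    have h4 := congrFun (congrFun h1 1) 1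
    have h5 := congrFun (congrFun h1 0) 1
    simp only [Matrix.mul_apply, Fin.sum_univ_two, Matrix.scalar_apply, _root_.Fin.isValue, _root_.Matrix.of_apply, _root_.Matrix.cons_val', _root_.Matrix.cons_val_fin_one, _root_.Matrix.cons_val_one, _root_.Matrix.cons_val_zero, _root_.ne_eq, _root_.zero_ne_one, _root_.not_false_eq_true, _root_.Matrix.diagonal_apply_ne, _root_.MulZeroClass.mul_zero, _root_.Matrix.diagonal_apply_eq, _root_.one_mul, _root_.zero_add] at h4 h5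
    rw [h4] at h5
    simpa using h5
  have hchar : (l : F) = 0 := by
    rw [← hF]
    exact FiniteField.cast_card_eq_zero F
  set x₀ : S := Φ.symm (QuotientGroup.mk (X 1)) with hx₀
  set y₀ : S := Φ.symm (QuotientGroup.mk Y) with hy₀
  have hxo : orderOf x₀ = l := by
    apply orderOf_eq_prime
    · apply Φ.injective
      rw [map_pow, hx₀, MulEquiv.apply_symm_apply, ← QuotientGroup.mk_pow, hXn, mul_one, hchar, hX0, map_one]
      rfl
    · intro h1
      have h2 : (QuotientGroup.mk (X 1) : Matrix.ProjectiveSpecialLinearGroup (Fin 2) F) = QuotientGroup.mk (X 0) := by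
        rw [hX0]
        apply Φ.symm.injective
        rw [← hx₀, h1, QuotientGroup.mk_one, map_one]
      exact one_ne_zero (hinj _ _ h2)
  -- `a ^ 2` is a natural number
  obtain ⟨k, hk⟩ : ∃ k : ℕ, (k : F) = (a : F) ^ 2 := by
    have hchF : CharP F l := by
      obtain ⟨p, hp⟩ := CharP.exists F
      have hpp := CharP.char_is_prime F p
      have h1 : p ∣ l := (CharP.cast_eq_zero_iff F p l).1 hchar
      rwa [(Nat.prime_dvd_prime_iff_eq hpp hl).1 h1] at hp
    have hb : Function.Bijective (ZMod.castHom (dvd_refl l) F) := by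
      rw [Fintype.bijective_iff_injective_and_card]
      exact ⟨RingHom.injective _, by rw [ZMod.card, hF]⟩
    obtain ⟨z, hz⟩ := hb.2 ((a : F) ^ 2)
    refine ⟨z.val, ?_⟩
    rw [← hz, ← ZMod.natCast_zmod_val z, map_natCast, ZMod.natCast_zmod_val]
  have hc : y₀ * x₀ * y₀⁻¹ = x₀ ^ k := by
    apply Φ.injective
    rw [map_mul, map_mul, map_inv, map_pow, hx₀, hy₀, MulEquiv.apply_symm_apply, MulEquiv.apply_symm_apply,
      ← QuotientGroup.mk_pow, ← QuotientGroup.mk_inv, ← QuotientGroup.mk_mul, ← QuotientGroup.mk_mul, hXn, hYX, hk]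
  have hcomm := h.aut x₀ y₀ hxo (by rw [hc]; exact npow_mem_zpowers x₀ _)
  have h1 : y₀ ^ e * x₀ * (y₀ ^ e)⁻¹ = x₀ := by rw [hcomm.eq, mul_inv_cancel_right]
  have h2 := congrArg Φ h1
  rw [map_mul, map_mul, map_inv, map_pow, hx₀, hy₀, MulEquiv.apply_symm_apply, MulEquiv.apply_symm_apply,
      ← QuotientGroup.mk_pow, ← QuotientGroup.mk_inv, ← QuotientGroup.mk_mul, ← QuotientGroup.mk_mul, hYn] at h2
  have h3 := hinj _ _ h2
  rw [← hao]
  apply orderOf_dvd_of_pow_eq_one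
  apply Units.ext
  rw [Units.val_pow_eq_pow_val, Units.val_one, ← h3, mul_one]

end Cfsg.Agent.H427.Rg
end

-- part: H73/Rg/HAlt
section
/-!
# The automizers in the alternating groups, `PSL₂(l)` (helper73, from helper427)
-/

set_option autoImplicit false

namespace Cfsg.Agent.H73.Rg

open Cfsg Cfsg.Agent.H56.Exc

theorem altAut : AltAut := fun h Φ h5 hd => Cfsg.Agent.H427.Rg.alt_aut h Φ h5 hd

end Cfsg.Agent.H73.Rg
end
end

-- part: H70/Rg/GoodH6
section
prune_inst 0x1603044758202000000059213003c46f60005b0002b0001f9e003000f8ebf6280402f20fa901d0082a8a28550390048111001d00000000000000400011c00a080ab5602a37cad0c34000f808086000000000000000000000000000000041004000000000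
set_option linter.all false
open scoped Cfsg.Agent.FastGrp

/-!
# Reducedness for half classes in `E₆(q)`, `²E₆(q)`, `3 ≤ q` (helper70)

* `redK`, `mainK` : `H73.Rg.redH`, `H73.Rg.mainH` where `Good` is replaced by `Good` or `KillB`;
* `good_e6_9_12`, `good_e6_9_8`, `good_e6_8_12`, `good_te6_18_12`, `good_te6_18_8`, `good_te6_8_12`.
-/

set_option autoImplicit false

namespace Cfsg.Agent.H70.Rg

open Cfsg Cfsg.Agent.OrdDiv Cfsg.Agent.H436 Cfsg.Agent.H902 Cfsg.Agent.H902.Names Cfsg.Agent.H915.GN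
  Cfsg.Agent.H290.ElReg Cfsg.Agent.H290.ElTab Cfsg.Agent.H290.ElCross Cfsg.Agent.H264.FKS Cfsg.Agent.H56.Exc
  Cfsg.Agent.H325.Loc Cfsg.Agent.H563.KG Cfsg.Agent.H190.Odd Cfsg.Agent.H73.Rg

section main

variable {n p f : ℕ} {fam : List ℕ} {M E : ℕ → ℕ}

/-- reducedness from `Good` or `KillB` -/
theorem redK (hcyc : CycFixSolv.{0}) (hp : p.Prime) (hf : 1 ≤ f) {F : Type} [Field F] [CharP F p]
    {T : Type} [Group T] [Finite T] (hrep : Fth n F T)
    (hbig : ∀ c ∈ fam, ∀ r, Prim (p ^ f) c r → Big T r (M c) (E c))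
    {c₀ r₀ : ℕ} (hc₀ : c₀ ∈ fam) (hr₀ : Prim p (f * c₀) r₀) (hpiso : PIso p r₀ T)
    {B : Subgroup T} (hr₀B : r₀ ∣ Nat.card B)
    (hgood : ∀ t : ℕ, t.Prime → t ≠ p → (∀ c ∈ fam, ¬ Prim p (f * c) t) → t ∣ Nat.card B → Good B n t ∨ KillB B t) :
    Red ↥B (Pr (FmH p f fam M E (Nat.card B))) := by
  have := Fact.mk hp
  obtain ⟨τ, hτ⟩ := hrep.sub B.subtype B.subtype_injective
  refine red_kill (p := p) hcyc (fun A hA hAp => pcore_of_piso (hpiso.sub B) hr₀B A hA hAp)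
    (pr_fmH.2 ⟨c₀, hc₀, hr₀, hr₀B⟩) hr₀.prime hr₀B
    (fun x hx => ((hbig c₀ hc₀ r₀ (prim_q hf hr₀)).subgroup B).cyc x hx) fun t ht htp htn htB => ?_
  rcases hgood t ht htp (fun c hc h => htn (pr_fmH.2 ⟨c, hc, h, htB⟩)) htB with h | h
  · exact Good.kill hτ h ht htp (by rw [Fintype.card_fin])
  · exact h

end main

/-! ### the sizes of the class parts -/

theorem g8 : gchk 78 8 30 4 3 [(3, 1, 41)] = true := by decide +kernel
theorem g9 : gchk 78 9 10 6 3 [(2, 2, 19), (3, 2, 37)] = true := by decide +kernel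
theorem g12 : gchk 78 12 30 4 3 [(3, 1, 73)] = true := by decide +kernel
theorem g18 : gchk 78 18 10 6 3 [(3, 1, 37)] = true := by decide +kernel


/-! ### tools -/

section tools

variable {p f : ℕ}

theorem ne_one {c t : ℕ} (h : Prim (p ^ f) c t) (hn : ¬ Prim p (f * c) t) : f ≠ 1 := by
  rintro rfl
  rw [pow_one] at h
  rw [one_mul] at hn
  exact hn h

theorem not_ph {q t c e : ℕ} (hq : 1 ≤ q) (h : Prim q c t) (he : Cls e) (hc : ¬ c ∣ e) : ¬ t ∣ Ph e q := fun h1 =>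
  hc ((h.dvd_iff e).1 (h1.trans (Ph_dvd he hq)))

theorem sq_add_dvd {q : ℕ} (hq : 1 ≤ q) : q ^ 2 + q + 1 ∣ q ^ 3 - 1 := by
  refine ⟨q - 1, ?_⟩
  obtain ⟨k, rfl⟩ := Nat.exists_eq_add_of_le' hq
  rw [Nat.add_sub_cancel]
  have : (k + 1) ^ 3 = ((k + 1) ^ 2 + (k + 1) + 1) * k + 1 := by ring
  omega

theorem sq_sub_dvd {q : ℕ} (hq : 1 ≤ q) : q ^ 2 - q + 1 ∣ q ^ 6 - 1 := by
  obtain ⟨k, rfl⟩ := Nat.exists_eq_add_of_le' hq
  have h0 : (k + 1) ^ 2 - (k + 1) + 1 = k * (k + 1) + 1 := by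
    have : (k + 1) ^ 2 = k * (k + 1) + (k + 1) := by ring
    omega
  rw [h0]
  refine ⟨(k + 2) * (((k + 1) ^ 3) - 1), ?_⟩
  have h1 : 1 ≤ (k + 1) ^ 3 := Nat.one_le_pow _ _ (by omega)
  obtain ⟨m, hm⟩ := Nat.exists_eq_add_of_le' h1
  have h2 : (k + 1) ^ 6 = (m + 1) ^ 2 := by rw [← hm]; ring
  have h3 : (k * (k + 1) + 1) * (k + 2) = m + 2 := by
    have : (k * (k + 1) + 1) * (k + 2) = (k + 1) ^ 3 + 1 := by ring
    omega
  rw [h2, hm, Nat.add_sub_cancel, ← mul_assoc, h3]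
  have : (m + 1) ^ 2 = (m + 2) * m + 1 := by ring
  omega

theorem not_m12 {q t c : ℕ} (hq : 1 ≤ q) (h : Prim q c t) (hc : ¬ c ∣ 12) : ¬ t ∣ Ph 12 q * (q ^ 2 + q + 1) := by
  intro h1
  rcases h.prime.dvd_mul.1 h1 with h2 | h2
  · exact not_ph hq h (by unfold Cls; omega) hc h2
  · exact hc (((h.dvd_iff 3).1 (h2.trans (sq_add_dvd hq))).trans (by norm_num))

theorem not_m12' {q t c : ℕ} (hq : 1 ≤ q) (h : Prim q c t) (hc : ¬ c ∣ 12) : ¬ t ∣ Ph 12 q * (q ^ 2 - q + 1) := by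
  intro h1
  rcases h.prime.dvd_mul.1 h1 with h2 | h2
  · exact not_ph hq h (by unfold Cls; omega) hc h2
  · exact hc (((h.dvd_iff 6).1 (h2.trans (sq_sub_dvd hq))).trans (by norm_num))

theorem not_m8 {q t c : ℕ} (hq : 1 ≤ q) (h : Prim q c t) (hc : ¬ c ∣ 8) : ¬ t ∣ Ph 8 q * (q ^ 2 - 1) := by
  intro h1
  rcases h.prime.dvd_mul.1 h1 with h2 | h2
  · exact not_ph hq h (by unfold Cls; omega) hc h2
  · exact hc (((h.dvd_iff 2).1 h2).trans (by norm_num))

/-- freeness from the centralisers -/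
theorem freeH_of {G : Type*} [Group G] [Finite G] {c t : ℕ} (hp : 2 ≤ p) (hf : 1 ≤ f) (hc : 5 ≤ c) (ht : t.Prime)
    (h : ∀ r, Prim (p ^ f) c r → ∀ x : G, orderOf x = r → ¬ t ∣ Nat.card ↥(Subgroup.centralizer ({x} : Set G))) :
    Free G t (Nat.gcd (Nat.card G) (PP p (f * c))) := by
  intro x hx hxm a ha hcx
  have hfc : 1 * c ≤ f * c := Nat.mul_le_mul_right _ hf
  have h0 := prim_of_dvd_PP hp (by omega) hx (hxm.trans (Nat.gcd_dvd_right _ _))
  have h1 := h _ (prim_q hf h0) x rfl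
  have h2 : a ∈ Subgroup.centralizer ({x} : Set G) := Subgroup.mem_centralizer_singleton_iff.2 hcx.symm
  have h3 : orderOf a ∣ Nat.card ↥(Subgroup.centralizer ({x} : Set G)) := by
    have h4 : orderOf (⟨a, h2⟩ : ↥(Subgroup.centralizer ({x} : Set G))) = orderOf a := by
      rw [← Subgroup.orderOf_coe]
    rw [← h4]
    exact orderOf_dvd_natCard _
  rcases (Nat.dvd_prime ht).1 (orderOf_dvd_of_pow_eq_one ha) with h5 | h5
  · rwa [orderOf_eq_one_iff] at h5
  · rw [h5] at h3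
    exact absurd h3 h1

/-- a class with a prime primitive part -/
theorem dvd_of_half {k N d : ℕ} (hp : 2 ≤ p) (hk : 3 ≤ k) (h6 : ¬ (p = 2 ∧ k = 6)) (h : PP p k ≤ (Nat.gcd N (PP p k)) ^ 2)
    (hd : d.Prime) (hl : nl (fl k) = k) (e : pc p k = d) : d ∣ N := by
  have h1 := gcd_ne_one hp hk h6 h
  rw [PP_eq hl hp, e] at h1
  rcases (Nat.dvd_prime hd).1 (Nat.gcd_dvd_right N d) with h2 | h2
  · exact absurd h2 h1
  · rw [← h2]
    exact Nat.gcd_dvd_left _ _

/-- the number dividing the class part -/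
theorem prim_of_dvd_pc {k t : ℕ} (hp : 2 ≤ p) (hk : 3 ≤ k) (ht : t.Prime) (hl : nl (fl k) = k) (h : t ∣ pc p k) : Prim p k t :=
  prim_of_dvd_PP hp hk ht (by rw [PP_eq hl hp]; exact h)

/-- `O₇ = 1` in a group with elements of order `19`, `241` -/
theorem kill_seven {G : Type*} [Group G] [Finite G] (hd : ¬ 7 ^ 4 ∣ Nat.card G) (h19 : 19 ∣ Nat.card G)
    (hf : Free G 7 19) (h241 : 241 ∣ Nat.card G)
    (hc : ∀ x : G, orderOf x = 241 → Nat.card ↥(Subgroup.centralizer ({x} : Set G)) ∣ 5061) : KillB G 7 := by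
  intro A hAn hAc hAt
  have hp19 : Nat.Prime 19 := by norm_num
  have hp241 : Nat.Prime 241 := by norm_num
  have hp7 : Nat.Prime 7 := by norm_num
  have := Fact.mk hp19
  have := Fact.mk hp241
  have := Fact.mk hp7
  have hPt : IsPGroup 7 A := fun a => ⟨1, by rw [pow_one]; exact Subtype.ext (hAt a a.2)⟩
  obtain ⟨k, hk⟩ := IsPGroup.iff_card.1 hPt
  have hk4 : k < 4 := by
    by_contra hcon
    exact hd ((pow_dvd_pow 7 (by omega)).trans (hk ▸ Subgroup.card_subgroup_dvd_card A))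
  obtain ⟨x, hx⟩ := exists_prime_orderOf_dvd_card' 19 h19
  obtain ⟨y, hy⟩ := exists_prime_orderOf_dvd_card' 241 h241
  have h4 := dvd_card_sub_one (A := A) hp19 hx fun a ha hc =>
    hf x (by rw [hx]; exact hp19) (by rw [hx]) a (hAt a ha) hc
  have h1 := modEq_comm (A := A) hp241 hy
  have h2 : Nat.card {a : G // a ∈ A ∧ y * a = a * y} = Nat.card ↥(A ⊓ Subgroup.centralizer ({y} : Set G)) :=
    Nat.card_congr
      { toFun := fun a => ⟨a.1, a.2.1, Subgroup.mem_centralizer_singleton_iff.2 a.2.2.symm⟩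
        invFun := fun a => ⟨a.1, a.2.1, (Subgroup.mem_centralizer_singleton_iff.1 a.2.2).symm⟩
        left_inv := fun a => rfl
        right_inv := fun a => rfl }
  have h3 : Nat.card ↥(A ⊓ Subgroup.centralizer ({y} : Set G)) ∣ 7 ^ k := by
    rw [← hk]
    exact Subgroup.card_dvd_of_le inf_le_left
  have h5 : Nat.card ↥(A ⊓ Subgroup.centralizer ({y} : Set G)) ∣ 5061 :=
    (Subgroup.card_dvd_of_le inf_le_right).trans (hc y hy)
  rw [h2] at h1
  rw [hk] at h1 h4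
  have h6 : Nat.card ↥(A ⊓ Subgroup.centralizer ({y} : Set G)) ∣ Nat.gcd (7 ^ k) 5061 := Nat.dvd_gcd h3 h5
  generalize Nat.card ↥(A ⊓ Subgroup.centralizer ({y} : Set G)) = c at h1 h6
  interval_cases k
  · rw [pow_zero] at hk
    exact Subgroup.card_eq_one.1 hk
  · norm_num at h4
  · norm_num at h4
  · exfalso
    have h7 : c ∣ 7 := h6
    have h8 : c ≤ 7 := Nat.le_of_dvd (by norm_num) h7
    interval_cases c <;> revert h1 <;> decide

end tools

/-! ### the theorems -/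

section good

variable {p f : ℕ} {G : Type*} [Group G] [Finite G] {t : ℕ}

theorem mem_ex {a b c x y z : ℕ} (h : (a, b, c) ∈ [(x, y, z)]) : a = x ∧ b = y ∧ c = z := by
  simpa using h

/-- **`E₆(q)`, the classes 9, 12.** -/
theorem good_e6_9_12 (hp : p.Prime) (hf : 1 ≤ f) (hq : 3 ≤ p ^ f) (h9 : Ord G (p ^ f) 9 (ncl 9 (p ^ f)))
    (h12 : Ord G (p ^ f) 12 (Ph 12 (p ^ f) * ((p ^ f) ^ 2 + p ^ f + 1))) (hd : Nat.card G ∣ OL .E6 (p ^ f))
    (g9' : PP p (f * 9) ≤ (Nat.gcd (Nat.card G) (PP p (f * 9))) ^ 2)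
    (g12' : PP p (f * 12) ≤ (Nat.gcd (Nat.card G) (PP p (f * 12))) ^ 2)
    (ht : t.Prime) (n9 : ¬ Prim p (f * 9) t) (n12 : ¬ Prim p (f * 12) t) : Good G 78 t ∨ KillB G t := by
  have hp2 := hp.two_le
  have hq1 : 1 ≤ p ^ f := by omega
  have c9 : Cls 9 := by unfold Cls; omega
  have c12 : Cls 12 := by unfold Cls; omega
  by_cases ht9 : t ∣ ncl 9 (p ^ f)
  · left
    have hP := prim_of_dvd c9 hq1 ht ht9
    rcases half_gt (c := 12) hp hf hq (by norm_num) (by norm_num) (by decide +kernel) (by norm_num) (by norm_num) g12 g12'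
      with h | h
    · exact good_gt h12 hp2 hf (by norm_num) ht (not_m12 hq1 hP (by norm_num)) h
    · exact absurd (mem_ex h).2.1 (ne_one hP n9)
  · rcases half_gt (c := 9) hp hf hq (by norm_num) (by norm_num) (by decide +kernel) (by norm_num) (by norm_num) g9 g9'
      with h | h
    · exact Or.inl (good_gt h9 hp2 hf (by norm_num) ht ht9 h)
    · by_cases ht12 : t ∣ Ph 12 (p ^ f) * ((p ^ f) ^ 2 + p ^ f + 1)
      · simp only [List.mem_cons, List.not_mem_nil, or_false, Prod.mk.injEq] at h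
        rcases h with ⟨rfl, rfl, h⟩ | ⟨rfl, rfl, h⟩
        · have e1 : Ph 12 (2 ^ 2) * ((2 ^ 2) ^ 2 + 2 ^ 2 + 1) = 5061 := by decide +kernel
          rw [e1] at ht12 h12
          have e2 : 5061 = (([(3, 1), (7, 1), (241, 1)] : List (ℕ × ℕ)).map fun x => x.1 ^ x.2).prod := by decide +kernel
          rw [e2] at ht12
          obtain ⟨y, hy, hty⟩ := prime_mem ht _ (by
            intro x hx
            simp only [List.mem_cons, List.not_mem_nil, or_false] at hx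
            rcases hx with rfl | rfl | rfl <;> norm_num) ht12
          simp only [List.mem_cons, List.not_mem_nil, or_false] at hy
          rcases hy with rfl | rfl | rfl <;> (simp only at hty; subst hty)
          · left
            refine good_prH h9 hp2 hf (by norm_num) ht ht9 h (by norm_num) fun k hk hkG => ?_
            have h2 : k ≤ 10 := pow_bound (M := OL .E6 (2 ^ 2)) (by decide +kernel) (hkG.trans hd)
            interval_cases k <;> norm_num
          · right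
            refine kill_seven (fun h => ?_) ?_ ?_ ?_ ?_
            · have h8 : ¬ 7 ^ 4 ∣ OL .E6 (2 ^ 2) := by decide +kernel
              exact h8 (h.trans hd)
            · rw [← h]; exact Nat.gcd_dvd_left _ _
            · rw [← h]; exact free_gcd h9 hp2 hf (by norm_num) ht ht9
            · exact dvd_of_half hp2 (by norm_num) (by norm_num) g12' (by norm_num) (by decide +kernel) (by decide +kernel)
            · intro x hx
              exact h12 241 (prim_of_dvd c12 hq1 (by norm_num) (by decide +kernel)) x hx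
          · exact absurd (prim_of_dvd_pc hp2 (by norm_num) ht (by decide +kernel) (by decide +kernel)) n12
        · left
          have e1 : Ph 12 (3 ^ 2) * ((3 ^ 2) ^ 2 + 3 ^ 2 + 1) = 589771 := by decide +kernel
          rw [e1] at ht12 h12
          have e2 : 589771 = (([(7, 1), (13, 1), (6481, 1)] : List (ℕ × ℕ)).map fun x => x.1 ^ x.2).prod := by decide +kernel
          rw [e2] at ht12
          obtain ⟨y, hy, hty⟩ := prime_mem ht _ (by
            intro x hx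
            simp only [List.mem_cons, List.not_mem_nil, or_false] at hx
            rcases hx with rfl | rfl | rfl <;> norm_num) ht12
          simp only [List.mem_cons, List.not_mem_nil, or_false] at hy
          rcases hy with rfl | rfl | rfl <;> (simp only at hty; subst hty)
          · refine good_prH h9 hp2 hf (by norm_num) ht ht9 h (by norm_num) fun k hk hkG => ?_
            have h2 : k ≤ 3 := pow_bound (M := OL .E6 (3 ^ 2)) (by decide +kernel) (hkG.trans hd)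
            interval_cases k <;> norm_num
          · refine good_prH h9 hp2 hf (by norm_num) ht ht9 h (by norm_num) fun k hk hkG => ?_
            have h2 : k ≤ 3 := pow_bound (M := OL .E6 (3 ^ 2)) (by decide +kernel) (hkG.trans hd)
            interval_cases k <;> norm_num
          · exact absurd (prim_of_dvd_pc hp2 (by norm_num) ht (by decide +kernel) (by decide +kernel)) n12
      · left
        refine good_prod h9 h12 hp2 hf (by norm_num) (by norm_num) (by norm_num) ht ht9 ht12 ?_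
        have h3 := (gcd_lb hp2 hf (by norm_num) (by norm_num) g12').1
        have h4 : 19 ≤ Nat.gcd (Nat.card G) (PP p (f * 9)) := by
          simp only [List.mem_cons, List.not_mem_nil, or_false, Prod.mk.injEq] at h
          omega
        have := Nat.mul_le_mul h4 h3
        omega

/-- **`E₆(q)`, the classes 9, 8.** -/
theorem good_e6_9_8 (hp : p.Prime) (hf : 1 ≤ f) (hq : 3 ≤ p ^ f) (h9 : Ord G (p ^ f) 9 (ncl 9 (p ^ f)))
    (h8 : Ord G (p ^ f) 8 (Ph 8 (p ^ f) * ((p ^ f) ^ 2 - 1))) (hd : Nat.card G ∣ OL .E6 (p ^ f))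
    (g9' : PP p (f * 9) ≤ (Nat.gcd (Nat.card G) (PP p (f * 9))) ^ 2)
    (g8' : PP p (f * 8) ≤ (Nat.gcd (Nat.card G) (PP p (f * 8))) ^ 2)
    (ht : t.Prime) (n9 : ¬ Prim p (f * 9) t) (n8 : ¬ Prim p (f * 8) t) : Good G 78 t ∨ KillB G t := by
  left
  have hp2 := hp.two_le
  have hq1 : 1 ≤ p ^ f := by omega
  have c9 : Cls 9 := by unfold Cls; omega
  by_cases ht9 : t ∣ ncl 9 (p ^ f)
  · have hP := prim_of_dvd c9 hq1 ht ht9
    rcases half_gt (c := 8) hp hf hq (by norm_num) (by norm_num) (by decide +kernel) (by norm_num) (by norm_num) g8 g8'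
      with h | h
    · exact good_gt h8 hp2 hf (by norm_num) ht (not_m8 hq1 hP (by norm_num)) h
    · exact absurd (mem_ex h).2.1 (ne_one hP n9)
  · rcases half_gt (c := 9) hp hf hq (by norm_num) (by norm_num) (by decide +kernel) (by norm_num) (by norm_num) g9 g9'
      with h | h
    · exact good_gt h9 hp2 hf (by norm_num) ht ht9 h
    · by_cases ht8 : t ∣ Ph 8 (p ^ f) * ((p ^ f) ^ 2 - 1)
      · simp only [List.mem_cons, List.not_mem_nil, or_false, Prod.mk.injEq] at h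
        rcases h with ⟨rfl, rfl, h⟩ | ⟨rfl, rfl, h⟩
        · have e1 : Ph 8 (2 ^ 2) * ((2 ^ 2) ^ 2 - 1) =
            (([(3, 1), (5, 1), (257, 1)] : List (ℕ × ℕ)).map fun x => x.1 ^ x.2).prod := by decide +kernel
          rw [e1] at ht8
          obtain ⟨y, hy, hty⟩ := prime_mem ht _ (by
            intro x hx
            simp only [List.mem_cons, List.not_mem_nil, or_false] at hx
            rcases hx with rfl | rfl | rfl <;> norm_num) ht8
          simp only [List.mem_cons, List.not_mem_nil, or_false] at hy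
          rcases hy with rfl | rfl | rfl <;> (simp only at hty; subst hty)
          · refine good_prH h9 hp2 hf (by norm_num) ht ht9 h (by norm_num) fun k hk hkG => ?_
            have h2 : k ≤ 10 := pow_bound (M := OL .E6 (2 ^ 2)) (by decide +kernel) (hkG.trans hd)
            interval_cases k <;> norm_num
          · refine good_prH h9 hp2 hf (by norm_num) ht ht9 h (by norm_num) fun k hk hkG => ?_
            have h2 : k ≤ 5 := pow_bound (M := OL .E6 (2 ^ 2)) (by decide +kernel) (hkG.trans hd)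
            interval_cases k <;> norm_num
          · exact absurd (prim_of_dvd_pc hp2 (by norm_num) ht (by decide +kernel) (by decide +kernel)) n8
        · have e1 : Ph 8 (3 ^ 2) * ((3 ^ 2) ^ 2 - 1) =
            (([(2, 5), (5, 1), (17, 1), (193, 1)] : List (ℕ × ℕ)).map fun x => x.1 ^ x.2).prod := by decide +kernel
          rw [e1] at ht8
          obtain ⟨y, hy, hty⟩ := prime_mem ht _ (by
            intro x hx
            simp only [List.mem_cons, List.not_mem_nil, or_false] at hx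
            rcases hx with rfl | rfl | rfl | rfl <;> norm_num) ht8
          simp only [List.mem_cons, List.not_mem_nil, or_false] at hy
          rcases hy with rfl | rfl | rfl | rfl <;> (simp only at hty; subst hty)
          · refine good_prH h9 hp2 hf (by norm_num) ht ht9 h (by norm_num) fun k hk hkG => ?_
            have h2 : k ≤ 30 := pow_bound (M := OL .E6 (3 ^ 2)) (by decide +kernel) (hkG.trans hd)
            interval_cases k <;> norm_num
          · refine good_prH h9 hp2 hf (by norm_num) ht ht9 h (by norm_num) fun k hk hkG => ?_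
            have h2 : k ≤ 5 := pow_bound (M := OL .E6 (3 ^ 2)) (by decide +kernel) (hkG.trans hd)
            interval_cases k <;> norm_num
          · exact absurd (prim_of_dvd_pc hp2 (by norm_num) ht (by decide +kernel) (by decide +kernel)) n8
          · exact absurd (prim_of_dvd_pc hp2 (by norm_num) ht (by decide +kernel) (by decide +kernel)) n8
      · refine good_prod h9 h8 hp2 hf (by norm_num) (by norm_num) (by norm_num) ht ht9 ht8 ?_
        have h3 := (gcd_lb hp2 hf (by norm_num) (by norm_num) g8').1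
        have h4 : 19 ≤ Nat.gcd (Nat.card G) (PP p (f * 9)) := by
          simp only [List.mem_cons, List.not_mem_nil, or_false, Prod.mk.injEq] at h
          omega
        have := Nat.mul_le_mul h4 h3
        omega

/-- **`²E₆(q)`, the classes 18, 12.** -/
theorem good_te6_18_12 (hp : p.Prime) (hf : 1 ≤ f) (hq : 3 ≤ p ^ f) (h18 : Ord G (p ^ f) 18 (ncl 18 (p ^ f)))
    (h12 : Ord G (p ^ f) 12 (Ph 12 (p ^ f) * ((p ^ f) ^ 2 - p ^ f + 1))) (hd : Nat.card G ∣ OL .TE6 (p ^ f))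
    (g18' : PP p (f * 18) ≤ (Nat.gcd (Nat.card G) (PP p (f * 18))) ^ 2)
    (g12' : PP p (f * 12) ≤ (Nat.gcd (Nat.card G) (PP p (f * 12))) ^ 2)
    (ht : t.Prime) (n18 : ¬ Prim p (f * 18) t) (n12 : ¬ Prim p (f * 12) t) : Good G 78 t ∨ KillB G t := by
  left
  have hp2 := hp.two_le
  have hq1 : 1 ≤ p ^ f := by omega
  have c18 : Cls 18 := by unfold Cls; omega
  by_cases ht18 : t ∣ ncl 18 (p ^ f)
  · have hP := prim_of_dvd c18 hq1 ht ht18
    rcases half_gt (c := 12) hp hf hq (by norm_num) (by norm_num) (by decide +kernel) (by norm_num) (by norm_num) g12 g12'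
      with h | h
    · exact good_gt h12 hp2 hf (by norm_num) ht (not_m12' hq1 hP (by norm_num)) h
    · exact absurd (mem_ex h).2.1 (ne_one hP n18)
  · rcases half_gt (c := 18) hp hf hq (by norm_num) (by norm_num) (by decide +kernel) (by norm_num) (by norm_num) g18 g18'
      with h | h
    · exact good_gt h18 hp2 hf (by norm_num) ht ht18 h
    · obtain ⟨rfl, rfl, h⟩ := mem_ex h
      by_cases ht12 : t ∣ Ph 12 (3 ^ 1) * ((3 ^ 1) ^ 2 - 3 ^ 1 + 1)
      · have e1 : Ph 12 (3 ^ 1) * ((3 ^ 1) ^ 2 - 3 ^ 1 + 1) =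
          (([(7, 1), (73, 1)] : List (ℕ × ℕ)).map fun x => x.1 ^ x.2).prod := by decide +kernel
        rw [e1] at ht12
        obtain ⟨y, hy, hty⟩ := prime_mem ht _ (by
          intro x hx
          simp only [List.mem_cons, List.not_mem_nil, or_false] at hx
          rcases hx with rfl | rfl <;> norm_num) ht12
        simp only [List.mem_cons, List.not_mem_nil, or_false] at hy
        rcases hy with rfl | rfl <;> (simp only at hty; subst hty)
        · refine good_prH h18 hp2 hf (by norm_num) ht ht18 h (by norm_num) fun k hk hkG => ?_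
          have h2 : k ≤ 3 := pow_bound (M := OL .TE6 (3 ^ 1)) (by decide +kernel) (hkG.trans hd)
          interval_cases k <;> norm_num
        · exact absurd (prim_of_dvd_pc hp2 (by norm_num) ht (by decide +kernel) (by decide +kernel)) n12
      · refine good_prod h18 h12 hp2 hf (by norm_num) (by norm_num) (by norm_num) ht ht18 ht12 ?_
        have h3 := (gcd_lb hp2 hf (by norm_num) (by norm_num) g12').1
        rw [h]
        have := Nat.mul_le_mul_left 37 h3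
        omega

/-- **`²E₆(q)`, the classes 18, 8.** -/
theorem good_te6_18_8 (hp : p.Prime) (hf : 1 ≤ f) (hq : 3 ≤ p ^ f) (h18 : Ord G (p ^ f) 18 (ncl 18 (p ^ f)))
    (h8 : Ord G (p ^ f) 8 (Ph 8 (p ^ f) * ((p ^ f) ^ 2 - 1))) (hd : Nat.card G ∣ OL .TE6 (p ^ f))
    (g18' : PP p (f * 18) ≤ (Nat.gcd (Nat.card G) (PP p (f * 18))) ^ 2)
    (g8' : PP p (f * 8) ≤ (Nat.gcd (Nat.card G) (PP p (f * 8))) ^ 2)
    (ht : t.Prime) (n18 : ¬ Prim p (f * 18) t) (n8 : ¬ Prim p (f * 8) t) : Good G 78 t ∨ KillB G t := by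
  left
  have hp2 := hp.two_le
  have hq1 : 1 ≤ p ^ f := by omega
  have c18 : Cls 18 := by unfold Cls; omega
  by_cases ht18 : t ∣ ncl 18 (p ^ f)
  · have hP := prim_of_dvd c18 hq1 ht ht18
    rcases half_gt (c := 8) hp hf hq (by norm_num) (by norm_num) (by decide +kernel) (by norm_num) (by norm_num) g8 g8'
      with h | h
    · exact good_gt h8 hp2 hf (by norm_num) ht (not_m8 hq1 hP (by norm_num)) h
    · exact absurd (mem_ex h).2.1 (ne_one hP n18)
  · rcases half_gt (c := 18) hp hf hq (by norm_num) (by norm_num) (by decide +kernel) (by norm_num) (by norm_num) g18 g18'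
      with h | h
    · exact good_gt h18 hp2 hf (by norm_num) ht ht18 h
    · obtain ⟨rfl, rfl, h⟩ := mem_ex h
      by_cases ht8 : t ∣ Ph 8 (3 ^ 1) * ((3 ^ 1) ^ 2 - 1)
      · have e1 : Ph 8 (3 ^ 1) * ((3 ^ 1) ^ 2 - 1) =
          (([(2, 4), (41, 1)] : List (ℕ × ℕ)).map fun x => x.1 ^ x.2).prod := by decide +kernel
        rw [e1] at ht8
        obtain ⟨y, hy, hty⟩ := prime_mem ht _ (by
          intro x hx
          simp only [List.mem_cons, List.not_mem_nil, or_false] at hx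
          rcases hx with rfl | rfl <;> norm_num) ht8
        simp only [List.mem_cons, List.not_mem_nil, or_false] at hy
        rcases hy with rfl | rfl <;> (simp only at hty; subst hty)
        · refine good_prH h18 hp2 hf (by norm_num) ht ht18 h (by norm_num) fun k hk hkG => ?_
          have h2 : k ≤ 30 := pow_bound (M := OL .TE6 (3 ^ 1)) (by decide +kernel) (hkG.trans hd)
          interval_cases k <;> norm_num
        · exact absurd (prim_of_dvd_pc hp2 (by norm_num) ht (by decide +kernel) (by decide +kernel)) n8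
      · refine good_prod h18 h8 hp2 hf (by norm_num) (by norm_num) (by norm_num) ht ht18 ht8 ?_
        have h3 := (gcd_lb hp2 hf (by norm_num) (by norm_num) g8').1
        rw [h]
        have := Nat.mul_le_mul_left 37 h3
        omega

/-- **`E₆(q)`, the classes 8, 12.** -/
theorem good_e6_8_12 (hp : p.Prime) (hf : 1 ≤ f) (hq : 3 ≤ p ^ f)
    (h8 : Ord G (p ^ f) 8 (Ph 8 (p ^ f) * ((p ^ f) ^ 2 - 1)))
    (hcyc : ∀ r, Prim (p ^ f) 8 r → ∀ x : G, orderOf x = r → IsCyclic ↥(Subgroup.centralizer ({x} : Set G)))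
    (h12 : Ord G (p ^ f) 12 (Ph 12 (p ^ f) * ((p ^ f) ^ 2 + p ^ f + 1)))
    (h3x : 3 ∣ p ^ f - 1 → ∀ r, Prim (p ^ f) 12 r → ∀ x : G, orderOf x = r →
      ¬ 3 ∣ Nat.card ↥(Subgroup.centralizer ({x} : Set G)))
    (hd : Nat.card G ∣ OL .E6 (p ^ f))
    (g8' : PP p (f * 8) ≤ (Nat.gcd (Nat.card G) (PP p (f * 8))) ^ 2)
    (g12' : PP p (f * 12) ≤ (Nat.gcd (Nat.card G) (PP p (f * 12))) ^ 2)
    (ht : t.Prime) (htp : t ≠ p) (n8 : ¬ Prim p (f * 8) t) (n12 : ¬ Prim p (f * 12) t) (htG : t ∣ Nat.card G) :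
    Good G 78 t ∨ KillB G t := by
  have hp2 := hp.two_le
  have hq1 : 1 ≤ p ^ f := by omega
  have c12 : Cls 12 := by unfold Cls; omega
  rcases half_gt (c := 12) hp hf hq (by norm_num) (by norm_num) (by decide +kernel) (by norm_num) (by norm_num) g12 g12'
    with k12 | k12
  · rcases half_gt (c := 8) hp hf hq (by norm_num) (by norm_num) (by decide +kernel) (by norm_num) (by norm_num) g8 g8'
      with k8 | k8
    · left
      by_cases hA : t ∣ (p ^ f) ^ 2 + p ^ f + 1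
      · by_cases h3 : t = 3
        · subst h3
          have h4 : 3 ∣ p ^ f - 1 := by
            have h5 : ((p ^ f : ℕ) : ZMod 3) = 1 := by
              rw [← ZMod.natCast_eq_zero_iff] at hA
              have hA' : ((p ^ f : ℕ) : ZMod 3) ^ 2 + ((p ^ f : ℕ) : ZMod 3) + 1 = 0 := by
                rw [← hA]; push_cast; ring
              generalize ((p ^ f : ℕ) : ZMod 3) = x at hA' ⊢
              revert x; decide
            rw [← ZMod.natCast_eq_zero_iff, Nat.cast_sub hq1, h5, Nat.cast_one, sub_self]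
          exact ⟨_, Nat.gcd_dvd_left _ _, freeH_of hp2 hf (by norm_num) ht (h3x h4), Or.inl k12⟩
        · refine good_gt h8 hp2 hf (by norm_num) ht (not8_plus (by omega) ht h3 hA fun h => ?_) k8
          have h4 := (h.dvd_iff 3).1 (hA.trans (sq_add_dvd hq1))
          exact absurd h4 (by norm_num)
      · by_cases hB : t ∣ Ph 12 (p ^ f)
        · have hP := prim_of_dvd c12 hq1 ht (by rw [ncl12_eq]; exact hB)
          exact good_gt h8 hp2 hf (by norm_num) ht (not_m8 hq1 hP (by norm_num)) k8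
        · refine good_gt h12 hp2 hf (by norm_num) ht (fun h => ?_) k12
          rcases ht.dvd_mul.1 h with h | h
          · exact hB h
          · exact hA h
    · obtain ⟨rfl, rfl, -⟩ := mem_ex k8
      exfalso
      rw [PP_eq (by decide +kernel) hp2] at k12
      have h1 : Nat.gcd (Nat.card G) (pc 3 (1 * 12)) ≤ pc 3 (1 * 12) := Nat.gcd_le_right _ (by decide +kernel)
      have h2 : pc 3 (1 * 12) = 73 := by decide +kernel
      omega
  · obtain ⟨rfl, rfl, -⟩ := mem_ex k12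
    have d73 : ncl 12 3 ∣ Nat.card G := by
      rw [show ncl 12 3 = 73 by decide +kernel]
      exact dvd_of_half hp2 (by norm_num) (by norm_num) g12' (by norm_num) (by decide +kernel) (by decide +kernel)
    have d41 : ncl 8 3 ∣ Nat.card G := by
      rw [show ncl 8 3 = 41 by decide +kernel]
      exact dvd_of_half hp2 (by norm_num) (by norm_num) g8' (by norm_num) (by decide +kernel) (by decide +kernel)
    rw [one_mul] at n8 n12
    rw [pow_one] at h8 h12 hd h3x hcyc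
    exact Cfsg.Agent.H190.Cov.good_e6c3 le_rfl le_rfl h12 h3x h8 hcyc hd d73 d41 ht
      (fun h => htp ((Nat.prime_dvd_prime_iff_eq ht Nat.prime_three).1 h)) n12 n8 htG

/-- **`²E₆(q)`, the classes 8, 12.** -/
theorem good_te6_8_12 (hp : p.Prime) (hf : 1 ≤ f) (hq : 3 ≤ p ^ f)
    (h8 : Ord G (p ^ f) 8 (Ph 8 (p ^ f) * ((p ^ f) ^ 2 - 1)))
    (hcyc : ∀ r, Prim (p ^ f) 8 r → ∀ x : G, orderOf x = r → IsCyclic ↥(Subgroup.centralizer ({x} : Set G)))
    (h12 : Ord G (p ^ f) 12 (Ph 12 (p ^ f) * ((p ^ f) ^ 2 - p ^ f + 1)))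
    (h3x : 3 ∣ p ^ f + 1 → ∀ r, Prim (p ^ f) 12 r → ∀ x : G, orderOf x = r →
      ¬ 3 ∣ Nat.card ↥(Subgroup.centralizer ({x} : Set G)))
    (hd : Nat.card G ∣ OL .TE6 (p ^ f))
    (g8' : PP p (f * 8) ≤ (Nat.gcd (Nat.card G) (PP p (f * 8))) ^ 2)
    (g12' : PP p (f * 12) ≤ (Nat.gcd (Nat.card G) (PP p (f * 12))) ^ 2)
    (ht : t.Prime) (htp : t ≠ p) (n8 : ¬ Prim p (f * 8) t) (n12 : ¬ Prim p (f * 12) t) (htG : t ∣ Nat.card G) :
    Good G 78 t ∨ KillB G t := by
  have hp2 := hp.two_le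
  have hq1 : 1 ≤ p ^ f := by omega
  have hle : p ^ f ≤ (p ^ f) ^ 2 := Nat.le_self_pow (by norm_num) _
  have c12 : Cls 12 := by unfold Cls; omega
  rcases half_gt (c := 12) hp hf hq (by norm_num) (by norm_num) (by decide +kernel) (by norm_num) (by norm_num) g12 g12'
    with k12 | k12
  · rcases half_gt (c := 8) hp hf hq (by norm_num) (by norm_num) (by decide +kernel) (by norm_num) (by norm_num) g8 g8'
      with k8 | k8
    · left
      by_cases hA : t ∣ (p ^ f) ^ 2 - p ^ f + 1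
      · by_cases h3 : t = 3
        · subst h3
          have h4 : 3 ∣ p ^ f + 1 := by
            rw [← ZMod.natCast_eq_zero_iff] at hA ⊢
            have hA' : ((p ^ f : ℕ) : ZMod 3) ^ 2 - ((p ^ f : ℕ) : ZMod 3) + 1 = 0 := by
              rw [← hA, Nat.cast_add, Nat.cast_sub hle]; push_cast; ring
            rw [Nat.cast_add, Nat.cast_one]
            generalize ((p ^ f : ℕ) : ZMod 3) = x at hA' ⊢
            revert x; decide
          exact ⟨_, Nat.gcd_dvd_left _ _, freeH_of hp2 hf (by norm_num) ht (h3x h4), Or.inl k12⟩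
        · refine good_gt h8 hp2 hf (by norm_num) ht (not8_minus (by omega) ht h3 hA fun h => ?_) k8
          have h4 := (h.dvd_iff 6).1 (hA.trans (sq_sub_dvd hq1))
          exact absurd h4 (by norm_num)
      · by_cases hB : t ∣ Ph 12 (p ^ f)
        · have hP := prim_of_dvd c12 hq1 ht (by rw [ncl12_eq]; exact hB)
          exact good_gt h8 hp2 hf (by norm_num) ht (not_m8 hq1 hP (by norm_num)) k8
        · refine good_gt h12 hp2 hf (by norm_num) ht (fun h => ?_) k12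
          rcases ht.dvd_mul.1 h with h | h
          · exact hB h
          · exact hA h
    · obtain ⟨rfl, rfl, -⟩ := mem_ex k8
      exfalso
      rw [PP_eq (by decide +kernel) hp2] at k12
      have h1 : Nat.gcd (Nat.card G) (pc 3 (1 * 12)) ≤ pc 3 (1 * 12) := Nat.gcd_le_right _ (by decide +kernel)
      have h2 : pc 3 (1 * 12) = 73 := by decide +kernel
      omega
  · obtain ⟨rfl, rfl, -⟩ := mem_ex k12
    have d73 : ncl 12 3 ∣ Nat.card G := by
      rw [show ncl 12 3 = 73 by decide +kernel]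
      exact dvd_of_half hp2 (by norm_num) (by norm_num) g12' (by norm_num) (by decide +kernel) (by decide +kernel)
    have d41 : ncl 8 3 ∣ Nat.card G := by
      rw [show ncl 8 3 = 41 by decide +kernel]
      exact dvd_of_half hp2 (by norm_num) (by norm_num) g8' (by norm_num) (by decide +kernel) (by decide +kernel)
    rw [one_mul] at n8 n12
    rw [pow_one] at h8 h12 hd h3x hcyc
    exact Cfsg.Agent.H190.Cov.good_te6c le_rfl le_rfl h12 h3x h8 hcyc hd d73 d41 ht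
      (fun h => htp ((Nat.prime_dvd_prime_iff_eq ht Nat.prime_three).1 h)) n12 n8 htG

end good

end Cfsg.Agent.H70.Rg
end

-- part: H946/RgF4/Sec
section
prune_inst 0x1601040718202000000058213003c06440005b0002b0001d9a00200030eb32280002720428018000248220100010000001000d0000000000a0004000004002080a814002110a00404000f803086000000000000000000000000000000041004000000000
set_option linter.all false
open scoped Cfsg.Agent.FastGrp

-- part: H946/RgF4/Cls
section
/-!
# S3691, row `F₄(q)`: groups of Lie type in characteristic `p` of order dividing `|F₄(q)|` (helper946)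

`TS p f b c cT g`: a group of order `c` with the name `g` over `p ^ b`, `c ∣ cT`, the order of `F₄(p ^ f)`.

* `TS.top12` : if a prime `r` with `ord_r(p) = 12 f` divides `c` then `top g * b = 12 * f`;
* `TS.top8` : if a prime `r` with `ord_r(p) = 8 f` divides `c`, and none with `ord_r(p) = 12 f`, then `top g * b = 8 * f`;
* `list_C` : the names with `ex g ≤ 3 top g`.
-/

set_option autoImplicit false

namespace Cfsg.Agent.H946.RgF4

open Cfsg Cfsg.Agent.OrdDiv Cfsg.Agent.H436 Cfsg.Agent.H425.PartP Cfsg.Agent.H425.Chr Cfsg.Agent.H946.Exc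

/-- the orders of a group of Lie type of characteristic `p` and of `F₄(p ^ f)` -/
structure TS (p f b c cT : ℕ) (g : Grp) : Prop where
  T : Dt p f cT (.f4 (p ^ f))
  S : Dt p b c g
  dvd : c ∣ cT

variable {p f b c cT : ℕ} {g : Grp}

theorem TS.pos (H : TS p f b c cT g) : 0 < f ∧ 0 < b :=
  ⟨Nat.pos_of_ne_zero H.T.hf, Nat.pos_of_ne_zero H.S.hf⟩

/-- a class of the subgroup is a class of `F₄` -/
theorem TS.cls (H : TS p f b c cT g) {e : ℕ} (he : 3 ≤ e) (h6 : ¬ (p = 2 ∧ e = 6)) (h : Kc g (e / Nat.gcd e b)) :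
    Kc (.f4 (p ^ f)) (e / Nat.gcd e f) := by
  obtain ⟨w, hw, hwc⟩ := (H.S.in_iff he h6).2 h
  exact (H.T.dvd_iff he hw).1 (hwc.trans H.dvd)

theorem TS.k1 (H : TS p f b c cT g) {x : ℕ} (k l m d₁ d₂ : ℕ) (hx : 0 < x) (ha : f = m * x) (hb : b = l * x)
    (he : 3 ≤ k * x) (h6 : ¬ (p = 2 ∧ k * x = 6)) (e1 : k / Nat.gcd k l = d₁) (h1 : Kc g d₁)
    (e2 : k / Nat.gcd k m = d₂) (h2 : ¬ (d₂ = 1 ∨ d₂ = 2 ∨ d₂ = 3 ∨ d₂ = 4 ∨ d₂ = 6 ∨ d₂ = 8 ∨ d₂ = 12)) : False := by
  have h3 := H.cls he h6 (by rw [hb, quot_mul hx, e1]; exact h1)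
  rw [ha, quot_mul hx, e2] at h3
  exact h2 h3.f4

/-- the class 8 of `F₄` is not a class of the subgroup -/
theorem TS.no8 (_H : TS p f b c cT g) (h8 : ¬ Kc g (8 * f / Nat.gcd (8 * f) b)) {x : ℕ} (l m d : ℕ) (hx : 0 < x)
    (ha : f = m * x) (hb : b = l * x) (e : 8 * m / Nat.gcd (8 * m) l = d) (h : Kc g d) : False := by
  apply h8
  rw [ha, hb, ← mul_assoc, quot_mul hx, e]
  exact h

theorem TS.qne (H : TS p f b c cT g) : qOf g ≠ 0 := by
  rw [H.S.hq]; exact (pow_pos H.S.hp.pos b).ne'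

theorem TS.ge_of (H : TS p f b c cT g) {e r : ℕ} (he : 3 ≤ e) (hr : Prim p e r) (hrc : r ∣ c) : e ≤ top g * b := by
  have hb := H.pos.2
  have h1 := Kc_le_top H.S.cond H.qne ((H.S.dvd_iff he hr).1 hrc)
  have h7 : e = e / Nat.gcd e b * Nat.gcd e b := (Nat.div_mul_cancel (Nat.gcd_dvd_left _ _)).symm
  rw [h7]
  exact Nat.mul_le_mul h1 (Nat.le_of_dvd hb (Nat.gcd_dvd_right _ _))

/-- the top class -/
theorem TS.topcls (H : TS p f b c cT g) (he : 7 ≤ top g * b) : ∃ v, Prim p (top g * b) v ∧ v ∣ c ∧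
    Kc (.f4 (p ^ f)) (top g * b / Nat.gcd (top g * b) f) := by
  have hb := H.pos.2
  have h1 : Kc g (top g * b / Nat.gcd (top g * b) b) := by
    have := quot_mul (k := top g) (l := 1) hb
    rw [one_mul, Nat.gcd_one_right, Nat.div_one] at this
    rw [this]
    exact Kc_top' H.S.cond H.qne
  obtain ⟨v, hv, hvc⟩ := (H.S.in_iff (by omega) (by omega)).2 h1
  exact ⟨v, hv, hvc, (H.T.dvd_iff (by omega) hv).1 (hvc.trans H.dvd)⟩

theorem TS.top12 (H : TS p f b c cT g) {r : ℕ} (hr : Prim p (12 * f) r) (hrc : r ∣ c) : top g * b = 12 * f := by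
  have hf := H.pos.1
  have h1 := H.ge_of (by omega) hr hrc
  obtain ⟨v, -, -, hv⟩ := H.topcls (by omega)
  have h5 : top g * b / Nat.gcd (top g * b) f ≤ 12 := by have := hv.f4; omega
  have h7 : top g * b = top g * b / Nat.gcd (top g * b) f * Nat.gcd (top g * b) f :=
    (Nat.div_mul_cancel (Nat.gcd_dvd_left _ _)).symm
  have h8 := Nat.mul_le_mul h5 (Nat.le_of_dvd hf (Nat.gcd_dvd_right (top g * b) f))
  omega

theorem TS.top8 (H : TS p f b c cT g) {r : ℕ} (hr : Prim p (8 * f) r) (hrc : r ∣ c)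
    (h12 : ∀ w, Prim p (12 * f) w → ¬ w ∣ c) : top g * b = 8 * f := by
  have hf := H.pos.1
  have h1 := H.ge_of (by omega) hr hrc
  obtain ⟨v, hv, hvc, hK⟩ := H.topcls (by omega)
  have h7 : top g * b = top g * b / Nat.gcd (top g * b) f * Nat.gcd (top g * b) f :=
    (Nat.div_mul_cancel (Nat.gcd_dvd_left _ _)).symm
  have h8 := Nat.gcd_dvd_right (top g * b) f
  set j := top g * b / Nat.gcd (top g * b) f with hj
  set e := Nat.gcd (top g * b) f with he
  have hj' := hK.f4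
  obtain ⟨k, hk⟩ := h8
  have he0 : 0 < e := by
    rcases Nat.eq_zero_or_pos e with h | h
    · rw [h, zero_mul] at hk; omega
    · exact h
  have hk0 : 0 < k := by
    rcases Nat.eq_zero_or_pos k with h | h
    · rw [h, mul_zero] at hk; omega
    · exact h
  have h9 : 8 * (e * k) ≤ j * e := by rw [← hk]; omega
  have h10 : 8 * k ≤ j := by
    apply Nat.le_of_mul_le_mul_right _ he0
    calc 8 * k * e = 8 * (e * k) := by ring
      _ ≤ j * e := h9
  have hk1 : k = 1 := by omega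
  rw [hk1, mul_one] at hk
  rcases (show j = 8 ∨ j = 12 by (clear * - hj' h10 hk1; omega)) with h | h
  · rw [h7, h, ← hk]
  · exfalso
    rw [h, ← hk] at h7
    rw [h7] at hv
    exact h12 v hv hvc

theorem TS.all (H : TS p f b c cT g) {e r w : ℕ} (he : 3 ≤ e) (hr : Prim p e r) (hrc : r ∣ c) (hw : Prim p e w) :
    w ∣ c := (H.S.dvd_iff he hw).2 ((H.S.dvd_iff he hr).1 hrc)

theorem TS.ex_le (H : TS p f b c cT g) {k : ℕ} (h : top g * b = k * f) : ex g * k ≤ top g * 24 := by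
  have hf := H.pos.1
  have h1 : c.factorization p ≤ cT.factorization p :=
    (Nat.factorization_le_iff_dvd H.S.hc H.T.hc).2 H.dvd p
  rw [H.S.fac, H.T.fac] at h1
  have h24 : ex (.f4 (p ^ f)) = 24 := rfl
  rw [h24] at h1
  by_contra hlt
  push Not at hlt
  have h2 : top g * 24 * f < ex g * k * f := Nat.mul_lt_mul_of_pos_right hlt hf
  have h3 : ex g * k * f = top g * (b * ex g) := by
    calc ex g * k * f = ex g * (k * f) := by ring
      _ = ex g * (top g * b) := by rw [h]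
      _ = _ := by ring
  have h4 : top g * (b * ex g) ≤ top g * (f * 24) := Nat.mul_le_mul_left _ h1
  have h5 : top g * (f * 24) = top g * 24 * f := by ring
  omega

/-- the names with `ex g ≤ 3 top g` -/
theorem list_C {g : Grp} (hg : Cond g) (hq : qOf g ≠ 0) (h : ex g ≤ 3 * top g) :
    (∃ n u, n ≤ 7 ∧ g = .psl n u) ∨ (∃ m u, m ≤ 6 ∧ g = .psp m u) ∨ (∃ m u, m ≤ 6 ∧ g = .oodd m u) ∨
      (∃ n u, g = .psu n u) ∨ (∃ m u, m ≤ 6 ∧ g = .oplus m u) ∨ (∃ m u, m ≤ 7 ∧ g = .ominus m u) ∨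
      (∃ u, g = .g2 u) ∨ (∃ u, g = .f4 u) ∨ (∃ u, g = .e6 u) ∨ (∃ u, g = .te6 u) ∨ (∃ u, g = .td4 u) ∨
      (∃ u, g = .sz u) ∨ (∃ u, g = .ree u) ∨ (∃ u, g = .tf4 u) := by
  cases g with
  | psl n u =>
    have h1 : 2 ≤ n := hg.1
    have h2 : n * (n - 1) / 2 ≤ 3 * n := h
    have h3 : n ≤ 7 := by
      by_contra h4
      have h5 : n * 7 ≤ n * (n - 1) := Nat.mul_le_mul_left n (by omega)
      omega
    exact Or.inl ⟨n, u, h3, rfl⟩
  | psp m u =>
    have h2 : m ^ 2 ≤ 3 * (2 * m) := h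
    have h1 : 2 ≤ m := hg.1
    have h3 : m ≤ 6 := by
      by_contra h4
      have h5 : m * 7 ≤ m * m := Nat.mul_le_mul_left m (by omega)
      rw [sq] at h2
      omega
    exact Or.inr (Or.inl ⟨m, u, h3, rfl⟩)
  | oodd m u =>
    have h2 : m ^ 2 ≤ 3 * (2 * m) := h
    have h1 : 3 ≤ m := hg.1
    have h3 : m ≤ 6 := by
      by_contra h4
      have h5 : m * 7 ≤ m * m := Nat.mul_le_mul_left m (by omega)
      rw [sq] at h2
      omega
    exact Or.inr (Or.inr (Or.inl ⟨m, u, h3, rfl⟩))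
  | psu n u => exact Or.inr (Or.inr (Or.inr (Or.inl ⟨n, u, rfl⟩)))
  | oplus m u =>
    have h1 : 4 ≤ m := hg.1
    have h2 : m * (m - 1) ≤ 3 * (2 * (m - 1)) := h
    have h3 : m ≤ 6 := by
      by_contra h4
      have h5 : 7 * (m - 1) ≤ m * (m - 1) := Nat.mul_le_mul_right _ (by omega)
      omega
    exact Or.inr (Or.inr (Or.inr (Or.inr (Or.inl ⟨m, u, h3, rfl⟩))))
  | ominus m u =>
    have h1 : 4 ≤ m := hg.1
    have h2 : m * (m - 1) ≤ 3 * (2 * m) := h
    have h3 : m ≤ 7 := by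
      by_contra h4
      have h5 : m * 7 ≤ m * (m - 1) := Nat.mul_le_mul_left m (by omega)
      omega
    exact Or.inr (Or.inr (Or.inr (Or.inr (Or.inr (Or.inl ⟨m, u, h3, rfl⟩)))))
  | g2 u => simp only [_root_.reduceCtorEq, _root_.and_false, _root_.exists_const, _root_.Cfsg.Agent.OrdDiv.Grp.g2.injEq, _root_.exists_eq', _root_.or_self, _root_.or_false, _root_.or_true]
  | f4 u => simp only [_root_.reduceCtorEq, _root_.and_false, _root_.exists_const, _root_.Cfsg.Agent.OrdDiv.Grp.f4.injEq, _root_.exists_eq', _root_.or_self, _root_.or_false, _root_.or_true]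
  | e6 u => simp only [_root_.reduceCtorEq, _root_.and_false, _root_.exists_const, _root_.Cfsg.Agent.OrdDiv.Grp.e6.injEq, _root_.exists_eq', _root_.or_self, _root_.or_false, _root_.or_true]
  | e7 u => exact absurd h (by change ¬ (63 ≤ 3 * 18); norm_num)
  | e8 u => exact absurd h (by change ¬ (120 ≤ 3 * 30); norm_num)
  | te6 u => simp only [_root_.reduceCtorEq, _root_.and_false, _root_.exists_const, _root_.Cfsg.Agent.OrdDiv.Grp.te6.injEq, _root_.exists_eq', _root_.or_self, _root_.or_false, _root_.or_true]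
  | td4 u => simp only [_root_.reduceCtorEq, _root_.and_false, _root_.exists_const, _root_.Cfsg.Agent.OrdDiv.Grp.td4.injEq, _root_.exists_eq', _root_.or_self, _root_.or_false, _root_.or_true]
  | sz u => simp only [_root_.reduceCtorEq, _root_.and_false, _root_.exists_const, _root_.Cfsg.Agent.OrdDiv.Grp.sz.injEq, _root_.exists_eq', _root_.or_self, _root_.or_false, _root_.or_true]
  | ree u => simp only [_root_.reduceCtorEq, _root_.and_false, _root_.exists_const, _root_.Cfsg.Agent.OrdDiv.Grp.ree.injEq, _root_.exists_eq', _root_.or_false, _root_.or_true]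
  | tf4 u => simp only [_root_.reduceCtorEq, _root_.and_false, _root_.exists_const, _root_.Cfsg.Agent.OrdDiv.Grp.tf4.injEq, _root_.exists_eq', _root_.or_true]
  | _ => exact absurd rfl hq

end Cfsg.Agent.H946.RgF4
end

-- part: H946/RgF4/Typ
section
/-!
# S3691, row `F₄(q)`: the sizes of the groups of Lie type in characteristic `p` (helper946)

`W p c` : the part of `c` prime to `p`.

* `type12` : a class 12 group without class 8;
* `type8` : a class 8 group without class 12.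
-/

set_option autoImplicit false

namespace Cfsg.Agent.H946.RgF4

open Cfsg Cfsg.Agent.OrdDiv Cfsg.Agent.H436 Cfsg.Agent.H425.PartP Cfsg.Agent.H425.Chr Cfsg.Agent.H946.Exc

/-- the part prime to `p` -/
def W (p c : ℕ) : ℕ := c / p ^ c.factorization p

theorem W_mul (p c : ℕ) : p ^ c.factorization p * W p c = c := Nat.ordProj_mul_ordCompl_eq_self c p

variable {p f b c cT : ℕ} {g : Grp}

theorem w_eq (H : Dt p b c g) {R d : ℕ} (h : d * c = (p ^ b) ^ ex g * R) : d * W p c = R := by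
  have h1 := W_mul p c
  rw [H.fac, pow_mul] at h1
  have h2 : 0 < (p ^ b) ^ ex g := pow_pos (pow_pos H.hp.pos _) _
  apply Nat.eq_of_mul_eq_mul_left h2
  rw [← h, ← h1]
  rw [show (p ^ b) ^ ex g * W p c = c from h1]
  calc (p ^ b) ^ ex g * (d * W p c) = d * ((p ^ b) ^ ex g * W p c) := by ring
    _ = _ := by rw [h1]

theorem s25 {q k : ℕ} (hq : 5 ≤ q) (hk : 2 ≤ k) : 24 * q ^ k ≤ 25 * (q ^ k - 1) := by
  have h1 : 5 ^ 2 ≤ q ^ k := (Nat.pow_le_pow_left hq 2).trans (Nat.pow_le_pow_right (by omega) hk)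
  omega

theorem s5 {q : ℕ} (hq : 5 ≤ q) : 4 * q ≤ 5 * (q - 1) := by omega

theorem pow_step {q k : ℕ} (hq : 5 ≤ q) : 5 * q ^ k ≤ q ^ (k + 1) := by
  rw [pow_succ, mul_comm]
  exact Nat.mul_le_mul_left _ hq

theorem pow_le' {q k l : ℕ} (hq : 5 ≤ q) (h : k ≤ l) : q ^ k ≤ q ^ l := Nat.pow_le_pow_right (by omega) h

/-! ### the numbers -/

section num

variable {q w : ℕ} (hq : 5 ≤ q)

include hq

theorem n_psl2 {d : ℕ} (hd : d ≤ 2) (h : d * w = q ^ 12 - 1) : q ^ 9 ≤ 2 * w := by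
  have h1 := s25 hq (k := 12) (by norm_num)
  have h2 := pow_le' hq (show 9 ≤ 11 by norm_num)
  have h3 := pow_step hq (k := 11)
  have h4 := Nat.mul_le_mul_right w hd
  norm_num at h3
  omega

theorem n_psu3 {d : ℕ} (hd : d ≤ 3) (h : d * w = (q ^ 4 - 1) * (q ^ 6 + 1)) : q ^ 9 ≤ 2 * w := by
  have h1 := s25 hq (k := 4) (by norm_num)
  have h2 : 24 * q ^ 4 * q ^ 6 ≤ 25 * (q ^ 4 - 1) * (q ^ 6 + 1) := Nat.mul_le_mul h1 (Nat.le_succ _)
  have h3 := pow_step hq (k := 9)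
  have h4 := Nat.mul_le_mul_right w hd
  have h5 : 24 * q ^ 4 * q ^ 6 = 24 * q ^ 10 := by ring
  have h6 : 25 * (q ^ 4 - 1) * (q ^ 6 + 1) = 25 * (d * w) := by rw [h]; ring
  norm_num at h3
  omega

theorem n_sz (h : 1 * w = (q ^ 3 - 1) * (q ^ 6 + 1)) : q ^ 9 ≤ 2 * w := by
  have h1 := s25 hq (k := 3) (by norm_num)
  have h2 : 24 * q ^ 3 * q ^ 6 ≤ 25 * (q ^ 3 - 1) * (q ^ 6 + 1) := Nat.mul_le_mul h1 (Nat.le_succ _)
  have h5 : 24 * q ^ 3 * q ^ 6 = 24 * q ^ 9 := by ring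
  have h6 : 25 * (q ^ 3 - 1) * (q ^ 6 + 1) = 25 * (1 * w) := by rw [h]; ring
  omega

theorem n_psp2 {d : ℕ} (hd : d ≤ 2) (h : d * w = (q ^ 6 - 1) * (q ^ 12 - 1)) : q ^ 13 ≤ w := by
  have h1 := s25 hq (k := 6) (by norm_num)
  have h2 := s25 hq (k := 12) (by norm_num)
  have h3 := Nat.mul_le_mul h1 h2
  have h4 := Nat.mul_le_mul_right w hd
  have h5 : 24 * q ^ 6 * (24 * q ^ 12) = 576 * q ^ 18 := by ring
  have h6 : 25 * (q ^ 6 - 1) * (25 * (q ^ 12 - 1)) = 625 * (d * w) := by rw [h]; ring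
  have h7 := pow_step hq (k := 17)
  have h8 := pow_le' hq (show 13 ≤ 17 by norm_num)
  norm_num at h7
  omega

theorem n_g2 (h : 1 * w = (q ^ 4 - 1) * (q ^ 12 - 1)) : q ^ 13 ≤ w := by
  have h1 := s25 hq (k := 4) (by norm_num)
  have h2 := s25 hq (k := 12) (by norm_num)
  have h3 := Nat.mul_le_mul h1 h2
  have h5 : 24 * q ^ 4 * (24 * q ^ 12) = 576 * q ^ 16 := by ring
  have h6 : 25 * (q ^ 4 - 1) * (25 * (q ^ 12 - 1)) = 625 * (1 * w) := by rw [h]; ring
  have h7 := pow_step hq (k := 15)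
  have h8 := pow_le' hq (show 13 ≤ 15 by norm_num)
  norm_num at h7
  omega

theorem n_td4 (h : 1 * w = (q ^ 2 - 1) * (q ^ 6 - 1) * (q ^ 8 + q ^ 4 + 1)) : q ^ 13 ≤ w := by
  have h1 := s25 hq (k := 2) (by norm_num)
  have h2 := s25 hq (k := 6) (by norm_num)
  have h3 := Nat.mul_le_mul (Nat.mul_le_mul h1 h2) (show q ^ 8 ≤ q ^ 8 + q ^ 4 + 1 by omega)
  have h5 : 24 * q ^ 2 * (24 * q ^ 6) * q ^ 8 = 576 * q ^ 16 := by ring
  have h6 : 25 * (q ^ 2 - 1) * (25 * (q ^ 6 - 1)) * (q ^ 8 + q ^ 4 + 1) = 625 * (1 * w) := by rw [h]; ring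
  have h7 := pow_step hq (k := 15)
  have h8 := pow_le' hq (show 13 ≤ 15 by norm_num)
  norm_num at h7
  omega

theorem n_tf4 (h : 1 * w = (q - 1) * (q ^ 3 + 1) * (q ^ 4 - 1) * (q ^ 6 + 1)) : q ^ 13 ≤ w := by
  have h1 := s5 hq
  have h2 := s25 hq (k := 4) (by norm_num)
  have h3 := Nat.mul_le_mul (Nat.mul_le_mul (Nat.mul_le_mul h1 (Nat.le_succ (q ^ 3))) h2) (Nat.le_succ (q ^ 6))
  have h5 : 4 * q * q ^ 3 * (24 * q ^ 4) * q ^ 6 = 96 * q ^ 14 := by ring
  have h6 : 5 * (q - 1) * (q ^ 3).succ * (25 * (q ^ 4 - 1)) * (q ^ 6).succ = 125 * (1 * w) := by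
    rw [h, Nat.succ_eq_add_one, Nat.succ_eq_add_one]; ring
  have h7 := pow_step hq (k := 13)
  norm_num at h7
  omega

theorem n_psl4 {d : ℕ} (hd : d ≤ 4) (h : d * w = (q ^ 4 - 1) * (q ^ 6 - 1) * (q ^ 8 - 1)) : q ^ 15 ≤ w := by
  have h1 := s25 hq (k := 4) (by norm_num)
  have h2 := s25 hq (k := 6) (by norm_num)
  have h2' := s25 hq (k := 8) (by norm_num)
  have h3 := Nat.mul_le_mul (Nat.mul_le_mul h1 h2) h2'
  have h4 := Nat.mul_le_mul_right w hd
  have h5 : 24 * q ^ 4 * (24 * q ^ 6) * (24 * q ^ 8) = 13824 * q ^ 18 := by ring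
  have h6 : 25 * (q ^ 4 - 1) * (25 * (q ^ 6 - 1)) * (25 * (q ^ 8 - 1)) = 15625 * (d * w) := by rw [h]; ring
  have h7 := pow_step hq (k := 17)
  have h8 := pow_le' hq (show 15 ≤ 17 by norm_num)
  norm_num at h7
  omega

theorem n_ominus4 {d : ℕ} (hd : d ≤ 4) (h : d * w = (q ^ 4 + 1) * ((q ^ 2 - 1) * (q ^ 4 - 1) * (q ^ 6 - 1))) :
    q ^ 15 ≤ w := by
  have h1 := s25 hq (k := 2) (by norm_num)
  have h2 := s25 hq (k := 4) (by norm_num)
  have h2' := s25 hq (k := 6) (by norm_num)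
  have h3 := Nat.mul_le_mul (show q ^ 4 ≤ q ^ 4 + 1 by omega) (Nat.mul_le_mul (Nat.mul_le_mul h1 h2) h2')
  have h4 := Nat.mul_le_mul_right w hd
  have h5 : q ^ 4 * (24 * q ^ 2 * (24 * q ^ 4) * (24 * q ^ 6)) = 13824 * q ^ 16 := by ring
  have h6 : (q ^ 4 + 1) * (25 * (q ^ 2 - 1) * (25 * (q ^ 4 - 1)) * (25 * (q ^ 6 - 1))) = 15625 * (d * w) := by
    rw [h]; ring
  have h7 := pow_step hq (k := 15)
  norm_num at h7
  omega

theorem n_psp4 {d : ℕ} (hd : d ≤ 2) (h : d * w = (q ^ 2 - 1) * (q ^ 4 - 1) * (q ^ 6 - 1) * (q ^ 8 - 1)) :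
    2 * q ^ 19 ≤ w := by
  have h1 := s25 hq (k := 2) (by norm_num)
  have h2 := s25 hq (k := 4) (by norm_num)
  have h2' := s25 hq (k := 6) (by norm_num)
  have h2'' := s25 hq (k := 8) (by norm_num)
  have h3 := Nat.mul_le_mul (Nat.mul_le_mul (Nat.mul_le_mul h1 h2) h2') h2''
  have h4 := Nat.mul_le_mul_right w hd
  have h5 : 24 * q ^ 2 * (24 * q ^ 4) * (24 * q ^ 6) * (24 * q ^ 8) = 331776 * q ^ 20 := by ring
  have h6 : 25 * (q ^ 2 - 1) * (25 * (q ^ 4 - 1)) * (25 * (q ^ 6 - 1)) * (25 * (q ^ 8 - 1)) = 390625 * (d * w) := by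
    rw [h]; ring
  have h7 := pow_step hq (k := 19)
  norm_num at h7
  omega

end num

theorem prB_two (u : ℕ) : prB u 2 = (u ^ 2 - 1) * (u ^ 4 - 1) := by
  unfold prB
  simp only [List.range_succ, List.range_zero, List.nil_append, List.map_cons, List.map_nil,
    List.prod_cons, List.prod_nil, mul_one, List.cons_append]

theorem prB_four (u : ℕ) : prB u 4 = (u ^ 2 - 1) * (u ^ 4 - 1) * (u ^ 6 - 1) * (u ^ 8 - 1) := by
  unfold prB
  simp only [List.range_succ, List.range_zero, List.nil_append, List.map_append, List.map_cons, List.map_nil,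
    List.prod_append, List.prod_cons, List.prod_nil, mul_one, List.cons_append]
  ring

/-! ### class 12 -/

theorem gcd_le' {a b : ℕ} (ha : 0 < a) : Nat.gcd a b ≤ a := Nat.gcd_le_left b ha

theorem type12 (H : TS p f b c cT g) (ht : top g * b = 12 * f) (h8 : ¬ Kc g (8 * f / Nat.gcd (8 * f) b))
    (hq5 : 5 ≤ p ^ f) :
    (c.factorization p ≤ 6 * f ∧ (p ^ f) ^ 9 ≤ 2 * W p c) ∨ (c.factorization p ≤ 12 * f ∧ (p ^ f) ^ 13 ≤ W p c) := by
  obtain ⟨hf, hb⟩ := H.pos
  have h2 := H.ex_le ht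
  have h3 : ex g ≤ 2 * top g := by omega
  have hu := H.S.hq
  have hfac := H.S.fac
  have hp2 := H.S.hp.two_le
  rcases list_B H.S.cond H.qne h3 with ⟨n, u, hn, rfl⟩ | ⟨m, u, hm, rfl⟩ | ⟨m, u, hm, rfl⟩ | ⟨n, u, hn, rfl⟩ |
    ⟨u, rfl⟩ | ⟨m, u, hm, rfl⟩ | ⟨u, rfl⟩ | ⟨u, rfl⟩ | ⟨u, rfl⟩ | ⟨u, rfl⟩ | ⟨u, rfl⟩ | ⟨u, rfl⟩ | ⟨u, rfl⟩
  · -- PSL
    have h4 : n * b = 12 * f := ht
    have hn2 : 2 ≤ n := H.S.cond.1
    rcases (show n = 2 ∨ n = 3 ∨ n = 4 ∨ n = 5 by omega) with rfl | rfl | rfl | rfl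
    · left
      obtain rfl : b = f * 6 := by omega
      obtain rfl : u = p ^ (f * 6) := hu
      refine ⟨by rw [hfac]; change f * 6 * 1 ≤ _; omega, ?_⟩
      have h5 : Nat.gcd 2 (p ^ (f * 6) - 1) * (p ^ (f * 6) - 1) * c =
        ((List.range 2).map fun i => (p ^ (f * 6)) ^ 2 - (p ^ (f * 6)) ^ i).prod := H.S.eq
      have h6 : ((List.range 2).map fun i => (p ^ (f * 6)) ^ 2 - (p ^ (f * 6)) ^ i).prod =
          (p ^ (f * 6) - 1) * (p ^ (f * 6) * ((p ^ (f * 6)) ^ 2 - 1)) := by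
        have h7 : (p ^ (f * 6)) ^ 2 - p ^ (f * 6) = p ^ (f * 6) * (p ^ (f * 6) - 1) := by
          rw [Nat.mul_sub, mul_one, sq]
        simp only [List.range_succ, List.range_zero, List.nil_append, List.map_append, List.map_cons, List.map_nil,
          List.prod_append, List.prod_cons, List.prod_nil, pow_zero, pow_one, mul_one, one_mul, List.cons_append]
        rw [h7]; ring
      rw [h6, mul_comm (Nat.gcd 2 (p ^ (f * 6) - 1)), mul_assoc] at h5
      have h8' := H.S.two_le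
      have h9 := Nat.eq_of_mul_eq_mul_left (show 0 < p ^ (f * 6) - 1 by omega) h5
      have h10 : (p ^ (f * 6)) ^ ex (.psl 2 (p ^ (f * 6))) = p ^ (f * 6) := pow_one _
      have h11 := w_eq H.S (R := (p ^ (f * 6)) ^ 2 - 1) (by rw [h10]; exact h9)
      have h12 : (p ^ (f * 6)) ^ 2 = (p ^ f) ^ 12 := by rw [← pow_mul, ← pow_mul]; ring_nf
      rw [h12] at h11
      exact n_psl2 hq5 (gcd_le' two_pos) h11
    · exfalso
      exact H.no8 h8 4 1 2 hf (by omega) (by omega) (by decide) (.low (by exact id) (by norm_num) le_rfl)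
    · exfalso
      exact H.k1 9 3 1 3 9 hf (by omega) (by omega) (by omega) (by omega) (by decide)
        (Or.inl ⟨by norm_num, by change 3 ≤ 4; norm_num⟩) (by decide) (by omega)
    · exfalso
      obtain ⟨h, rfl, rfl⟩ : ∃ h, f = 5 * h ∧ b = 12 * h := ⟨b - 2 * f - (f - (b - 2 * f) * 2), by (clear * - h4; (solve | lia | omega)), by (clear * - h4; (solve | lia | omega))⟩
      have hh : 0 < h := by omega
      exact H.k1 48 12 5 4 48 hh rfl rfl (by omega) (by omega) (by decide)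
        (Or.inl ⟨by norm_num, by change 4 ≤ 5; norm_num⟩) (by decide) (by omega)
  · -- PSp
    have h4 : 2 * m * b = 12 * f := ht
    have hm2 : 2 ≤ m := H.S.cond.1
    rcases (show m = 2 ∨ m = 3 ∨ m = 4 by omega) with rfl | rfl | rfl
    · right
      obtain rfl : b = f * 3 := by omega
      obtain rfl : u = p ^ (f * 3) := hu
      refine ⟨by rw [hfac]; change f * 3 * 2 ^ 2 ≤ _; omega, ?_⟩
      have h5 : Nat.gcd 2 (p ^ (f * 3) - 1) * c = (p ^ (f * 3)) ^ (2 ^ 2) * prB (p ^ (f * 3)) 2 := H.S.eq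
      have h11 := w_eq H.S h5
      rw [prB_two] at h11
      have h12 : (p ^ (f * 3)) ^ 2 = (p ^ f) ^ 6 := by rw [← pow_mul, ← pow_mul]; ring_nf
      have h13 : (p ^ (f * 3)) ^ 4 = (p ^ f) ^ 12 := by rw [← pow_mul, ← pow_mul]; ring_nf
      rw [h12, h13] at h11
      exact n_psp2 hq5 (gcd_le' two_pos) h11
    · exfalso
      exact H.no8 h8 2 1 4 hf (by omega) (by omega) (by decide)
        (Or.inl ⟨by norm_num, (K_psp (by norm_num)).2 (by norm_num)⟩)
    · exfalso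
      obtain ⟨h, rfl, rfl⟩ : ∃ h, f = 2 * h ∧ b = 3 * h := ⟨b - f, by omega, by omega⟩
      have hh : 0 < h := by omega
      exact H.k1 18 3 2 6 9 hh rfl rfl (by omega) (by omega) (by decide)
        (Or.inl ⟨by norm_num, (K_psp (by norm_num)).2 (by norm_num)⟩) (by decide) (by omega)
  · -- PΩ odd
    exfalso
    have h4 : 2 * m * b = 12 * f := ht
    have hm2 : 3 ≤ m := H.S.cond.1
    rcases (show m = 3 ∨ m = 4 by omega) with rfl | rfl
    · exact H.no8 h8 2 1 4 hf (by omega) (by omega) (by decide)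
        (Or.inl ⟨by norm_num, (K_oodd (by norm_num)).2 (by norm_num)⟩)
    · obtain ⟨h, rfl, rfl⟩ : ∃ h, f = 2 * h ∧ b = 3 * h := ⟨b - f, by omega, by omega⟩
      have hh : 0 < h := by omega
      exact H.k1 18 3 2 6 9 hh rfl rfl (by omega) (by omega) (by decide)
        (Or.inl ⟨by norm_num, (K_oodd (by norm_num)).2 (by norm_num)⟩) (by decide) (by omega)
  · -- PSU
    have h4 : 2 * (n - (1 - n % 2)) * b = 12 * f := ht
    have hn2 : 3 ≤ n := H.S.cond.1
    rcases (show n = 3 ∨ n = 4 ∨ n = 5 ∨ n = 6 ∨ n = 7 ∨ n = 8 ∨ n = 9 by omega) with rfl | rfl | rfl | rfl | rfl | rfl |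
      rfl
    · left
      replace h4 : 6 * b = 12 * f := h4
      obtain rfl : b = f * 2 := by omega
      obtain rfl : u = p ^ (f * 2) := hu
      refine ⟨by rw [hfac]; change f * 2 * 3 ≤ _; omega, ?_⟩
      have h5 : Nat.gcd 3 (p ^ (f * 2) + 1) * (p ^ (f * 2) + 1) * c =
        (p ^ (f * 2)) ^ (3 * (3 - 1) / 2) * prU (p ^ (f * 2)) 3 := H.S.eq
      have hU : prU (p ^ (f * 2)) 3 = ((p ^ (f * 2)) ^ 1 + 1) * (((p ^ (f * 2)) ^ 2 - 1) * (((p ^ (f * 2)) ^ 3 + 1) *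
        1)) := rfl
      have h9 : Nat.gcd 3 (p ^ (f * 2) + 1) * c =
          (p ^ (f * 2)) ^ ex (.psu 3 (p ^ (f * 2))) * (((p ^ (f * 2)) ^ 2 - 1) * ((p ^ (f * 2)) ^ 3 + 1)) := by
        apply Nat.eq_of_mul_eq_mul_left (show 0 < p ^ (f * 2) + 1 by omega)
        change _ = (p ^ (f * 2) + 1) * ((p ^ (f * 2)) ^ (3 * (3 - 1) / 2) * _)
        rw [hU, pow_one] at h5
        calc (p ^ (f * 2) + 1) * (Nat.gcd 3 (p ^ (f * 2) + 1) * c)
            = Nat.gcd 3 (p ^ (f * 2) + 1) * (p ^ (f * 2) + 1) * c := by ring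
          _ = _ := h5
          _ = _ := by ring
      have h11 := w_eq H.S h9
      have h12 : (p ^ (f * 2)) ^ 2 = (p ^ f) ^ 4 := by rw [← pow_mul, ← pow_mul]; ring_nf
      have h13 : (p ^ (f * 2)) ^ 3 = (p ^ f) ^ 6 := by rw [← pow_mul, ← pow_mul]; ring_nf
      rw [h12, h13] at h11
      exact n_psu3 hq5 (gcd_le' three_pos) h11
    · exfalso
      replace h4 : 6 * b = 12 * f := h4
      exact H.no8 h8 2 1 4 hf (by omega) (by omega) (by decide)
        (Or.inl ⟨by norm_num, (K_psu (by norm_num)).2 (by norm_num)⟩)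
    · exfalso
      replace h4 : 10 * b = 12 * f := h4
      obtain ⟨h, rfl, rfl⟩ : ∃ h, f = 5 * h ∧ b = 6 * h := ⟨b - f, by (clear * - h4; solve | lia | omega), by omega⟩
      have hh : 0 < h := by omega
      exact H.k1 24 6 5 4 24 hh rfl rfl (by omega) (by omega) (by decide)
        (Or.inl ⟨by norm_num, (K_psu (by norm_num)).2 (by norm_num)⟩) (by decide) (by omega)
    · exfalso
      replace h4 : 10 * b = 12 * f := h4
      obtain ⟨h, rfl, rfl⟩ : ∃ h, f = 5 * h ∧ b = 6 * h := ⟨b - f, by (clear * - h4; solve | lia | omega), by omega⟩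
      have hh : 0 < h := by omega
      exact H.k1 24 6 5 4 24 hh rfl rfl (by omega) (by omega) (by decide)
        (Or.inl ⟨by norm_num, (K_psu (by norm_num)).2 (by norm_num)⟩) (by decide) (by omega)
    · exfalso
      replace h4 : 14 * b = 12 * f := h4
      obtain ⟨h, rfl, rfl⟩ : ∃ h, f = 7 * h ∧ b = 6 * h := ⟨f - b, by omega, by omega⟩
      have hh : 0 < h := by omega
      exact H.k1 24 6 7 4 24 hh rfl rfl (by omega) (by omega) (by decide)
        (Or.inl ⟨by norm_num, (K_psu (by norm_num)).2 (by norm_num)⟩) (by decide) (by omega)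
    · exfalso
      replace h4 : 14 * b = 12 * f := h4
      obtain ⟨h, rfl, rfl⟩ : ∃ h, f = 7 * h ∧ b = 6 * h := ⟨f - b, by omega, by (clear * - h4; solve | lia | omega)⟩
      have hh : 0 < h := by omega
      exact H.k1 24 6 7 4 24 hh rfl rfl (by omega) (by omega) (by decide)
        (Or.inl ⟨by norm_num, (K_psu (by norm_num)).2 (by norm_num)⟩) (by decide) (by omega)
    · exfalso
      replace h4 : 18 * b = 12 * f := h4
      obtain ⟨h, rfl, rfl⟩ : ∃ h, f = 3 * h ∧ b = 2 * h := ⟨f - b, by omega, by omega⟩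
      have hh : 0 < h := by omega
      exact H.k1 20 2 3 10 20 hh rfl rfl (by omega) (by omega) (by decide)
        (Or.inl ⟨by norm_num, (K_psu (by norm_num)).2 (by norm_num)⟩) (by decide) (by omega)
  · -- PΩ⁺₈
    exfalso
    have h4 : 2 * (4 - 1) * b = 12 * f := ht
    exact H.no8 h8 2 1 4 hf (by omega) (by omega) (by decide)
      (Or.inl ⟨by norm_num, (K_oplus (by norm_num) (by norm_num)).2 (by norm_num)⟩)
  · -- PΩ⁻
    exfalso
    have h4 : 2 * m * b = 12 * f := ht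
    have hm2 : 4 ≤ m := H.S.cond.1
    rcases (show m = 4 ∨ m = 5 by omega) with rfl | rfl
    · obtain ⟨h, rfl, rfl⟩ : ∃ h, f = 2 * h ∧ b = 3 * h := ⟨b - f, by omega, by omega⟩
      have hh : 0 < h := by omega
      exact H.k1 18 3 2 6 9 hh rfl rfl (by omega) (by omega) (by decide)
        (Or.inl ⟨by norm_num, (K_ominus (by norm_num) (by norm_num)).2 (by norm_num)⟩) (by decide) (by omega)
    · obtain ⟨h, rfl, rfl⟩ : ∃ h, f = 5 * h ∧ b = 6 * h := ⟨b - f, by omega, by omega⟩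
      have hh : 0 < h := by omega
      exact H.k1 24 6 5 4 24 hh rfl rfl (by omega) (by omega) (by decide)
        (Or.inl ⟨by norm_num, (K_ominus (by norm_num) (by norm_num)).2 (by norm_num)⟩) (by decide) (by omega)
  · -- G₂
    right
    have h4 : 6 * b = 12 * f := ht
    obtain rfl : b = f * 2 := by omega
    obtain rfl : u = p ^ (f * 2) := hu
    refine ⟨by rw [hfac]; change f * 2 * 6 ≤ _; omega, ?_⟩
    have h5 : 1 * c = (p ^ (f * 2)) ^ 6 * (((p ^ (f * 2)) ^ 2 - 1) * ((p ^ (f * 2)) ^ 6 - 1)) := H.S.eq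
    have h11 := w_eq H.S h5
    have h12 : (p ^ (f * 2)) ^ 2 = (p ^ f) ^ 4 := by rw [← pow_mul, ← pow_mul]; ring_nf
    have h13 : (p ^ (f * 2)) ^ 6 = (p ^ f) ^ 12 := by rw [← pow_mul, ← pow_mul]; ring_nf
    rw [h12, h13] at h11
    exact n_g2 hq5 h11
  · -- F₄
    exfalso
    have h4 : 12 * b = 12 * f := ht
    exact H.no8 h8 1 1 8 hf (by omega) (by omega) (by decide) K8
  · -- ²E₆
    exfalso
    have h4 : 18 * b = 12 * f := ht
    obtain ⟨h, rfl, rfl⟩ : ∃ h, f = 3 * h ∧ b = 2 * h := ⟨f - b, by omega, by (clear * - h4; solve | lia | omega)⟩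
    have hh : 0 < h := by omega
    exact H.k1 20 2 3 10 20 hh rfl rfl (by omega) (by omega) (by decide)
      (Or.inl ⟨by norm_num, Or.inr (Or.inl ⟨dvd_rfl, by decide⟩)⟩) (by decide) (by omega)
  · -- ³D₄
    right
    have h4 : 12 * b = 12 * f := ht
    obtain rfl : b = f := by omega
    obtain rfl : u = p ^ b := hu
    refine ⟨by rw [hfac]; change b * 12 ≤ _; omega, ?_⟩
    have h5 : 1 * c = (p ^ b) ^ 12 * (((p ^ b) ^ 2 - 1) * ((p ^ b) ^ 6 - 1) * ((p ^ b) ^ 8 + (p ^ b) ^ 4 + 1)) := H.S.eq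
    exact n_td4 hq5 (w_eq H.S h5)
  · -- Sz
    left
    have h4 : 4 * b = 12 * f := ht
    obtain rfl : b = f * 3 := by omega
    obtain rfl : u = p ^ (f * 3) := hu
    refine ⟨by rw [hfac]; change f * 3 * 2 ≤ _; omega, ?_⟩
    have h5 : 1 * c = (p ^ (f * 3)) ^ 2 * ((p ^ (f * 3) - 1) * ((p ^ (f * 3)) ^ 2 + 1)) := H.S.eq
    have h11 := w_eq H.S h5
    have h12 : (p ^ (f * 3)) ^ 2 = (p ^ f) ^ 6 := by rw [← pow_mul, ← pow_mul]; ring_nf
    have h13 : p ^ (f * 3) = (p ^ f) ^ 3 := by rw [← pow_mul]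
    rw [h12, h13] at h11
    exact n_sz hq5 h11
  · -- Ree
    exfalso
    have h4 : 6 * b = 12 * f := ht
    have hp3 := three_of H.S.hp H.S.hf H.S.cond hu
    subst hp3
    obtain rfl : u = 3 ^ b := hu
    have := ree_odd H.S.cond rfl
    omega
  · -- ²F₄
    right
    have h4 : 12 * b = 12 * f := ht
    obtain rfl : b = f := by omega
    obtain rfl : u = p ^ b := hu
    refine ⟨by rw [hfac]; change b * 12 ≤ _; omega, ?_⟩
    have h5 : 1 * c = (p ^ b) ^ 12 * ((p ^ b - 1) * ((p ^ b) ^ 3 + 1) * ((p ^ b) ^ 4 - 1) * ((p ^ b) ^ 6 + 1)) := H.S.eq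
    exact n_tf4 hq5 (w_eq H.S h5)

end Cfsg.Agent.H946.RgF4
end

-- part: H946/RgF4/Cross
section
/-!
# S3691, row `F₄(q)`: sections in other characteristics have a small `p`-part (helper946)

`cross_small` : `S` a simple group of order dividing `|F₄(q)|`, `q = p ^ f`, with a big prime `r`, `ord_r(p) = c f`, `c = 12`
or `8`; then `S` is of Lie type in characteristic `p` or has a small `p`-part.

`alt_dvd`, `alt_le` are helper394's (`H394/Wei/G2Cls`, whose closure is large).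
-/

set_option autoImplicit false

namespace Cfsg.Agent.H946.RgF4

open Cfsg Cfsg.Agent.OrdDiv Cfsg.Agent.H436 Cfsg.Agent.H915.GN Cfsg.Agent.H264.GN Cfsg.Agent.H264.FKS
open Cfsg.Agent.H902 Cfsg.Agent.H902.Names Cfsg.Agent.H56.Exc

/-! ### alternating groups -/

/-- the automizer of an `r`-cycle -/
theorem alt_dvd {S : Type*} [Group S] [Finite S] {r m e : ℕ} (h : Big S r m e) (hr : r ∣ Nat.card S) (h3 : 3 ≤ r)
    {k : ℕ} (Φ : S ≃* alternatingGroup (Fin k)) : r - 1 ∣ 2 * e := by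
  have hp := h.prime
  have := Fact.mk hp
  have hb := h.congr Φ
  have hrk : r ≤ k := by
    have h1 : r ∣ k.factorial := by
      have h2 : r ∣ Nat.card (Equiv.Perm (Fin k)) :=
        (hr.trans (Nat.card_congr Φ.toEquiv).dvd).trans (_root_.Subgroup.card_subgroup_dvd_card _)
      rwa [Nat.card_perm, Nat.card_fin] at h2
    exact (hp.dvd_factorial).1 h1
  -- an `r`-cycle
  obtain ⟨σ, hσ⟩ : ∃ σ : Equiv.Perm (Fin k), σ.cycleType = {r} := by
    have := (Equiv.Perm.exists_with_cycleType_iff (Fin k) (m := {r})).2 ⟨by simpa only [_root_.Multiset.sum_singleton, _root_.Fintype.card_fin] using hrk, by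
      intro a ha
      rw [Multiset.mem_singleton] at ha
      rw [ha]; exact hp.two_le⟩
    exact this
  have hodd : Odd r := hp.odd_of_ne_two (by omega)
  have hσc : σ.IsCycle := by
    rw [← Equiv.Perm.card_cycleType_eq_one, hσ, Multiset.card_singleton]
  have hσo : orderOf σ = r := by
    rw [← Equiv.Perm.lcm_cycleType, hσ, Multiset.lcm_singleton, normalize_eq]
  have hσA : σ ∈ alternatingGroup (Fin k) := by
    rw [Equiv.Perm.mem_alternatingGroup, hσc.sign]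
    have h1 : σ.support.card = r := by rw [← hσo, hσc.orderOf]
    rw [h1, hodd.neg_one_pow, neg_neg]
  -- a generator of the units
  obtain ⟨g, hg⟩ := IsCyclic.exists_ofOrder_eq_natCard (α := (ZMod r)ˣ)
  rw [Nat.card_eq_fintype_card, ZMod.card_units r] at hg
  set n : ℕ := ZMod.val (g : ZMod r) with hn
  have hcop : n.Coprime (orderOf σ) := by rw [hσo]; exact ZMod.val_coe_unit_coprime g
  have hconj : IsConj σ (σ ^ n) := by
    rw [Equiv.Perm.isConj_iff_cycleType_eq, hσc.cycleType, (hσc.pow_iff.2 hcop).cycleType,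
      Equiv.Perm.support_pow_coprime hcop]
  obtain ⟨z, hz⟩ := isConj_iff.1 hconj
  have hpow : ∀ j : ℕ, z ^ j * σ * (z ^ j)⁻¹ = σ ^ (n ^ j) := by
    intro j
    induction j with
    | zero => simp
    | succ j ih =>
      calc z ^ (j + 1) * σ * (z ^ (j + 1))⁻¹ = z * (z ^ j * σ * (z ^ j)⁻¹) * z⁻¹ := by
            rw [pow_succ']; group
        _ = (z * σ * z⁻¹) ^ (n ^ j) := by rw [ih, conj_pow]
        _ = σ ^ (n ^ (j + 1)) := by rw [hz, ← pow_mul, pow_succ']
  have hzA : z ^ 2 ∈ alternatingGroup (Fin k) := by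
    rw [Equiv.Perm.mem_alternatingGroup, map_pow, Int.units_sq]
  have h1 := hb.aut ⟨σ, hσA⟩ ⟨z ^ 2, hzA⟩ (by rw [Subgroup.orderOf_mk, hσo]) ⟨((n ^ 2 : ℕ) : ℤ), by
    show (⟨σ, hσA⟩ : alternatingGroup (Fin k)) ^ ((n ^ 2 : ℕ) : ℤ) = _
    rw [zpow_natCast]
    exact Subtype.ext (hpow 2).symm⟩
  have h2 : (z ^ 2) ^ e * σ = σ * (z ^ 2) ^ e := congrArg Subtype.val h1.eq
  have h3 : σ ^ (n ^ (2 * e)) = σ := by
    rw [← hpow (2 * e), mul_inv_eq_iff_eq_mul]
    rw [← pow_mul] at h2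
    exact h2
  have h4 : g ^ (2 * e) = 1 := by
    apply Units.ext
    have h5 : n ^ (2 * e) ≡ 1 [MOD r] := by
      rw [← hσo]
      exact pow_eq_pow_iff_modEq.1 (by rw [h3, pow_one])
    have h6 := (ZMod.natCast_eq_natCast_iff _ _ _).2 h5
    rw [Nat.cast_pow, hn, ZMod.natCast_zmod_val, Nat.cast_one] at h6
    rw [Units.val_pow_eq_pow_val, h6, Units.val_one]
  exact hg ▸ orderOf_dvd_of_pow_eq_one h4

/-- the degree -/
theorem alt_le {S : Type*} [Group S] [Finite S] {r m e : ℕ} (h : Big S r m e) (hr : r ∣ Nat.card S) (h5 : 5 ≤ r)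
    {k : ℕ} (Φ : S ≃* alternatingGroup (Fin k)) : k ≤ r + 3 :=
  Cfsg.Agent.H290.ElRich.alt_le h.prime h5 Φ hr fun x hx => by
    have := h.cyc x hx
    let _ := IsCyclic.commGroup (α := ↥(Subgroup.centralizer ({x} : Set S)))
    infer_instance


/-! ### the slack -/

/-- the exponent of `p` in `96` -/
def sl (p : ℕ) : ℕ := if p = 2 then 5 else if p = 3 then 1 else 0

theorem two_pow_ge : ∀ f : ℕ, 8 * (f + 3) ≤ 3 * 2 ^ (f + 3) := by
  intro f
  induction f with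
  | zero => norm_num
  | succ f ih =>
    have : 2 ^ (f + 1 + 3) = 2 * 2 ^ (f + 3) := by ring
    omega

theorem three_pow_ge : ∀ f : ℕ, 9 * (f + 2) ≤ 2 * 3 ^ (f + 2) := by
  intro f
  induction f with
  | zero => norm_num
  | succ f ih =>
    have : 3 ^ (f + 1 + 2) = 3 * 3 ^ (f + 2) := by ring
    omega

theorem five_pow_ge : ∀ f : ℕ, 5 * (f + 1) ≤ 5 ^ (f + 1) := by
  intro f
  induction f with
  | zero => norm_num
  | succ f ih =>
    have : 5 ^ (f + 1 + 1) = 5 * 5 ^ (f + 1) := by ring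
    omega

theorem two_mul_le_pow : ∀ f : ℕ, 2 * (f + 3) ≤ 2 ^ (f + 3) := by
  intro f
  have := two_pow_ge f
  omega

variable {p f ν : ℕ}

theorem f_three (h5 : 5 ≤ 2 ^ f) : 3 ≤ f := by
  by_contra h
  have : f ≤ 2 := by omega
  have : 2 ^ f ≤ 2 ^ 2 := Nat.pow_le_pow_right (by norm_num) this
  omega

theorem f_two (h5 : 5 ≤ 3 ^ f) : 2 ≤ f := by
  by_contra h
  have : f ≤ 1 := by omega
  have : 3 ^ f ≤ 3 ^ 1 := Nat.pow_le_pow_right (by norm_num) this
  omega

/-- the bound of `p ^ ν` -/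
theorem nu_two (hf : 1 ≤ f) (hν : 2 ^ ν ∣ Nat.gcd 2 2 * f) : 2 ^ ν ≤ 2 * f := by
  have h1 : Nat.gcd 2 2 = 2 := by decide
  rw [h1] at hν
  exact Nat.le_of_dvd (by omega) hν

theorem nu_odd (hp : p.Prime) (hp2 : p ≠ 2) (hf : 1 ≤ f) (hν : p ^ ν ∣ Nat.gcd 2 p * f) : p ^ ν ≤ f := by
  have h1 : Nat.gcd 2 p = 1 := by
    rw [← Nat.coprime_iff_gcd_eq_one, Nat.coprime_primes Nat.prime_two hp]
    omega
  rw [h1, one_mul] at hν
  exact Nat.le_of_dvd (by omega) hν

theorem nu_lt (hp : p.Prime) (h : p ^ ν ≤ f) (hf : 1 ≤ f) : ν < f := by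
  have h1 : f < p ^ f := Nat.lt_pow_self hp.one_lt
  exact (Nat.pow_lt_pow_iff_right hp.one_lt).1 (h.trans_lt h1)

theorem five_le (hp : p.Prime) (hp2 : p ≠ 2) (hp3 : p ≠ 3) : 5 ≤ p := by
  have h1 := hp.two_le
  have h2 : p ≠ 4 := by rintro rfl; exact absurd hp (by norm_num)
  omega

/-- a power bounded by the `l`-part of `|F₄(q)|` is small -/
theorem sm_of_pow (hp : p.Prime) (hf : 1 ≤ f) (h5 : 5 ≤ p ^ f) (hν : p ^ ν ∣ Nat.gcd 2 p * f) {v : ℕ}
    (h : p = 2 → p ^ v ≤ 9 * (p ^ f + 1) ^ 4 + 1) (h' : p ^ v ≤ 128 * (p ^ f + 1) ^ 4 + 1) :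
    v + sl p + ν < 8 * f := by
  have hC : ∀ k, k ≤ (p ^ f) ^ 3 → k * (p ^ f) ^ 4 ≤ (p ^ f) ^ 7 := by
    intro k hk
    calc k * (p ^ f) ^ 4 ≤ (p ^ f) ^ 3 * (p ^ f) ^ 4 := Nat.mul_le_mul_right _ hk
      _ = _ := by ring
  have h8 : (p ^ f) ^ 8 = p ^ (8 * f) := by rw [← pow_mul, mul_comm]
  have hB : 5 ^ 4 ≤ (p ^ f) ^ 4 := Nat.pow_le_pow_left h5 4
  by_cases hp2 : p = 2
  · subst hp2
    have h3 := f_three h5
    have hq8 : 2 ^ 3 ≤ 2 ^ f := Nat.pow_le_pow_right (by norm_num) h3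
    obtain ⟨k, rfl⟩ := Nat.exists_eq_add_of_le' h3
    have h6 := two_pow_ge k
    have h7 := nu_two hf hν
    have h9 := h rfl
    set q := 2 ^ (k + 3) with hq
    have hA : 4096 * (q + 1) ^ 4 ≤ 6561 * q ^ 4 := by
      have h10 : 8 * (q + 1) ≤ 9 * q := by omega
      have h11 := Nat.pow_le_pow_left h10 4
      rw [mul_pow, mul_pow] at h11
      norm_num at h11
      exact h11
    have hC' := hC 512 (by
      have := Nat.pow_le_pow_left hq8 3
      norm_num at this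
      exact this)
    have hB' : 4096 ≤ q ^ 4 := by
      have := Nat.pow_le_pow_left hq8 4
      norm_num at this
      exact this
    have h12 : 2 ^ (v + sl 2 + ν) < 2 ^ (8 * (k + 3)) := by
      rw [← h8, pow_add, pow_add]
      have e1 : (2 : ℕ) ^ sl 2 = 32 := by decide
      rw [e1]
      calc 2 ^ v * 32 * 2 ^ ν ≤ (9 * (q + 1) ^ 4 + 1) * 32 * (2 * (k + 3)) :=
            Nat.mul_le_mul (Nat.mul_le_mul_right _ h9) h7
        _ = (9 * (q + 1) ^ 4 + 1) * (8 * (8 * (k + 3))) := by ring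
        _ ≤ (9 * (q + 1) ^ 4 + 1) * (8 * (3 * q)) := Nat.mul_le_mul_left _ (Nat.mul_le_mul_left _ h6)
        _ = q * (24 * (9 * (q + 1) ^ 4 + 1)) := by ring
        _ < q * q ^ 7 := Nat.mul_lt_mul_of_pos_left (by omega) (by omega)
        _ = q ^ 8 := by ring
    exact (Nat.pow_lt_pow_iff_right (by norm_num)).1 h12
  have h7 := nu_odd hp hp2 hf hν
  by_cases hp3 : p = 3
  · subst hp3
    have h3 := f_two h5
    have hq8 : 3 ^ 2 ≤ 3 ^ f := Nat.pow_le_pow_right (by norm_num) h3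
    obtain ⟨k, rfl⟩ := Nat.exists_eq_add_of_le' h3
    have h6 := three_pow_ge k
    set q := 3 ^ (k + 2) with hq
    have hA : 6561 * (q + 1) ^ 4 ≤ 10000 * q ^ 4 := by
      have h10 : 9 * (q + 1) ≤ 10 * q := by omega
      have h11 := Nat.pow_le_pow_left h10 4
      rw [mul_pow, mul_pow] at h11
      norm_num at h11
      exact h11
    have hC' := hC 729 (by
      have := Nat.pow_le_pow_left hq8 3
      norm_num at this
      exact this)
    have h12 : 3 * 3 ^ (v + sl 3 + ν) < 3 * 3 ^ (8 * (k + 2)) := by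
      rw [← h8, pow_add, pow_add]
      have e1 : (3 : ℕ) ^ sl 3 = 3 := by decide
      rw [e1]
      calc 3 * (3 ^ v * 3 * 3 ^ ν) ≤ 3 * ((128 * (q + 1) ^ 4 + 1) * 3 * (k + 2)) :=
            Nat.mul_le_mul_left _ (Nat.mul_le_mul (Nat.mul_le_mul_right _ h') h7)
        _ = (128 * (q + 1) ^ 4 + 1) * (9 * (k + 2)) := by ring
        _ ≤ (128 * (q + 1) ^ 4 + 1) * (2 * q) := Nat.mul_le_mul_left _ h6
        _ = q * (2 * (128 * (q + 1) ^ 4 + 1)) := by ring
        _ < q * (3 * q ^ 7) := Nat.mul_lt_mul_of_pos_left (by omega) (by omega)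
        _ = 3 * q ^ 8 := by ring
    exact (Nat.pow_lt_pow_iff_right (by norm_num)).1 (Nat.lt_of_mul_lt_mul_left h12)
  · have hp5 := five_le hp hp2 hp3
    obtain ⟨k, rfl⟩ := Nat.exists_eq_add_of_le' hf
    have h6 : 5 * (k + 1) ≤ p ^ (k + 1) := (five_pow_ge k).trans (Nat.pow_le_pow_left hp5 _)
    set q := p ^ (k + 1) with hq
    have hA : 625 * (q + 1) ^ 4 ≤ 1296 * q ^ 4 := by
      have h10 : 5 * (q + 1) ≤ 6 * q := by omega
      have h11 := Nat.pow_le_pow_left h10 4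
      rw [mul_pow, mul_pow] at h11
      norm_num at h11
      exact h11
    have hC' := hC 125 (by
      have := Nat.pow_le_pow_left h5 3
      norm_num at this
      exact this)
    have h12 : 5 * p ^ (v + sl p + ν) < 5 * p ^ (8 * (k + 1)) := by
      rw [← h8, pow_add, pow_add]
      have e1 : p ^ sl p = 1 := by unfold sl; rw [if_neg hp2, if_neg hp3, pow_zero]
      rw [e1]
      calc 5 * (p ^ v * 1 * p ^ ν) ≤ 5 * ((128 * (q + 1) ^ 4 + 1) * 1 * (k + 1)) :=
            Nat.mul_le_mul_left _ (Nat.mul_le_mul (Nat.mul_le_mul_right _ h') h7)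
        _ = (128 * (q + 1) ^ 4 + 1) * (5 * (k + 1)) := by ring
        _ ≤ (128 * (q + 1) ^ 4 + 1) * q := Nat.mul_le_mul_left _ h6
        _ = q * (128 * (q + 1) ^ 4 + 1) := by ring
        _ < q * (5 * q ^ 7) := Nat.mul_lt_mul_of_pos_left (by omega) (by omega)
        _ = 5 * q ^ 8 := by ring
    exact (Nat.pow_lt_pow_iff_right hp.one_lt).1 (Nat.lt_of_mul_lt_mul_left h12)

/-- small exponents are small -/
theorem sm_of_le (hp : p.Prime) (hf : 1 ≤ f) (h5 : 5 ≤ p ^ f) (hν : p ^ ν ∣ Nat.gcd 2 p * f) {v : ℕ}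
    (h : v ≤ 12) (h' : 5 ≤ p → v ≤ 6) : v + sl p + ν < 8 * f := by
  by_cases hp2 : p = 2
  · subst hp2
    have h3 := f_three h5
    have h7 := nu_two hf hν
    obtain ⟨k, rfl⟩ := Nat.exists_eq_add_of_le' h3
    have h8 : ν ≤ k + 3 := (Nat.pow_le_pow_iff_right (by norm_num)).1 (h7.trans (two_mul_le_pow k))
    have e1 : sl 2 = 5 := by decide
    omega
  have h7 := nu_lt hp (nu_odd hp hp2 hf hν) hf
  by_cases hp3 : p = 3
  · subst hp3
    have h3 := f_two h5
    have e1 : sl 3 = 1 := by decide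
    omega
  · have h9 := h' (five_le hp hp2 hp3)
    have e1 : sl p = 0 := by unfold sl; rw [if_neg hp2, if_neg hp3]
    omega

end Cfsg.Agent.H946.RgF4
end

-- part: H946/RgF4/Lte
section
/-!
# S3691, row `F₄(q)`: the `t`-part of the order of `F₄(q)` for `t` prime to `q` (helper946)

`P_odd_le` : at most `9 (q + 1) ^ 4` for `t ≠ 2`;  `P_two_le` : at most `128 (q + 1) ^ 4` for `t = 2`.
-/

set_option autoImplicit false

namespace Cfsg.Agent.H946.RgF4

open Cfsg.Agent.H902 Cfsg.Agent.H902.Art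

/-- the order of `F₄(q)` without the factor `q ^ 24` -/
def nF (q : ℕ) : ℕ := (q ^ 2 - 1) * (q ^ 6 - 1) * (q ^ 8 - 1) * (q ^ 12 - 1)

theorem nF_eq {q a : ℕ} (h : q ^ 2 = a + 1) :
    nF q = a ^ 4 * (a ^ 2 + 3 * a + 3) ^ 2 * (a + 2) ^ 2 * (a ^ 2 + 2 * a + 2) * (a ^ 2 + a + 1) := by
  have h6 : q ^ 6 - 1 = a * (a ^ 2 + 3 * a + 3) := by
    have : q ^ 6 = (q ^ 2) ^ 3 := by ring
    rw [this, h]
    have : (a + 1) ^ 3 = a * (a ^ 2 + 3 * a + 3) + 1 := by ring
    omega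
  have h8 : q ^ 8 - 1 = a * (a + 2) * (a ^ 2 + 2 * a + 2) := by
    have : q ^ 8 = (q ^ 2) ^ 4 := by ring
    rw [this, h]
    have : (a + 1) ^ 4 = a * (a + 2) * (a ^ 2 + 2 * a + 2) + 1 := by ring
    omega
  have h12 : q ^ 12 - 1 = a * (a ^ 2 + 3 * a + 3) * (a + 2) * (a ^ 2 + a + 1) := by
    have : q ^ 12 = (q ^ 2) ^ 6 := by ring
    rw [this, h]
    have : (a + 1) ^ 6 = a * (a ^ 2 + 3 * a + 3) * (a + 2) * (a ^ 2 + a + 1) + 1 := by ring
    omega
  have h2 : q ^ 2 - 1 = a := by omega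
  unfold nF
  rw [h2, h6, h8, h12]
  ring

theorem P_sq {t a : ℕ} (ha : a ≠ 0) : P t (a ^ 2) = P t a ^ 2 := by
  rw [sq, P_mul ha ha, sq]

theorem P_four {t a : ℕ} (ha : a ≠ 0) : P t (a ^ 4) = P t a ^ 4 := by
  rw [show a ^ 4 = (a ^ 2) ^ 2 by ring, P_sq (pow_ne_zero _ ha), P_sq ha]
  ring

theorem P_nF {q a t : ℕ} (h : q ^ 2 = a + 1) (ha : a ≠ 0) :
    P t (nF q) = P t a ^ 4 * P t (a ^ 2 + 3 * a + 3) ^ 2 * P t (a + 2) ^ 2 * P t (a ^ 2 + 2 * a + 2) *
      P t (a ^ 2 + a + 1) := by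
  rw [nF_eq h, P_mul (by positivity) (by positivity), P_mul (by positivity) (by positivity),
    P_mul (by positivity) (by positivity), P_mul (by positivity) (by positivity), P_four ha, P_sq (by positivity),
    P_sq (by positivity)]

theorem P_two_le {q : ℕ} (hq : 3 ≤ q) (hodd : ¬ 2 ∣ q) : P 2 (nF q) ≤ 128 * (q + 1) ^ 4 := by
  have ho : Odd q := by
    rw [← Nat.not_even_iff_odd, even_iff_two_dvd]; exact hodd
  obtain ⟨a, ha⟩ := Nat.exists_eq_add_of_le' (show 1 ≤ q ^ 2 from Nat.one_le_pow _ _ (by omega))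
  have h9 : 3 ^ 2 ≤ q ^ 2 := Nat.pow_le_pow_left hq 2
  have ha0 : a ≠ 0 := by omega
  have h4 : 4 ∣ a := by
    obtain ⟨k, hk⟩ := ho
    have h1 : q ^ 2 = 4 * (k * k + k) + 1 := by rw [hk]; ring
    exact ⟨k * k + k, by omega⟩
  obtain ⟨b, rfl⟩ := h4
  rw [P_nF ha ha0]
  have e1 : P 2 ((4 * b) ^ 2 + 3 * (4 * b) + 3) = 1 :=
    P_two_of_odd ⟨8 * b ^ 2 + 6 * b + 1, by ring⟩
  have e2 : P 2 (4 * b + 2) = 2 := by
    rw [show 4 * b + 2 = 2 * (2 * b + 1) by ring]
    exact P_two_two_mul ⟨b, rfl⟩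
  have e3 : P 2 ((4 * b) ^ 2 + 2 * (4 * b) + 2) = 2 := by
    rw [show (4 * b) ^ 2 + 2 * (4 * b) + 2 = 2 * (2 * (4 * b ^ 2 + 2 * b) + 1) by ring]
    exact P_two_two_mul ⟨_, rfl⟩
  have e4 : P 2 ((4 * b) ^ 2 + 4 * b + 1) = 1 :=
    P_two_of_odd ⟨8 * b ^ 2 + 2 * b, by ring⟩
  rw [e1, e2, e3, e4]
  have h1 := P_two_sq_sub_one_le hq ho
  rw [show q ^ 2 - 1 = 4 * b by omega] at h1
  have h2 := Nat.pow_le_pow_left h1 4
  rw [mul_pow] at h2
  (clear * - h2; omega)

theorem P_odd_le {q t : ℕ} (ht : t.Prime) (ht2 : t ≠ 2) (hq : 2 ≤ q) (htq : ¬ t ∣ q) :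
    P t (nF q) ≤ 9 * (q + 1) ^ 4 := by
  have ht3 : 3 ≤ t := by have := ht.two_le; omega
  obtain ⟨a, ha⟩ := Nat.exists_eq_add_of_le' (show 1 ≤ q ^ 2 from Nat.one_le_pow _ _ (by omega))
  have h9 : 2 ^ 2 ≤ q ^ 2 := Nat.pow_le_pow_left hq 2
  have ha0 : a ≠ 0 := by omega
  have hn2 : ¬ t ∣ 2 := fun h => by have := Nat.le_of_dvd (by norm_num) h; omega
  have hq2 : ¬ t ∣ a + 1 := by
    rw [← ha]
    exact fun h => htq (ht.dvd_of_dvd_pow h)
  rw [P_nF ha ha0]
  by_cases hta : t ∣ a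
  · have e2 : P t (a + 2) = 1 := P_eq_one fun h => hn2 ((Nat.dvd_add_right hta).1 h)
    have e3 : P t (a ^ 2 + 2 * a + 2) = 1 := P_eq_one fun h => hn2 ((Nat.dvd_add_right
      (dvd_add (dvd_pow hta (by norm_num)) (hta.mul_left 2))).1 h)
    have e4 : P t (a ^ 2 + a + 1) = 1 := P_eq_one fun h => ht.one_lt.ne' (Nat.dvd_one.1 ((Nat.dvd_add_right
      (dvd_add (dvd_pow hta (by norm_num)) hta)).1 h))
    have e1 : P t (a ^ 2 + 3 * a + 3) ≤ 3 := by
      by_cases h3 : t = 3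
      · subst h3
        obtain ⟨k, rfl⟩ := hta
        have : (3 * k) ^ 2 + 3 * (3 * k) + 3 = 3 ^ 1 * (3 * (k ^ 2 + k) + 1) := by ring
        rw [this, P_pow_self ht (by omega)]
        norm_num
      · rw [P_eq_one]
        · norm_num
        · intro h
          have h4 := (Nat.dvd_add_right (dvd_add (dvd_pow hta (by norm_num)) (hta.mul_left 3))).1 h
          exact h3 ((Nat.prime_dvd_prime_iff_eq ht Nat.prime_three).1 h4)
    rw [e2, e3, e4]
    have h1 := P_sq_sub_one_le ht ht2 hq (j := 1) le_rfl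
    rw [show 2 * 1 = 2 by norm_num, pow_one, show q ^ 2 - 1 = a by omega] at h1
    have h2 := Nat.pow_le_pow_left h1 4
    have h3 := Nat.pow_le_pow_left e1 2
    have h4 := Nat.mul_le_mul h2 h3
    (clear * - h4; omega)
  · have e0 : P t a = 1 := P_eq_one hta
    have hn3 : ¬ t ∣ 3 := by
      intro h
      have h3 := (Nat.prime_dvd_prime_iff_eq ht Nat.prime_three).1 h
      subst h3
      have h4 : q ^ 2 % 3 = 1 := by
        have h5 : q % 3 = 1 ∨ q % 3 = 2 := by omega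
        rcases h5 with h5 | h5 <;> simp [Nat.pow_mod, h5]
      omega
    have hone : ¬ t ∣ 1 := fun h => ht.one_lt.ne' (Nat.dvd_one.1 h)
    -- the pairs
    have BC : t ∣ a ^ 2 + 3 * a + 3 → ¬ t ∣ a + 2 := fun h1 h2 => hone ((Nat.dvd_add_right (h2.mul_left (a + 1))).1 (by
      rw [show (a + 1) * (a + 2) + 1 = a ^ 2 + 3 * a + 3 by ring]; exact h1))
    have BD : t ∣ a ^ 2 + 3 * a + 3 → ¬ t ∣ a ^ 2 + 2 * a + 2 := fun h1 h2 => hq2 ((Nat.dvd_add_right h2).1 (by
      rw [show a ^ 2 + 2 * a + 2 + (a + 1) = a ^ 2 + 3 * a + 3 by ring]; exact h1))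
    have BE : t ∣ a ^ 2 + 3 * a + 3 → ¬ t ∣ a ^ 2 + a + 1 := fun h1 h2 => by
      have h3 : t ∣ 2 * (a + 1) := (Nat.dvd_add_right h2).1 (by
        rw [show a ^ 2 + a + 1 + 2 * (a + 1) = a ^ 2 + 3 * a + 3 by ring]; exact h1)
      rcases ht.dvd_mul.1 h3 with h | h
      · exact hn2 h
      · exact hq2 h
    have CD : t ∣ a + 2 → ¬ t ∣ a ^ 2 + 2 * a + 2 := fun h1 h2 => hn2 ((Nat.dvd_add_right (h1.mul_left a)).1 (by
      rw [show a * (a + 2) + 2 = a ^ 2 + 2 * a + 2 by ring]; exact h2))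
    have CE : t ∣ a + 2 → ¬ t ∣ a ^ 2 + a + 1 := fun h1 h2 => hn3 ((Nat.dvd_add_right (h1.mul_left a)).1 (by
      rw [show a * (a + 2) + 3 = a ^ 2 + a + 1 + (a + 2) by ring]; exact dvd_add h2 h1))
    have DE : t ∣ a ^ 2 + 2 * a + 2 → ¬ t ∣ a ^ 2 + a + 1 := fun h1 h2 => hq2 ((Nat.dvd_add_right h2).1 (by
      rw [show a ^ 2 + a + 1 + (a + 1) = a ^ 2 + 2 * a + 2 by ring]; exact h1))
    rw [e0]
    by_cases hB : t ∣ a ^ 2 + 3 * a + 3
    · rw [P_eq_one (BC hB), P_eq_one (BD hB), P_eq_one (BE hB)]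
      have hB2 : a ^ 2 + 3 * a + 3 = (q ^ 2 + q + 1) * (q ^ 2 - q + 1) := by
        have h1 : q ≤ q ^ 2 := Nat.le_self_pow (by norm_num) q
        zify [h1]
        have h2 : (a : ℤ) = (q : ℤ) ^ 2 - 1 := by
          have : (q : ℤ) ^ 2 = (a : ℤ) + 1 := by exact_mod_cast ha
          linarith only [ha]
        rw [h2]; ring
      have hP : P t (a ^ 2 + 3 * a + 3) ≤ q ^ 2 + q + 1 := by
        rw [hB2, P_mul (by positivity) (by (clear * -; positivity))]
        have h1 : q ≤ q ^ 2 := Nat.le_self_pow (by norm_num) q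
        by_cases h2 : t ∣ q ^ 2 - q + 1
        · have h3 : ¬ t ∣ q ^ 2 + q + 1 := fun h3 => by
            have h4 : t ∣ 2 * q := (Nat.dvd_add_right h2).1 (by
              rw [show q ^ 2 - q + 1 + 2 * q = q ^ 2 + q + 1 by omega]; exact h3)
            rcases ht.dvd_mul.1 h4 with h | h
            · exact hn2 h
            · exact htq h
          rw [P_eq_one h3, one_mul]
          exact (P_le (by (clear * -; positivity))).trans (by omega)
        · rw [P_eq_one h2, mul_one]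
          exact P_le (by positivity)
      have h1 := Nat.pow_le_pow_left hP 2
      have h2 : (q ^ 2 + q + 1) ^ 2 ≤ (q + 1) ^ 4 := by
        rw [show (q + 1) ^ 4 = ((q + 1) ^ 2) ^ 2 by ring]
        exact Nat.pow_le_pow_left (by linarith only []) 2
      (clear * - h1 h2; omega)
    by_cases hC : t ∣ a + 2
    · rw [P_eq_one hB, P_eq_one (CD hC), P_eq_one (CE hC)]
      have h1 := Nat.pow_le_pow_left (P_le (r := t) (a := a + 2) (by omega)) 2
      have h2 : (a + 2) ^ 2 ≤ (q + 1) ^ 4 := by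
        rw [show (q + 1) ^ 4 = ((q + 1) ^ 2) ^ 2 by ring]
        exact Nat.pow_le_pow_left (by linarith only [hq, ha]) 2
      omega
    rw [P_eq_one hB, P_eq_one hC]
    by_cases hD : t ∣ a ^ 2 + 2 * a + 2
    · rw [P_eq_one (DE hD)]
      have h1 := P_le (r := t) (a := a ^ 2 + 2 * a + 2) (by omega)
      have h2 : (a + 2) ^ 2 ≤ (q + 1) ^ 4 := by
        rw [show (q + 1) ^ 4 = ((q + 1) ^ 2) ^ 2 by ring]
        exact Nat.pow_le_pow_left (by linarith only [hq, ha]) 2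
      linarith only [h1, h2]
    · rw [P_eq_one hD]
      have h1 := P_le (r := t) (a := a ^ 2 + a + 1) (by omega)
      have h2 : (a + 2) ^ 2 ≤ (q + 1) ^ 4 := by
        rw [show (q + 1) ^ 4 = ((q + 1) ^ 2) ^ 2 by ring]
        exact Nat.pow_le_pow_left (by linarith only [hq, ha]) 2
      linarith only [h1, h2]

end Cfsg.Agent.H946.RgF4
end

-- part: H946/RgF4/CrossB
section
/-!
# S3691, row `F₄(q)`: sections in other characteristics have a small `p`-part, the theorem (helper946)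
-/

set_option autoImplicit false
set_option exponentiation.threshold 700

namespace Cfsg.Agent.H946.RgF4

open Cfsg Cfsg.Agent.OrdDiv Cfsg.Agent.H436 Cfsg.Agent.H915.GN Cfsg.Agent.H264.GN Cfsg.Agent.H264.FKS
open Cfsg.Agent.H902 Cfsg.Agent.H902.Names Cfsg.Agent.H56.Exc
open Cfsg.Agent.H325.Same (name_cases pow_le_real pow_le_L2)

variable {p f ν : ℕ}

/-! ### Lie type -/

/-- **Artin's dominance**, `p ≥ 5` -/
theorem pow_le_real5 {X : Art.Sh} {l a M p k : ℕ} (h : Art.Real X l a M) (hp : p.Prime) (hpl : l ≠ p) (h5 : 5 ≤ p)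
    (hk : 3 ≤ k) (hd : p ^ k ∣ M) : p ^ k ≤ Art.P l M + 1 := by
  have hM := h.M_ne
  by_cases hX : X = .L 2
  · subst hX
    have h1 := pow_le_L2 h hp hpl hk hd
    rw [h.P_self]
    have : Art.NN (.L 2) = 1 := rfl
    rw [this, pow_one]
    exact h1
  · rw [h.P_self]
    refine (H325.Same.le_P hp hM hd).trans ((h.dom hX hp (Ne.symm hpl) ?_ ?_).trans (Nat.le_succ _))
    · rintro ⟨-, -, h3⟩
      omega
    · rintro ⟨-, -, h3⟩
      omega

theorem num_f4 (q : ℕ) : num (.f4 q) = q ^ 24 * nF q := rfl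

theorem P_num_f4 {t q : ℕ} (ht : t.Prime) (hq : 2 ≤ q) (htq : ¬ t ∣ q) : Art.P t (num (.f4 q)) = Art.P t (nF q) := by
  have h1 : nF q ≠ 0 := by
    have h2 : 0 < q ^ 2 - 1 := by have := Nat.pow_le_pow_left hq 2; omega
    have h6 : 0 < q ^ 6 - 1 := by have := Nat.pow_le_pow_left hq 6; omega
    have h8 : 0 < q ^ 8 - 1 := by have := Nat.pow_le_pow_left hq 8; omega
    have h12 : 0 < q ^ 12 - 1 := by have := Nat.pow_le_pow_left hq 12; omega
    unfold nF
    positivity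
  rw [num_f4, Art.P_mul (pow_ne_zero _ (by omega)) h1, Art.P_eq_one, one_mul]
  exact fun h => htq (ht.dvd_of_dvd_pow h)

theorem lie_small {X : Art.Sh} {l a M : ℕ} (hR : Art.Real X l a M) (hp : p.Prime) (hl : l ≠ p) (hf : 1 ≤ f)
    (h5 : 5 ≤ p ^ f) (hν : p ^ ν ∣ Nat.gcd 2 p * f) (hd : M ∣ num (.f4 (p ^ f))) :
    M.factorization p + sl p + ν < 8 * f := by
  have hM := hR.M_ne
  have hpd : p ^ M.factorization p ∣ M := Nat.ordProj_dvd M p
  have hlp : ¬ l ∣ p ^ f := fun h => hl ((Nat.prime_dvd_prime_iff_eq hR.hp hp).1 (hR.hp.dvd_of_dvd_pow h))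
  have hN : num (.f4 (p ^ f)) ≠ 0 := by
    rw [num_f4]
    have h2 : 0 < (p ^ f) ^ 2 - 1 := by have := Nat.pow_le_pow_left h5 2; omega
    have h6 : 0 < (p ^ f) ^ 6 - 1 := by have := Nat.pow_le_pow_left h5 6; omega
    have h8 : 0 < (p ^ f) ^ 8 - 1 := by have := Nat.pow_le_pow_left h5 8; omega
    have h12 : 0 < (p ^ f) ^ 12 - 1 := by have := Nat.pow_le_pow_left h5 12; omega
    unfold nF
    have h24 : 0 < (p ^ f) ^ 24 := pow_pos (by omega) _
    (clear * - h5 h2 h6 h8 h12; positivity)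
  have hP : Art.P l M ≤ Art.P l (nF (p ^ f)) := by
    rw [← P_num_f4 hR.hp (by omega) hlp]
    exact Art.P_mono hR.hp hN hd
  by_cases hsm : M.factorization p ≤ 12 ∧ (5 ≤ p → M.factorization p ≤ 6)
  · exact sm_of_le hp hf h5 hν hsm.1 hsm.2
  have hpow : p ^ M.factorization p ≤ Art.P l M + 1 := by
    by_cases h12 : M.factorization p ≤ 12
    · have h6 : 5 ≤ p ∧ 6 < M.factorization p := by
        by_contra hcon
        exact hsm ⟨h12, fun h => by by_contra h7; exact hcon ⟨h, by omega⟩⟩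
      exact pow_le_real5 hR hp hl h6.1 (by omega) hpd
    · exact pow_le_real hR hp hl (by omega) hpd
  refine sm_of_pow hp hf h5 hν (fun hp2 => ?_) ?_
  · have h2 : l ≠ 2 := by rintro rfl; exact hl hp2.symm
    have := P_odd_le hR.hp h2 (by omega) hlp
    omega
  · by_cases h2 : l = 2
    · subst h2
      have := P_two_le (by omega) hlp
      omega
    · have := P_odd_le hR.hp h2 (by omega) hlp
      omega

/-! ### sporadic groups -/

theorem chk2 : ∀ f ∈ [3, 4, 5, 6], ∀ x ∈ spor, x.2 ∣ num (.f4 (2 ^ f)) → ¬ 2 ^ 18 ∣ x.2 := by decide +kernel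

theorem chk3 : ∀ x ∈ spor, x.2 ∣ num (.f4 (3 ^ 2)) → ¬ 3 ^ 15 ∣ x.2 := by decide +kernel

theorem chk5 : ∀ x ∈ spor, x.2 ∣ num (.f4 (5 ^ 1)) → ¬ 5 ^ 8 ∣ x.2 := by decide +kernel

theorem s47 : ∀ x ∈ spor, ¬ 2 ^ 47 ∣ x.2 := by decide +kernel
theorem s21 : ∀ x ∈ spor, ¬ 3 ^ 21 ∣ x.2 := by decide +kernel

theorem key_eight : ∀ a < 90, ∀ b < 72, 7 ≤ 72 * a + b → ¬ (72 * a + b) ^ 8 ∣ 7 ^ 6 * 11 ^ 3 * 13 ^ 3 *
    (17 * 19 * 23 * 29 * 31 * 37 * 41 * 43 * 47 * 59 * 67 * 71) := by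
  decide +kernel

theorem le_eight : 7 ^ 6 * 11 ^ 3 * 13 ^ 3 * (17 * 19 * 23 * 29 * 31 * 37 * 41 * 43 * 47 * 59 * 67 * 71) ≤ 6479 ^ 8 := by
  decide +kernel

theorem spor_eight {p : ℕ} (hp : p.Prime) (h7 : 7 ≤ p) : ∀ x ∈ spor, ¬ p ^ 8 ∣ x.2 := by
  intro x hx h
  have h1 := h.trans (H363.DQ.spor_part x hx)
  have h2 : Nat.Coprime (p ^ 8) (2 ^ 46 * 3 ^ 20) := by
    apply Nat.Coprime.pow_left
    apply Nat.Coprime.mul_right
    · exact Nat.Coprime.pow_right _ ((Nat.coprime_primes hp Nat.prime_two).2 (by omega))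
    · exact Nat.Coprime.pow_right _ ((Nat.coprime_primes hp Nat.prime_three).2 (by omega))
  have h3 : Nat.Coprime (p ^ 8) (5 ^ 9) :=
    Nat.Coprime.pow _ _ ((Nat.coprime_primes hp Nat.prime_five).2 (by omega))
  have h4 := h2.dvd_of_dvd_mul_left h1
  have h5 : p ^ 8 ∣ 5 ^ 9 * (7 ^ 6 * 11 ^ 3 * 13 ^ 3 *
      (17 * 19 * 23 * 29 * 31 * 37 * 41 * 43 * 47 * 59 * 67 * 71)) := by
    refine h4.trans (dvd_of_eq (by norm_num))
  have h6 := h3.dvd_of_dvd_mul_left h5
  have h5' : p ^ 8 ≤ 6479 ^ 8 := (Nat.le_of_dvd (by positivity) h6).trans le_eight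
  have h8 : p ≤ 6479 := (Nat.pow_le_pow_iff_left (by norm_num)).1 h5'
  have h9 := key_eight (p / 72) (by omega) (p % 72) (by omega)
  rw [Nat.div_add_mod] at h9
  exact h9 h7 h6

theorem fac_le {p M k : ℕ} (h : ¬ p ^ (k + 1) ∣ M) : M.factorization p ≤ k := by
  by_contra hcon
  exact h ((pow_dvd_pow p (by omega)).trans (Nat.ordProj_dvd M p))

theorem spor_small {x : Grp × ℕ} (hx : x ∈ spor) (hp : p.Prime) (hf : 1 ≤ f)
    (h5 : 5 ≤ p ^ f) (hν : p ^ ν ∣ Nat.gcd 2 p * f) (hd : x.2 ∣ num (.f4 (p ^ f))) :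
    x.2.factorization p + sl p + ν < 8 * f := by
  by_cases hp2 : p = 2
  · subst hp2
    have h3 := f_three h5
    have e1 : sl 2 = 5 := by decide
    rw [e1]
    have h46 := fac_le (k := 46) (s47 x hx)
    by_cases h6 : f ≤ 6
    · have h17 := fac_le (k := 17) (chk2 f (by
        simp only [List.mem_cons, List.not_mem_nil, or_false]; omega) x hx hd)
      have hg : Nat.gcd 2 2 = 2 := by decide
      rw [hg] at hν
      have hν' : ν ≤ 3 ∧ (f = 3 → ν ≤ 1) := by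
        have h8 := Nat.le_of_dvd (by omega) hν
        refine ⟨?_, ?_⟩
        · by_contra hcon
          have : 2 ^ 4 ≤ 2 ^ ν := Nat.pow_le_pow_right (by norm_num) (by omega)
          omega
        · rintro rfl
          by_contra hcon
          have h9 : 2 ^ 2 ∣ 2 * 3 := (pow_dvd_pow 2 (by omega)).trans hν
          revert h9
          decide
      have := hν'.1
      by_cases h33 : f = 3
      · have := hν'.2 h33
        omega
      · omega
    · have h7 := nu_two hf hν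
      by_cases h77 : f = 7
      · have hν' : ν ≤ 3 := by
          by_contra hcon
          have : 2 ^ 4 ≤ 2 ^ ν := Nat.pow_le_pow_right (by norm_num) (by omega)
          omega
        omega
      · obtain ⟨k, rfl⟩ := Nat.exists_eq_add_of_le' h3
        have h8 : ν ≤ k + 3 := (Nat.pow_le_pow_iff_right (by norm_num)).1 (h7.trans (two_mul_le_pow k))
        omega
  have h7 := nu_lt hp (nu_odd hp hp2 hf hν) hf
  by_cases hp3 : p = 3
  · subst hp3
    have h3 := f_two h5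
    have e1 : sl 3 = 1 := by decide
    rw [e1]
    by_cases h2 : f = 2
    · subst h2
      have h14 := fac_le (k := 14) (chk3 x hx hd)
      have hν0 : ν = 0 := by
        by_contra hcon
        have h9 := nu_odd hp hp2 hf hν
        have h10 : 3 ^ 1 ≤ 3 ^ ν := Nat.pow_le_pow_right (by norm_num) (by omega)
        omega
      omega
    · have h20 := fac_le (k := 20) (s21 x hx)
      omega
  · have hp5 := five_le hp hp2 hp3
    have e1 : sl p = 0 := by unfold sl; rw [if_neg hp2, if_neg hp3]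
    rw [e1]
    by_cases h1 : f = 1
    · subst h1
      by_cases hp7 : p = 5
      · subst hp7
        have := fac_le (k := 7) (chk5 x hx hd)
        omega
      · have h6 : p ≠ 6 := by rintro rfl; exact absurd hp (by norm_num)
        have := fac_le (k := 7) (spor_eight hp (by omega) x hx)
        omega
    · have := fac_le (k := 9) (H363.DQ.spor_ten hp hp5 x hx)
      omega

/-! ### alternating groups -/

theorem chkA : ∀ p < 29, 5 ≤ p → p % 2 ≠ 0 → p % 3 ≠ 0 → ¬ p ^ 7 ∣ Nat.factorial 28 := by decide +kernel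

theorem chkA3 : ¬ 3 ^ 14 ∣ Nat.factorial 28 := by decide +kernel

theorem alt_small {S : Type*} [Group S] [Finite S] {m : ℕ} (Φ : S ≃* alternatingGroup (Fin m)) (hm : 5 ≤ m)
    (hp : p.Prime) (hf : 1 ≤ f) (h5 : 5 ≤ p ^ f) (hν : p ^ ν ∣ Nat.gcd 2 p * f) {c r N : ℕ} (hc : c = 12 ∨ c = 8)
    (hcr : c * f ∣ r - 1) (hr13 : 5 ≤ r) (hb : Big S r N c) (hrS : r ∣ Nat.card S) :
    (Nat.card S).factorization p + sl p + ν < 8 * f := by
  have h1 := alt_dvd hb hrS (by omega) Φ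
  have h2 := alt_le hb hrS hr13 Φ
  have h3 := hcr.trans h1
  have h4 : f ∣ 2 := by
    have : c * f ∣ c * 2 := by rw [mul_comm c 2]; exact h3
    exact Nat.dvd_of_mul_dvd_mul_left (by omega) this
  have h6 := Nat.le_of_dvd (by norm_num) h4
  have h7 := Nat.le_of_dvd (by omega) h1
  have hm28 : m ≤ 28 := by omega
  have hd : Nat.card S ∣ Nat.factorial 28 := by
    have h8 : 2 * Nat.card S = m.factorial := by
      have : Nontrivial (Fin m) := Fin.nontrivial_iff_two_le.2 (by omega)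
      rw [Nat.card_congr Φ.toEquiv, Nat.card_eq_fintype_card, two_mul_card_alternatingGroup, Fintype.card_perm,
        Fintype.card_fin]
    exact (Dvd.intro_left _ h8).trans (Nat.factorial_dvd_factorial hm28)
  by_cases hp2 : p = 2
  · subst hp2
    have := f_three h5
    omega
  have hν' := nu_lt hp (nu_odd hp hp2 hf hν) hf
  by_cases hp3 : p = 3
  · subst hp3
    have h9 := f_two h5
    have e1 : sl 3 = 1 := by decide
    have h13 := fac_le (k := 13) (fun h => chkA3 (h.trans hd))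
    omega
  · have hp5 := five_le hp hp2 hp3
    refine sm_of_le hp hf h5 hν ?_ fun _ => ?_
    all_goals
      have h10 : (Nat.card S).factorization p ≤ 6 := by
        by_cases h29 : p < 29
        · refine fac_le (k := 6) fun h => chkA p h29 hp5 ?_ ?_ (h.trans hd)
          · intro h11
            exact hp2 ((Nat.prime_dvd_prime_iff_eq Nat.prime_two hp).1 (Nat.dvd_of_mod_eq_zero h11)).symm
          · intro h11
            exact hp3 ((Nat.prime_dvd_prime_iff_eq Nat.prime_three hp).1 (Nat.dvd_of_mod_eq_zero h11)).symm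
        · rw [Nat.factorization_eq_zero_of_not_dvd]
          · omega
          · intro h12
            have := (hp.dvd_factorial).1 (h12.trans hd)
            omega
      omega

/-! ### the theorem -/

/-- **Sections in other characteristics have a small `p`-part.** -/
theorem cross_small {S : Type} [Group S] [Finite S] {g : Grp} (hg : IsNamed g S) (hp : p.Prime) (hf : 1 ≤ f)
    (h5 : 5 ≤ p ^ f) (hν : p ^ ν ∣ Nat.gcd 2 p * f) (hd : Nat.card S ∣ num (.f4 (p ^ f))) {c r N : ℕ}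
    (hc : c = 12 ∨ c = 8) (hcr : c * f ∣ r - 1) (hr5 : 5 ≤ r) (hb : Big S r N c) (hrS : r ∣ Nat.card S) :
    HasChar p g ∨ (Nat.card S).factorization p + sl p + ν < 8 * f := by
  have T : OrderTable.{0} := table
  rcases name_cases hg.cond with ⟨l, hl, hch⟩ | ⟨m, hm, rfl⟩ | ⟨x, hx, rfl⟩
  · by_cases hlp : l = p
    · exact Or.inl (hlp ▸ hch)
    · right
      obtain ⟨X, a, -, hR, -⟩ := exists_lie hl hg hch
      exact lie_small hR hp hlp hf h5 hν hd
  · right
    obtain ⟨Φ⟩ : Nonempty (S ≃* alternatingGroup (Fin m)) := hg.real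
    exact alt_small Φ hm hp hf h5 hν hc hcr hr5 hb hrS
  · right
    have hc' : Nat.card S = x.2 := T.spor S x hx hg.real
    rw [hc'] at hd ⊢
    exact spor_small hx hp hf h5 hν hd

end Cfsg.Agent.H946.RgF4
end

-- part: H946/RgF4/TypB
section
/-!
# S3691, row `F₄(q)`: the sizes of the class 8 groups of Lie type in characteristic `p` (helper946)
-/

set_option autoImplicit false

namespace Cfsg.Agent.H946.RgF4

open Cfsg Cfsg.Agent.OrdDiv Cfsg.Agent.H436 Cfsg.Agent.H425.PartP Cfsg.Agent.H425.Chr Cfsg.Agent.H946.Exc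

variable {p f b c cT : ℕ} {g : Grp}

theorem glN_four {Q : ℕ} (hQ : 1 ≤ Q) : ((List.range 4).map fun i => Q ^ 4 - Q ^ i).prod =
    (Q - 1) * (Q ^ 6 * ((Q ^ 2 - 1) * (Q ^ 3 - 1) * (Q ^ 4 - 1))) := by
  have h1 : Q ^ 4 - Q ^ 3 = Q ^ 3 * (Q - 1) := by rw [Nat.mul_sub, mul_one, ← pow_succ]
  have h2 : Q ^ 4 - Q ^ 2 = Q ^ 2 * (Q ^ 2 - 1) := by rw [Nat.mul_sub, mul_one, ← pow_add]
  have h3 : Q ^ 4 - Q ^ 1 = Q * (Q ^ 3 - 1) := by rw [Nat.mul_sub, mul_one, ← pow_succ', pow_one]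
  simp only [List.range_succ, List.range_zero, List.nil_append, List.map_cons, List.map_nil,
    List.prod_cons, List.prod_nil, mul_one, List.cons_append]
  rw [h1, h2, h3, pow_zero]
  ring

/-- **class 8, without class 12** -/
theorem type8 (H : TS p f b c cT g) (ht : top g * b = 8 * f) (hq5 : 5 ≤ p ^ f) :
    c.factorization p ≤ 8 * f ∨ (c.factorization p ≤ 12 * f ∧ (p ^ f) ^ 15 ≤ W p c) ∨
      (c.factorization p ≤ 16 * f ∧ 2 * (p ^ f) ^ 19 ≤ W p c) := by
  obtain ⟨hf, hb⟩ := H.pos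
  have h2 := H.ex_le ht
  have h3 : ex g ≤ 3 * top g := by omega
  have hu := H.S.hq
  have hfac := H.S.fac
  have hp2 := H.S.hp.two_le
  rcases list_C H.S.cond H.qne h3 with ⟨n, u, hn, rfl⟩ | ⟨m, u, hm, rfl⟩ | ⟨m, u, hm, rfl⟩ | ⟨n, u, rfl⟩ |
    ⟨m, u, hm, rfl⟩ | ⟨m, u, hm, rfl⟩ | ⟨u, rfl⟩ | ⟨u, rfl⟩ | ⟨u, rfl⟩ | ⟨u, rfl⟩ | ⟨u, rfl⟩ | ⟨u, rfl⟩ | ⟨u, rfl⟩ |
    ⟨u, rfl⟩
  · -- PSL
    have h4 : n * b = 8 * f := ht
    have hn2 : 2 ≤ n := H.S.cond.1
    rcases (show n = 2 ∨ n = 3 ∨ n = 4 ∨ n = 5 ∨ n = 6 ∨ n = 7 by omega) with rfl | rfl | rfl | rfl | rfl | rfl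
    · left
      rw [hfac]; change b * 1 ≤ _; omega
    · exfalso
      obtain ⟨h, rfl, rfl⟩ : ∃ h, f = 3 * h ∧ b = 8 * h := ⟨b - 2 * f - (f - (b - 2 * f)), by (clear * - h4; (solve | lia | omega)), by (clear * - h4; (solve | lia | omega))⟩
      have hh : 0 < h := by omega
      exact H.k1 16 8 3 2 16 hh rfl rfl (by omega) (by omega) (by decide)
        (.low (by exact id) (by norm_num) le_rfl) (by decide) (by omega)
    · right; left
      obtain rfl : b = f * 2 := by omega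
      obtain rfl : u = p ^ (f * 2) := hu
      refine ⟨by rw [hfac]; change f * 2 * 6 ≤ _; omega, ?_⟩
      have h5 : Nat.gcd 4 (p ^ (f * 2) - 1) * (p ^ (f * 2) - 1) * c =
        ((List.range 4).map fun i => (p ^ (f * 2)) ^ 4 - (p ^ (f * 2)) ^ i).prod := H.S.eq
      have h8' := H.S.two_le
      rw [glN_four (by omega), mul_comm (Nat.gcd 4 (p ^ (f * 2) - 1)), mul_assoc] at h5
      have h9 := Nat.eq_of_mul_eq_mul_left (show 0 < p ^ (f * 2) - 1 by omega) h5
      have h11 := w_eq H.S (R := ((p ^ (f * 2)) ^ 2 - 1) * ((p ^ (f * 2)) ^ 3 - 1) * ((p ^ (f * 2)) ^ 4 - 1)) h9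
      have h12 : (p ^ (f * 2)) ^ 2 = (p ^ f) ^ 4 := by rw [← pow_mul, ← pow_mul]; ring_nf
      have h13 : (p ^ (f * 2)) ^ 3 = (p ^ f) ^ 6 := by rw [← pow_mul, ← pow_mul]; ring_nf
      have h14 : (p ^ (f * 2)) ^ 4 = (p ^ f) ^ 8 := by rw [← pow_mul, ← pow_mul]; ring_nf
      rw [h12, h13, h14] at h11
      exact n_psl4 hq5 (gcd_le' (by norm_num)) h11
    · exfalso
      obtain ⟨h, rfl, rfl⟩ : ∃ h, f = 5 * h ∧ b = 8 * h := ⟨2 * f - b - (b - f - (2 * f - b)), by (clear * - h4; (solve | lia | omega)), by (clear * - h4; (solve | lia | omega))⟩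
      have hh : 0 < h := by omega
      exact H.k1 32 8 5 4 32 hh rfl rfl (by omega) (by omega) (by decide)
        (Or.inl ⟨by norm_num, by change 4 ≤ 5; norm_num⟩) (by decide) (by omega)
    · exfalso
      obtain ⟨h, rfl, rfl⟩ : ∃ h, f = 3 * h ∧ b = 4 * h := ⟨b - f, by omega, by omega⟩
      have hh : 0 < h := by omega
      exact H.k1 20 4 3 5 20 hh rfl rfl (by omega) (by omega) (by decide)
        (Or.inl ⟨by norm_num, by change 5 ≤ 6; norm_num⟩) (by decide) (by omega)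
    · exfalso
      obtain ⟨h, rfl, rfl⟩ : ∃ h, f = 7 * h ∧ b = 8 * h := ⟨b - f, by omega, by omega⟩
      have hh : 0 < h := by omega
      exact H.k1 48 8 7 6 48 hh rfl rfl (by omega) (by omega) (by decide)
        (Or.inl ⟨by norm_num, by change 6 ≤ 7; norm_num⟩) (by decide) (by omega)
  · -- PSp
    have h4 : 2 * m * b = 8 * f := ht
    have hm2 : 2 ≤ m := H.S.cond.1
    rcases (show m = 2 ∨ m = 3 ∨ m = 4 ∨ m = 5 ∨ m = 6 by omega) with rfl | rfl | rfl | rfl | rfl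
    · left
      rw [hfac]; change b * 4 ≤ _; omega
    · exfalso
      obtain ⟨h, rfl, rfl⟩ : ∃ h, f = 3 * h ∧ b = 4 * h := ⟨b - f, by omega, by omega⟩
      have hh : 0 < h := by omega
      exact H.k1 16 4 3 4 16 hh rfl rfl (by omega) (by omega) (by decide)
        (Or.inl ⟨by norm_num, (K_psp (by norm_num)).2 (by norm_num)⟩) (by decide) (by omega)
    · right; right
      obtain rfl : b = f := by omega
      obtain rfl : u = p ^ b := hu
      refine ⟨by rw [hfac]; change b * 16 ≤ _; omega, ?_⟩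
      have h5 : Nat.gcd 2 (p ^ b - 1) * c = (p ^ b) ^ (4 ^ 2) * prB (p ^ b) 4 := H.S.eq
      have h11 := w_eq H.S h5
      rw [prB_four] at h11
      exact n_psp4 hq5 (gcd_le' two_pos) h11
    · exfalso
      obtain ⟨h, rfl, rfl⟩ : ∃ h, f = 5 * h ∧ b = 4 * h := ⟨f - b, by omega, by (clear * - h4; solve | lia | omega)⟩
      have hh : 0 < h := by omega
      exact H.k1 32 4 5 8 32 hh rfl rfl (by omega) (by omega) (by decide)
        (Or.inl ⟨by norm_num, (K_psp (by norm_num)).2 (by norm_num)⟩) (by decide) (by omega)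
    · exfalso
      obtain ⟨h, rfl, rfl⟩ : ∃ h, f = 3 * h ∧ b = 2 * h := ⟨f - b, by omega, by omega⟩
      have hh : 0 < h := by omega
      exact H.k1 20 2 3 10 20 hh rfl rfl (by omega) (by omega) (by decide)
        (Or.inl ⟨by norm_num, (K_psp (by norm_num)).2 (by norm_num)⟩) (by decide) (by omega)
  · -- PΩ odd
    have h4 : 2 * m * b = 8 * f := ht
    have hm2 : 3 ≤ m := H.S.cond.1
    rcases (show m = 3 ∨ m = 4 ∨ m = 5 ∨ m = 6 by omega) with rfl | rfl | rfl | rfl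
    · exfalso
      obtain ⟨h, rfl, rfl⟩ : ∃ h, f = 3 * h ∧ b = 4 * h := ⟨b - f, by omega, by omega⟩
      have hh : 0 < h := by omega
      exact H.k1 16 4 3 4 16 hh rfl rfl (by omega) (by omega) (by decide)
        (Or.inl ⟨by norm_num, (K_oodd (by norm_num)).2 (by norm_num)⟩) (by decide) (by omega)
    · right; right
      obtain rfl : b = f := by omega
      obtain rfl : u = p ^ b := hu
      refine ⟨by rw [hfac]; change b * 16 ≤ _; omega, ?_⟩
      have h5 : 2 * c = (p ^ b) ^ (4 ^ 2) * prB (p ^ b) 4 := H.S.eq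
      have h11 := w_eq H.S h5
      rw [prB_four] at h11
      exact n_psp4 hq5 le_rfl h11
    · exfalso
      obtain ⟨h, rfl, rfl⟩ : ∃ h, f = 5 * h ∧ b = 4 * h := ⟨f - b, by omega, by (clear * - h4; solve | lia | omega)⟩
      have hh : 0 < h := by omega
      exact H.k1 32 4 5 8 32 hh rfl rfl (by omega) (by omega) (by decide)
        (Or.inl ⟨by norm_num, (K_oodd (by norm_num)).2 (by norm_num)⟩) (by decide) (by omega)
    · exfalso
      obtain ⟨h, rfl, rfl⟩ : ∃ h, f = 3 * h ∧ b = 2 * h := ⟨f - b, by omega, by omega⟩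
      have hh : 0 < h := by omega
      exact H.k1 20 2 3 10 20 hh rfl rfl (by omega) (by omega) (by decide)
        (Or.inl ⟨by norm_num, (K_oodd (by norm_num)).2 (by norm_num)⟩) (by decide) (by omega)
  · -- PSU
    have h4 : 2 * (n - (1 - n % 2)) * b = 8 * f := ht
    have hn2 : 3 ≤ n := H.S.cond.1
    by_cases hn3 : n = 3
    · subst hn3
      left
      replace h4 : 6 * b = 8 * f := h4
      rw [hfac]; change b * 3 ≤ _; omega
    · exfalso
      set n' := n - (1 - n % 2) with hn'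
      have hodd : n' % 2 = 1 := by (clear * - hn2; omega)
      have h5 : n' * b = 4 * f := by
        apply Nat.eq_of_mul_eq_mul_left (show 0 < 2 by norm_num)
        calc 2 * (n' * b) = 2 * n' * b := by ring
          _ = 8 * f := h4
          _ = _ := by ring
      have hc : Nat.Coprime 4 n' := by
        have h6 : Nat.Coprime 2 n' := by rw [Nat.coprime_two_left, Nat.odd_iff]; exact hodd
        exact Nat.Coprime.mul_left h6 h6
      obtain ⟨h, rfl⟩ := hc.dvd_of_dvd_mul_left (Dvd.intro _ h5.symm)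
      have hh : 0 < h := by omega
      have h6 : f = n' * h := by
        apply Nat.eq_of_mul_eq_mul_left (show 0 < 4 by norm_num)
        rw [← h5]; ring
      have hc16 : Nat.Coprime 16 n' := Nat.Coprime.mul_left hc hc
      exact H.k1 16 4 n' 4 16 hh h6 rfl (by omega) (by omega) (by decide)
        (Or.inl ⟨by norm_num, (K_psu (by norm_num)).2 (by right; left; exact ⟨by norm_num, by omega⟩)⟩)
        (by rw [hc16]) (by omega)
  · -- PΩ⁺
    exfalso
    have h4 : 2 * (m - 1) * b = 8 * f := ht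
    have hm2 : 4 ≤ m := H.S.cond.1
    rcases (show m = 4 ∨ m = 5 ∨ m = 6 by omega) with rfl | rfl | rfl
    · replace h4 : 6 * b = 8 * f := h4
      obtain ⟨h, rfl, rfl⟩ : ∃ h, f = 3 * h ∧ b = 4 * h := ⟨b - f, by omega, by omega⟩
      have hh : 0 < h := by omega
      exact H.k1 16 4 3 4 16 hh rfl rfl (by omega) (by omega) (by decide)
        (Or.inl ⟨by norm_num, (K_oplus (by norm_num) (by norm_num)).2 (by norm_num)⟩) (by decide) (by omega)
    · replace h4 : 8 * b = 8 * f := h4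
      exact H.k1 5 1 1 5 5 hf (by omega) (by omega) (by omega) (by omega) (by decide)
        (Or.inl ⟨by norm_num, (K_oplus (by norm_num) (by norm_num)).2 (by norm_num)⟩) (by decide) (by omega)
    · replace h4 : 10 * b = 8 * f := h4
      obtain ⟨h, rfl, rfl⟩ : ∃ h, f = 5 * h ∧ b = 4 * h := ⟨f - b, by omega, by (clear * - h4; solve | lia | omega)⟩
      have hh : 0 < h := by omega
      exact H.k1 32 4 5 8 32 hh rfl rfl (by omega) (by omega) (by decide)
        (Or.inl ⟨by norm_num, (K_oplus (by norm_num) (by norm_num)).2 (by norm_num)⟩) (by decide) (by omega)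
  · -- PΩ⁻
    have h4 : 2 * m * b = 8 * f := ht
    have hm2 : 4 ≤ m := H.S.cond.1
    rcases (show m = 4 ∨ m = 5 ∨ m = 6 ∨ m = 7 by omega) with rfl | rfl | rfl | rfl
    · right; left
      obtain rfl : b = f := by omega
      obtain rfl : u = p ^ b := hu
      refine ⟨by rw [hfac]; change b * 12 ≤ _; omega, ?_⟩
      have h5 : Nat.gcd 4 ((p ^ b) ^ 4 + 1) * c =
        (p ^ b) ^ (4 * (4 - 1)) * (((p ^ b) ^ 4 + 1) * prB (p ^ b) (4 - 1)) := H.S.eq
      have h11 := w_eq H.S h5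
      rw [show 4 - 1 = 3 by norm_num, prB_three] at h11
      exact n_ominus4 hq5 (gcd_le' (by norm_num)) h11
    · exfalso
      obtain ⟨h, rfl, rfl⟩ : ∃ h, f = 5 * h ∧ b = 4 * h := ⟨f - b, by omega, by (clear * - h4; solve | lia | omega)⟩
      have hh : 0 < h := by omega
      exact H.k1 32 4 5 8 32 hh rfl rfl (by omega) (by omega) (by decide)
        (Or.inl ⟨by norm_num, (K_ominus (by norm_num) (by norm_num)).2 (by norm_num)⟩) (by decide) (by omega)
    · exfalso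
      obtain ⟨h, rfl, rfl⟩ : ∃ h, f = 3 * h ∧ b = 2 * h := ⟨f - b, by omega, by (clear * - h4; solve | lia | omega)⟩
      have hh : 0 < h := by omega
      exact H.k1 20 2 3 10 20 hh rfl rfl (by omega) (by omega) (by decide)
        (Or.inl ⟨by norm_num, (K_ominus (by norm_num) (by norm_num)).2 (by norm_num)⟩) (by decide) (by omega)
    · exfalso
      obtain ⟨h, rfl, rfl⟩ : ∃ h, f = 7 * h ∧ b = 4 * h := ⟨2 * b - f, by (clear * - h4; omega), by (clear * - h4; omega)⟩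
      have hh : 0 < h := by omega
      exact H.k1 48 4 7 12 48 hh rfl rfl (by omega) (by omega) (by decide)
        (Or.inl ⟨by norm_num, (K_ominus (by norm_num) (by norm_num)).2 (by norm_num)⟩) (by decide) (by omega)
  · -- G₂
    left
    have h4 : 6 * b = 8 * f := ht
    rw [hfac]; change b * 6 ≤ _; omega
  · -- F₄
    exfalso
    have h4 : 12 * b = 8 * f := ht
    obtain ⟨h, rfl, rfl⟩ : ∃ h, f = 3 * h ∧ b = 2 * h := ⟨f - b, by omega, by (clear * - h4; solve | lia | omega)⟩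
    have hh : 0 < h := by omega
    exact H.k1 16 2 3 8 16 hh rfl rfl (by omega) (by omega) (by decide) K8 (by decide) (by omega)
  · -- E₆
    exfalso
    have h4 : 12 * b = 8 * f := ht
    obtain ⟨h, rfl, rfl⟩ : ∃ h, f = 3 * h ∧ b = 2 * h := ⟨f - b, by omega, by (clear * - h4; solve | lia | omega)⟩
    have hh : 0 < h := by omega
    exact H.k1 10 2 3 5 10 hh rfl rfl (by omega) (by omega) (by decide)
      (Or.inl ⟨by norm_num, Or.inr (Or.inl dvd_rfl)⟩) (by decide) (by omega)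
  · -- ²E₆
    exfalso
    have h4 : 18 * b = 8 * f := ht
    obtain ⟨h, rfl, rfl⟩ : ∃ h, f = 9 * h ∧ b = 4 * h := ⟨f - 2 * b, by (clear * - h4; solve | lia | omega), by omega⟩
    have hh : 0 < h := by omega
    exact H.k1 32 4 9 8 32 hh rfl rfl (by omega) (by omega) (by decide)
      (Or.inl ⟨by norm_num, Or.inr (Or.inr (Or.inr (Or.inl dvd_rfl)))⟩) (by decide) (by omega)
  · -- ³D₄
    left
    have h4 : 12 * b = 8 * f := ht
    rw [hfac]; change b * 12 ≤ _; omega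
  · -- Sz
    left
    have h4 : 4 * b = 8 * f := ht
    rw [hfac]; change b * 2 ≤ _; omega
  · -- Ree
    left
    have h4 : 6 * b = 8 * f := ht
    rw [hfac]; change b * 3 ≤ _; omega
  · -- ²F₄
    left
    have h4 : 12 * b = 8 * f := ht
    rw [hfac]; change b * 12 ≤ _; omega

end Cfsg.Agent.H946.RgF4
end

-- part: H946/RgF4/Sec
section
/-!
# S3691, row `F₄(q)`: the factors (helper946)

* `out12`, `out8` : a subgroup `Z` of `F₄(q)` with a prime of the class 12 (8, but none of the class 12);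
* `no_fact` : no exact factorization, if a subgroup containing all primes is the whole group.
-/

set_option autoImplicit false

namespace Cfsg.Agent.H946.RgF4

open Cfsg Cfsg.Agent.OrdDiv Cfsg.Agent.H436 Cfsg.Agent.H915.GN Cfsg.Agent.H264.FKS
open Cfsg.Agent.H902 Cfsg.Agent.H56.Exc Cfsg.Agent.H563.KG Cfsg.Agent.H946.Exc Cfsg.Agent.H325.Loc
open Cfsg.Agent.H425.PartP Cfsg.Agent.H425.Chr Cfsg.Agent.H946.KZ

/-- the exponent of `p` in `c`, `c = 12, 8` -/
def sc (p c : ℕ) : ℕ := if p = 2 then (if c = 12 then 2 else 3) else if p = 3 then (if c = 12 then 1 else 0) else 0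

theorem sc_add (p : ℕ) : sc p 12 + sc p 8 = sl p := by
  unfold sc sl
  by_cases h2 : p = 2
  · simp [h2]
  · by_cases h3 : p = 3
    · simp [h3]
    · simp [h2, h3]

theorem sc_le (p : ℕ) : 2 * sc p 12 ≤ sl p + 1 ∧ sc p 8 ≤ sl p ∧ sc p 12 ≤ sl p ∧ sl p ≤ 5 := by
  unfold sc sl
  by_cases h2 : p = 2
  · simp [h2]
  · by_cases h3 : p = 3
    · simp [h3]
    · simp [h2, h3]

theorem le_sc {p c k : ℕ} (hp : p.Prime) (hc : c = 12 ∨ c = 8) (h : p ^ k ∣ c) : k ≤ sc p c := by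
  by_contra hcon
  push Not at hcon
  have h1 : p ^ (sc p c + 1) ∣ c := (pow_dvd_pow p (by omega)).trans h
  by_cases h2 : p = 2
  · subst h2
    rcases hc with rfl | rfl
    · revert h1; decide
    · revert h1; decide
  · by_cases h3 : p = 3
    · subst h3
      rcases hc with rfl | rfl
      · revert h1; decide
      · revert h1; decide
    · have h4 : p ∣ c := (dvd_pow_self p (by omega)).trans h1
      have h5 : c ∣ 2 ^ 3 * 3 := by rcases hc with rfl | rfl <;> decide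
      rcases hp.dvd_mul.1 (h4.trans h5) with h6 | h6
      · exact h2 ((Nat.prime_dvd_prime_iff_eq hp Nat.prime_two).1 (hp.dvd_of_dvd_pow h6))
      · exact h3 ((Nat.prime_dvd_prime_iff_eq hp Nat.prime_three).1 h6)

/-- small `p`-part -/
def Small (p f ν c v : ℕ) : Prop := v + ν + sl p < 8 * f + sc p c

/-- class 12 -/
def T12 (p f v w : ℕ) : Prop :=
  (v ≤ 6 * f + sc p 12 ∧ (p ^ f) ^ 9 ≤ 2 * w) ∨ (v ≤ 12 * f + sc p 12 ∧ (p ^ f) ^ 13 ≤ w)

/-- class 8 -/
def T8 (p f v w : ℕ) : Prop :=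
  v ≤ 8 * f + sc p 8 ∨ (v ≤ 12 * f + sc p 8 ∧ (p ^ f) ^ 15 ≤ w) ∨ (v ≤ 16 * f + sc p 8 ∧ 2 * (p ^ f) ^ 19 ≤ w)

theorem W_mul' (p a b : ℕ) : W p (a * b) = W p a * W p b := Nat.ordCompl_mul a b p

theorem W_pos {p a : ℕ} (ha : a ≠ 0) : 0 < W p a := Nat.ordCompl_pos p ha

theorem fac_mul {p a b : ℕ} (ha : a ≠ 0) (hb : b ≠ 0) :
    (a * b).factorization p = a.factorization p + b.factorization p := by
  rw [Nat.factorization_mul ha hb, Finsupp.add_apply]

section

variable {p f : ℕ} {F : Type} [Field F] [Fintype F] [CharP F p]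

/-- the simple section -/
theorem sec (tb : OrderTable.{0}) (hcyc : CycFixSolv.{0}) (hcf : CF) (hp : p.Prime) (hf : 1 ≤ f)
    (hq : Fintype.card F = p ^ f) (Z : Subgroup ↥(Lie.chevF4.group F)) {c r : ℕ} (hc : c = 12 ∨ c = 8)
    (hr : Prim p (c * f) r) (hrZ : r ∣ Nat.card Z) :
    (Nat.card Z).factorization p ≤ sc p c ∨ ∃ (S : Type) (_ : Group S) (_ : Finite S) (n : ℕ) (g : Grp),
      IsNamed g S ∧ Nat.card Z = Nat.card S * n ∧ n.factorization p ≤ sc p c ∧ r ∣ Nat.card S ∧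
      Big S r (Ph c (p ^ f)) c := by
  have := Fact.mk hp
  have hfin : Finite ↥(Lie.chevF4.group F) := inferInstance
  have hrq : Prim (p ^ f) c r := prim_base hf hr
  have hpm : ¬ p ∣ Ph c (p ^ f) := by
    have hq1 : 1 ≤ p ^ f := Nat.one_le_pow _ _ hp.pos
    have hcl : Cls c := by unfold Cls; (solve | lia | omega)
    intro h
    have h1 := h.trans (Ph_dvd hcl hq1)
    have h2 : p ∣ (p ^ f) ^ c := by
      rw [← pow_mul]
      exact dvd_pow_self p (by
        have : 0 < f * c := Nat.mul_pos hf (by omega)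
        omega)
    have h3 : 1 ≤ (p ^ f) ^ c := Nat.one_le_pow _ _ hq1
    have h4 := Nat.dvd_sub h2 h1
    rw [Nat.sub_sub_self h3] at h4
    exact hp.one_lt.ne' (Nat.dvd_one.1 h4)
  have hT : Tori ↥(Lie.chevF4.group F) p (fun (_ : Unit) r' => r' = r) (fun _ => Ph c (p ^ f)) (fun _ => c) :=
    { big := by rintro _ _ rfl; exact bigF4 hq hc hrq
      dvd := by rintro _ _ rfl; exact dvdF4 tb hq hc hrq
      ne := fun _ => ⟨r, rfl⟩
      sep := fun i j _ hij _ => absurd (Subsingleton.elim i j) hij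
      ndvd := fun _ => hpm }
  have hpiso : PIso p r ↥(Lie.chevF4.group F) :=
    Cfsg.Agent.H325.IsoExc.piso_F4 (F := F) (d := c) (by omega) (by rw [hq]; exact hrq)
  by_cases hk : ∃ k, p ^ k ∣ Nat.card Z ∧ ¬ p ^ k ∣ c
  · obtain ⟨k, hk1, hk2⟩ := hk
    obtain ⟨S, _, _, n, hs, hna, hcard, hB, hn⟩ := hT.section_p hcyc hp () Z (by rintro _ rfl; exact hrZ)
      (by rintro _ rfl; exact hpiso) hk1 hk2
    have hs' : IsSimpleGroup S := hs
    obtain ⟨g, hg⟩ := exists_named tb (hcf S) fun h => hna ⟨⟨h⟩⟩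
    exact Or.inr ⟨S, inferInstance, inferInstance, n, g, hg, hcard, le_sc hp hc (hn _ (Nat.ordProj_dvd n p)),
      (hB r rfl).2.1, (hB r rfl).1⟩
  · push Not at hk
    exact Or.inl (le_sc hp hc (hk _ (Nat.ordProj_dvd _ p)))

/-- the data of a section in characteristic `p` -/
theorem ts_of (tb : OrderTable.{0}) (hp : p.Prime) (hf : 1 ≤ f) (hq : Fintype.card F = p ^ f)
    (Z : Subgroup ↥(Lie.chevF4.group F)) {S : Type} [Group S] [Finite S] {n : ℕ} {g : Grp} (hg : IsNamed g S)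
    (hch : HasChar p g) (hcard : Nat.card Z = Nat.card S * n) :
    ∃ b, TS p f b (Nat.card S) (Nat.card ↥(Lie.chevF4.group F)) g := by
  obtain ⟨b, hb, -⟩ := Cfsg.Agent.H946.Soc.dt_of_named hp hg hch
  have hT := named_f4 (F := F) tb
  rw [hq] at hT
  have hfin : Finite ↥(Lie.chevF4.group F) := inferInstance
  exact ⟨b, ⟨hp, by omega, Nat.card_pos.ne', hT.cond, rfl, hT.eq⟩, hb,
    (Dvd.intro _ hcard.symm).trans (Subgroup.card_subgroup_dvd_card Z)⟩

theorem mod_pred (hp : p.Prime) {e r : ℕ} (he : 1 ≤ e) (hr : Prim p e r) : e ∣ r - 1 :=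
  Cfsg.Agent.H946.KZ.mod_of_prim hp.two_le he hr

theorem base_lt (hp : p.Prime) {e r : ℕ} (he : 1 ≤ e) (hr : Prim p e r) : e < r :=
  Cfsg.Agent.H946.KZ.lt_of_prim hp.two_le he hr

/-- the small case or characteristic `p` -/
theorem sec' (tb : OrderTable.{0}) (hcyc : CycFixSolv.{0}) (hcf : CF) (hp : p.Prime) (hf : 1 ≤ f)
    (hq : Fintype.card F = p ^ f) (h5 : 5 ≤ p ^ f) {ν : ℕ} (hν : p ^ ν ∣ Nat.gcd 2 p * f)
    (Z : Subgroup ↥(Lie.chevF4.group F)) {c r : ℕ} (hc : c = 12 ∨ c = 8)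
    (hr : Prim p (c * f) r) (hrZ : r ∣ Nat.card Z) :
    Small p f ν c ((Nat.card Z).factorization p) ∨ ∃ (b N n : ℕ) (g : Grp),
      TS p f b N (Nat.card ↥(Lie.chevF4.group F)) g ∧ Nat.card Z = N * n ∧ n.factorization p ≤ sc p c ∧ r ∣ N := by
  have hfin : Finite ↥(Lie.chevF4.group F) := inferInstance
  have hcf1 : 8 ≤ c * f := by
    calc 8 = 8 * 1 := by norm_num
      _ ≤ c * f := Nat.mul_le_mul (by omega) hf
  rcases sec tb hcyc hcf hp hf hq Z hc hr hrZ with h | ⟨S, _, _, n, g, hg, hcard, hn, hrS, hb⟩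
  · left
    have := sm_of_le hp hf h5 hν (v := 0) (by norm_num) (fun _ => by norm_num)
    unfold Small
    omega
  · have hS0 : Nat.card S ≠ 0 := Nat.card_pos.ne'
    have hn0 : n ≠ 0 := by
      rintro rfl
      rw [mul_zero] at hcard
      exact Nat.card_pos.ne' hcard
    have hT := named_f4 (F := F) tb
    rw [hq] at hT
    have hd : Nat.card S ∣ num (.f4 (p ^ f)) :=
      ((Dvd.intro _ hcard.symm).trans (Subgroup.card_subgroup_dvd_card Z)).trans
        (by rw [← hT.eq]; exact Dvd.intro_left _ rfl)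
    rcases cross_small hg hp hf h5 hν hd hc (mod_pred hp (by omega) hr)
      (by have := base_lt hp (by omega) hr; omega) hb hrS with hch | hsm
    · right
      obtain ⟨b, hts⟩ := ts_of (F := F) tb hp hf hq Z hg hch hcard
      exact ⟨b, _, n, g, hts, hcard, hn, hrS⟩
    · left
      unfold Small
      rw [hcard, fac_mul hS0 hn0]
      omega

/-- **class 12** -/
theorem out12 (tb : OrderTable.{0}) (hcyc : CycFixSolv.{0}) (hcf : CF) (hp : p.Prime) (hf : 1 ≤ f)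
    (hq : Fintype.card F = p ^ f) (h5 : 5 ≤ p ^ f) {ν : ℕ} (hν : p ^ ν ∣ Nat.gcd 2 p * f)
    (Z : Subgroup ↥(Lie.chevF4.group F)) {r : ℕ} (hr : Prim p (12 * f) r) (hrZ : r ∣ Nat.card Z) :
    Small p f ν 12 ((Nat.card Z).factorization p) ∨ ((∀ w, Prim p (12 * f) w → w ∣ Nat.card Z) ∧
      (T12 p f ((Nat.card Z).factorization p) (W p (Nat.card Z)) ∨ ∀ w, Prim p (8 * f) w → w ∣ Nat.card Z)) := by
  have hfin : Finite ↥(Lie.chevF4.group F) := inferInstance
  rcases sec' tb hcyc hcf hp hf hq h5 hν Z (Or.inl rfl) hr hrZ with h | ⟨b, N, n, g, H, hcard, hn, hrN⟩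
  · exact Or.inl h
  right
  have hNZ : N ∣ Nat.card Z := Dvd.intro _ hcard.symm
  refine ⟨fun w hw => (H.all (by omega) hr hrN hw).trans hNZ, ?_⟩
  by_cases h8 : Kc g (8 * f / Nat.gcd (8 * f) b)
  · right
    intro w hw
    exact ((H.S.dvd_iff (by omega) hw).2 h8).trans hNZ
  · left
    have hN0 : N ≠ 0 := H.S.hc
    have hn0 : n ≠ 0 := by
      rintro rfl
      rw [mul_zero] at hcard
      exact Nat.card_pos.ne' hcard
    have hW := Nat.le_mul_of_pos_right (W p N) (W_pos (p := p) hn0)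
    have ht := type12 H (H.top12 hr hrN) h8 h5
    unfold T12
    rw [hcard, fac_mul hN0 hn0, W_mul']
    rcases ht with ⟨h1, h2⟩ | ⟨h1, h2⟩
    · left
      constructor <;> omega
    · right
      constructor <;> omega

/-- **class 8** -/
theorem out8 (tb : OrderTable.{0}) (hcyc : CycFixSolv.{0}) (hcf : CF) (hp : p.Prime) (hf : 1 ≤ f)
    (hq : Fintype.card F = p ^ f) (h5 : 5 ≤ p ^ f) {ν : ℕ} (hν : p ^ ν ∣ Nat.gcd 2 p * f)
    (Z : Subgroup ↥(Lie.chevF4.group F)) {r : ℕ} (hr : Prim p (8 * f) r) (hrZ : r ∣ Nat.card Z)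
    (h12 : ∀ w, Prim p (12 * f) w → ¬ w ∣ Nat.card Z) :
    Small p f ν 8 ((Nat.card Z).factorization p) ∨ ((∀ w, Prim p (8 * f) w → w ∣ Nat.card Z) ∧
      T8 p f ((Nat.card Z).factorization p) (W p (Nat.card Z))) := by
  have hfin : Finite ↥(Lie.chevF4.group F) := inferInstance
  rcases sec' tb hcyc hcf hp hf hq h5 hν Z (Or.inr rfl) hr hrZ with h | ⟨b, N, n, g, H, hcard, hn, hrN⟩
  · exact Or.inl h
  right
  have hNZ : N ∣ Nat.card Z := Dvd.intro _ hcard.symm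
  refine ⟨fun w hw => (H.all (by omega) hr hrN hw).trans hNZ, ?_⟩
  have hN0 : N ≠ 0 := H.S.hc
  have hn0 : n ≠ 0 := by
    rintro rfl
    rw [mul_zero] at hcard
    exact Nat.card_pos.ne' hcard
  have hW := Nat.le_mul_of_pos_right (W p N) (W_pos (p := p) hn0)
  have ht := type8 H (H.top8 hr hrN fun w hw hwN => h12 w hw (hwN.trans hNZ)) h5
  unfold T8
  rw [hcard, fac_mul hN0 hn0, W_mul']
  rcases ht with h1 | ⟨h1, h2⟩ | ⟨h1, h2⟩
  · left
    omega
  · right; left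
    constructor <;> omega
  · right; right
    constructor <;> omega

end

end Cfsg.Agent.H946.RgF4
end
end

-- part: H72/Same/Two
section
prune_inst 0x1603044750202000000059213003c06f60005b0002b0001f9e007020f8ebf2380402720fa901f0293ec32a558794048111000d9020000002a003600411e00a080af7a82a77caf043c000f80b887180c00000000000000000000000000041004000000000
set_option linter.all false
open scoped Cfsg.Agent.FastGrp

-- part: H325/Same/ExcCov8
section
/-!
# Simple groups of Lie type in characteristic `p` containing two classes of tori of `E_7(q)`, `E_8(q)` (helper325)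

`E_8`: {24,30}, {20,30}; `E_7`: {14,18}, {9,18} and a prime of class 5, {7,14} and a prime of class 5.
-/

set_option autoImplicit false
set_option linter.unreachableTactic false
set_option linter.unusedTactic false
set_option maxHeartbeats 4000000

namespace Cfsg.Agent.H325.Same

open Cfsg.Agent.OrdDiv Cfsg.Agent.H436 Cfsg.Agent.H915.GN Cfsg.Agent.H264.GN Cfsg.Agent.H264.FKS

variable {p f c : ℕ} {g : Grp}

theorem elimP_e8_24_30 (hg : Cond g) (hch : HasChar p g) {i : ℕ} (hi : i ∈ [2, 8, 12, 14, 18, 20, 24, 30]) (hei : 30 ≤ i)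
    (h2 : ag g * i ≤ 120 * Mg g) (h1 : ∃ x, Xg g x ∧ 24 * Mg g ∣ i * x) (h3 : ∃ x, Xg g x ∧ 30 * Mg g ∣ i * x)
    (hY : ∀ k, (k = 4 ∨ k = 5 ∨ 7 ≤ k) → Yg g k → ∃ j, j ∈ [2, 8, 12, 14, 18, 20, 24, 30] ∧ i * k ∣ Mg g * j) :
    (i = 30 ∧ ∃ q, g = .psl 5 q) ∨ (i = 30 ∧ ∃ q, g = .psp 5 q) ∨ (i = 30 ∧ ∃ q, g = .oodd 5 q) ∨ (i = 30 ∧ ∃ q, g = .oplus 6 q) ∨ (i = 30 ∧ ∃ q, g = .ominus 5 q) ∨ (i = 30 ∧ ∃ q, g = .e8 q) := by
  obtain ⟨x, hx, hxd⟩ := h1
  obtain ⟨y, hy, hyd⟩ := h3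
  have hi2 : i = 30 := by
    simp only [List.mem_cons, List.not_mem_nil, or_false] at hi
    omega
  clear hi hei
  rcases hi2 with rfl
  · have h2' : 2 * ag g ≤ 8 * Mg g := by omega
    clear h2
    cases g
    case psl m q =>
      obtain ⟨hm, -, -⟩ := hg
      have hb := bd_psl (ρ := 8) (by omega) h2'
      have hx' : 1 ≤ x ∧ x ≤ m := hx
      have hy' : 1 ≤ y ∧ y ≤ m := hy
      have hxd' : 24 * m ∣ 30 * x := hxd
      have hyd' : 30 * m ∣ 30 * y := hyd
      clear hx hy hxd hyd h2' hch hY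
      interval_cases m <;> first | omega | exact Or.inl ⟨rfl, q, rfl⟩ | exact Or.inr (Or.inl ⟨rfl, q, rfl⟩) | exact Or.inr (Or.inr (Or.inl ⟨rfl, q, rfl⟩)) | exact Or.inr (Or.inr (Or.inr (Or.inl ⟨rfl, q, rfl⟩))) | exact Or.inr (Or.inr (Or.inr (Or.inr (Or.inl ⟨rfl, q, rfl⟩)))) | exact Or.inr (Or.inr (Or.inr (Or.inr (Or.inr (⟨rfl, q, rfl⟩)))))
    case psp m q =>
      obtain ⟨hm, -, -⟩ := hg
      have hb := bd_psp (ρ := 8) (by omega) h2'
      have hx' : 1 ≤ x ∧ x ≤ 2 * m ∧ 2 ∣ x := hx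
      have hy' : 1 ≤ y ∧ y ≤ 2 * m ∧ 2 ∣ y := hy
      have hxd' : 24 * (2 * m) ∣ 30 * x := hxd
      have hyd' : 30 * (2 * m) ∣ 30 * y := hyd
      clear hx hy hxd hyd h2' hch hY
      interval_cases m <;> first | (solve | (exfalso; omega) | omega) | exact Or.inl ⟨rfl, q, rfl⟩ | exact Or.inr (Or.inl ⟨rfl, q, rfl⟩) | exact Or.inr (Or.inr (Or.inl ⟨rfl, q, rfl⟩)) | exact Or.inr (Or.inr (Or.inr (Or.inl ⟨rfl, q, rfl⟩))) | exact Or.inr (Or.inr (Or.inr (Or.inr (Or.inl ⟨rfl, q, rfl⟩)))) | exact Or.inr (Or.inr (Or.inr (Or.inr (Or.inr (⟨rfl, q, rfl⟩)))))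
    case oodd m q =>
      obtain ⟨hm, -, -⟩ := hg
      have hb := bd_psp (ρ := 8) (by omega) h2'
      have hx' : 1 ≤ x ∧ x ≤ 2 * m ∧ 2 ∣ x := hx
      have hy' : 1 ≤ y ∧ y ≤ 2 * m ∧ 2 ∣ y := hy
      have hxd' : 24 * (2 * m) ∣ 30 * x := hxd
      have hyd' : 30 * (2 * m) ∣ 30 * y := hyd
      clear hx hy hxd hyd h2' hch hY
      interval_cases m <;> first | (clear * - hx' hxd'; (solve | (exfalso; omega))) | exact Or.inl ⟨rfl, q, rfl⟩ | exact Or.inr (Or.inl ⟨rfl, q, rfl⟩) | exact Or.inr (Or.inr (Or.inl ⟨rfl, q, rfl⟩)) | exact Or.inr (Or.inr (Or.inr (Or.inl ⟨rfl, q, rfl⟩))) | exact Or.inr (Or.inr (Or.inr (Or.inr (Or.inl ⟨rfl, q, rfl⟩)))) | exact Or.inr (Or.inr (Or.inr (Or.inr (Or.inr (⟨rfl, q, rfl⟩)))))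
    case psu m q =>
      obtain ⟨hm, -, -⟩ := hg
      have hb := bd_psu (ρ := 8) hm h2'
      have hx' : (1 ≤ x ∧ x ≤ m ∧ 2 ∣ x) ∨ ∃ j, x = 2 * j ∧ j ≤ m ∧ j % 2 = 1 := hx
      have hy' : (1 ≤ y ∧ y ≤ m ∧ 2 ∣ y) ∨ ∃ j, y = 2 * j ∧ j ≤ m ∧ j % 2 = 1 := hy
      obtain ⟨k, hk⟩ : ∃ k, k = (if m % 2 = 0 then m - 1 else m) := ⟨_, rfl⟩
      have hk' : (m % 2 = 0 ∧ k = m - 1) ∨ (m % 2 = 1 ∧ k = m) := by
        rw [hk]
        split_ifs <;> omega
      have hM : Mg (.psu m q) = 2 * k := by rw [hk]; rfl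
      have hxd' : 24 * (2 * k) ∣ 30 * x := hM ▸ hxd
      have hyd' : 30 * (2 * k) ∣ 30 * y := hM ▸ hyd
      clear hx hy hxd hyd h2' hch hY hM hk
      rcases hk' with ⟨hk1, hk2⟩ | ⟨hk1, hk2⟩ <;> rcases hx' with hx' | ⟨j, rfl, hx'⟩ <;>
        rcases hy' with hy' | ⟨l, rfl, hy'⟩ <;> interval_cases m <;> subst hk2 <;> first | (solve | lia | omega) | exact Or.inl ⟨rfl, q, rfl⟩ | exact Or.inr (Or.inl ⟨rfl, q, rfl⟩) | exact Or.inr (Or.inr (Or.inl ⟨rfl, q, rfl⟩)) | exact Or.inr (Or.inr (Or.inr (Or.inl ⟨rfl, q, rfl⟩))) | exact Or.inr (Or.inr (Or.inr (Or.inr (Or.inl ⟨rfl, q, rfl⟩)))) | exact Or.inr (Or.inr (Or.inr (Or.inr (Or.inr (⟨rfl, q, rfl⟩)))))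
    case oplus m q =>
      obtain ⟨hm, -⟩ := hg
      have hb := bd_oplus (ρ := 8) (by omega) h2'
      have hx' : 1 ≤ x ∧ x ≤ 2 * (m - 1) ∧ (2 ∣ x ∨ x = m) := hx
      have hy' : 1 ≤ y ∧ y ≤ 2 * (m - 1) ∧ (2 ∣ y ∨ y = m) := hy
      have hxd' : 24 * (2 * (m - 1)) ∣ 30 * x := hxd
      have hyd' : 30 * (2 * (m - 1)) ∣ 30 * y := hyd
      clear hx hy hxd hyd h2' hch hY
      interval_cases m <;> first | omega | exact Or.inl ⟨rfl, q, rfl⟩ | exact Or.inr (Or.inl ⟨rfl, q, rfl⟩) | exact Or.inr (Or.inr (Or.inl ⟨rfl, q, rfl⟩)) | exact Or.inr (Or.inr (Or.inr (Or.inl ⟨rfl, q, rfl⟩))) | exact Or.inr (Or.inr (Or.inr (Or.inr (Or.inl ⟨rfl, q, rfl⟩)))) | exact Or.inr (Or.inr (Or.inr (Or.inr (Or.inr (⟨rfl, q, rfl⟩)))))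
    case ominus m q =>
      obtain ⟨hm, -⟩ := hg
      have hb := bd_ominus (ρ := 8) (by omega) h2'
      have hx' : 1 ≤ x ∧ x ≤ 2 * m ∧ 2 ∣ x := hx
      have hy' : 1 ≤ y ∧ y ≤ 2 * m ∧ 2 ∣ y := hy
      have hxd' : 24 * (2 * m) ∣ 30 * x := hxd
      have hyd' : 30 * (2 * m) ∣ 30 * y := hyd
      clear hx hy hxd hyd h2' hch hY
      interval_cases m <;> first | (clear * - hx' hxd'; omega) | exact Or.inl ⟨rfl, q, rfl⟩ | exact Or.inr (Or.inl ⟨rfl, q, rfl⟩) | exact Or.inr (Or.inr (Or.inl ⟨rfl, q, rfl⟩)) | exact Or.inr (Or.inr (Or.inr (Or.inl ⟨rfl, q, rfl⟩))) | exact Or.inr (Or.inr (Or.inr (Or.inr (Or.inl ⟨rfl, q, rfl⟩)))) | exact Or.inr (Or.inr (Or.inr (Or.inr (Or.inr (⟨rfl, q, rfl⟩)))))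
    case g2 q =>
      have hx' : x ∈ [2, 6] := hx
      have hy' : y ∈ [2, 6] := hy
      have hxd' : 24 * 6 ∣ 30 * x := hxd
      have hyd' : 30 * 6 ∣ 30 * y := hyd
      have h4 : 2 * 6 ≤ 8 * 6 := h2'
      simp only [List.mem_cons, List.not_mem_nil, or_false] at hx' hy'
      clear hx hy hxd hyd h2' hch hY
      first | (clear * - hxd' hx'; omega) | exact Or.inl ⟨rfl, q, rfl⟩ | exact Or.inr (Or.inl ⟨rfl, q, rfl⟩) | exact Or.inr (Or.inr (Or.inl ⟨rfl, q, rfl⟩)) | exact Or.inr (Or.inr (Or.inr (Or.inl ⟨rfl, q, rfl⟩))) | exact Or.inr (Or.inr (Or.inr (Or.inr (Or.inl ⟨rfl, q, rfl⟩)))) | exact Or.inr (Or.inr (Or.inr (Or.inr (Or.inr (⟨rfl, q, rfl⟩)))))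
    case f4 q =>
      have hx' : x ∈ [2, 6, 8, 12] := hx
      have hy' : y ∈ [2, 6, 8, 12] := hy
      have hxd' : 24 * 12 ∣ 30 * x := hxd
      have hyd' : 30 * 12 ∣ 30 * y := hyd
      have h4 : 2 * 24 ≤ 8 * 12 := h2'
      simp only [List.mem_cons, List.not_mem_nil, or_false] at hx' hy'
      clear hx hy hxd hyd h2' hch hY
      first | (solve | lia | omega) | exact Or.inl ⟨rfl, q, rfl⟩ | exact Or.inr (Or.inl ⟨rfl, q, rfl⟩) | exact Or.inr (Or.inr (Or.inl ⟨rfl, q, rfl⟩)) | exact Or.inr (Or.inr (Or.inr (Or.inl ⟨rfl, q, rfl⟩))) | exact Or.inr (Or.inr (Or.inr (Or.inr (Or.inl ⟨rfl, q, rfl⟩)))) | exact Or.inr (Or.inr (Or.inr (Or.inr (Or.inr (⟨rfl, q, rfl⟩)))))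
    case e6 q =>
      have hx' : x ∈ [2, 5, 6, 8, 9, 12] := hx
      have hy' : y ∈ [2, 5, 6, 8, 9, 12] := hy
      have hxd' : 24 * 12 ∣ 30 * x := hxd
      have hyd' : 30 * 12 ∣ 30 * y := hyd
      have h4 : 2 * 36 ≤ 8 * 12 := h2'
      simp only [List.mem_cons, List.not_mem_nil, or_false] at hx' hy'
      clear hx hy hxd hyd h2' hch hY
      first | (clear * - hxd' hyd' hx'; solve | lia | omega) | exact Or.inl ⟨rfl, q, rfl⟩ | exact Or.inr (Or.inl ⟨rfl, q, rfl⟩) | exact Or.inr (Or.inr (Or.inl ⟨rfl, q, rfl⟩)) | exact Or.inr (Or.inr (Or.inr (Or.inl ⟨rfl, q, rfl⟩))) | exact Or.inr (Or.inr (Or.inr (Or.inr (Or.inl ⟨rfl, q, rfl⟩)))) | exact Or.inr (Or.inr (Or.inr (Or.inr (Or.inr (⟨rfl, q, rfl⟩)))))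
    case e7 q =>
      have hx' : x ∈ [2, 6, 8, 10, 12, 14, 18] := hx
      have hy' : y ∈ [2, 6, 8, 10, 12, 14, 18] := hy
      have hxd' : 24 * 18 ∣ 30 * x := hxd
      have hyd' : 30 * 18 ∣ 30 * y := hyd
      have h4 : 2 * 63 ≤ 8 * 18 := h2'
      simp only [List.mem_cons, List.not_mem_nil, or_false] at hx' hy'
      clear hx hy hxd hyd h2' hch hY
      first | (clear * - hxd' hyd' hx'; (solve | lia | omega)) | exact Or.inl ⟨rfl, q, rfl⟩ | exact Or.inr (Or.inl ⟨rfl, q, rfl⟩) | exact Or.inr (Or.inr (Or.inl ⟨rfl, q, rfl⟩)) | exact Or.inr (Or.inr (Or.inr (Or.inl ⟨rfl, q, rfl⟩))) | exact Or.inr (Or.inr (Or.inr (Or.inr (Or.inl ⟨rfl, q, rfl⟩)))) | exact Or.inr (Or.inr (Or.inr (Or.inr (Or.inr (⟨rfl, q, rfl⟩)))))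
    case e8 q =>
      have hx' : x ∈ [2, 8, 12, 14, 18, 20, 24, 30] := hx
      have hy' : y ∈ [2, 8, 12, 14, 18, 20, 24, 30] := hy
      have hxd' : 24 * 30 ∣ 30 * x := hxd
      have hyd' : 30 * 30 ∣ 30 * y := hyd
      have h4 : 2 * 120 ≤ 8 * 30 := h2'
      simp only [List.mem_cons, List.not_mem_nil, or_false] at hx' hy'
      clear hx hy hxd hyd h2' hch hY
      first | fail | exact Or.inl ⟨rfl, q, rfl⟩ | exact Or.inr (Or.inl ⟨rfl, q, rfl⟩) | exact Or.inr (Or.inr (Or.inl ⟨rfl, q, rfl⟩)) | exact Or.inr (Or.inr (Or.inr (Or.inl ⟨rfl, q, rfl⟩))) | exact Or.inr (Or.inr (Or.inr (Or.inr (Or.inl ⟨rfl, q, rfl⟩)))) | exact Or.inr (Or.inr (Or.inr (Or.inr (Or.inr (⟨rfl, q, rfl⟩)))))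
    case te6 q =>
      have hx' : x ∈ [2, 10, 6, 8, 18, 12] := hx
      have hy' : y ∈ [2, 10, 6, 8, 18, 12] := hy
      have hxd' : 24 * 18 ∣ 30 * x := hxd
      have hyd' : 30 * 18 ∣ 30 * y := hyd
      have h4 : 2 * 36 ≤ 8 * 18 := h2'
      simp only [List.mem_cons, List.not_mem_nil, or_false] at hx' hy'
      clear hx hy hxd hyd h2' hch hY
      first | (solve | lia | omega) | exact Or.inl ⟨rfl, q, rfl⟩ | exact Or.inr (Or.inl ⟨rfl, q, rfl⟩) | exact Or.inr (Or.inr (Or.inl ⟨rfl, q, rfl⟩)) | exact Or.inr (Or.inr (Or.inr (Or.inl ⟨rfl, q, rfl⟩))) | exact Or.inr (Or.inr (Or.inr (Or.inr (Or.inl ⟨rfl, q, rfl⟩)))) | exact Or.inr (Or.inr (Or.inr (Or.inr (Or.inr (⟨rfl, q, rfl⟩)))))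
    case td4 q =>
      have hx' : x ∈ [2, 6, 12] := hx
      have hy' : y ∈ [2, 6, 12] := hy
      have hxd' : 24 * 12 ∣ 30 * x := hxd
      have hyd' : 30 * 12 ∣ 30 * y := hyd
      have h4 : 2 * 12 ≤ 8 * 12 := h2'
      simp only [List.mem_cons, List.not_mem_nil, or_false] at hx' hy'
      clear hx hy hxd hyd h2' hch hY
      first | (solve | lia | omega) | exact Or.inl ⟨rfl, q, rfl⟩ | exact Or.inr (Or.inl ⟨rfl, q, rfl⟩) | exact Or.inr (Or.inr (Or.inl ⟨rfl, q, rfl⟩)) | exact Or.inr (Or.inr (Or.inr (Or.inl ⟨rfl, q, rfl⟩))) | exact Or.inr (Or.inr (Or.inr (Or.inr (Or.inl ⟨rfl, q, rfl⟩)))) | exact Or.inr (Or.inr (Or.inr (Or.inr (Or.inr (⟨rfl, q, rfl⟩)))))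
    case sz q =>
      have hx' : x ∈ [1, 4] := hx
      have hy' : y ∈ [1, 4] := hy
      have hxd' : 24 * 4 ∣ 30 * x := hxd
      have hyd' : 30 * 4 ∣ 30 * y := hyd
      have h4 : 2 * 2 ≤ 8 * 4 := h2'
      simp only [List.mem_cons, List.not_mem_nil, or_false] at hx' hy'
      clear hx hy hxd hyd h2' hch hY
      first | (clear * - hxd' hx'; omega) | exact Or.inl ⟨rfl, q, rfl⟩ | exact Or.inr (Or.inl ⟨rfl, q, rfl⟩) | exact Or.inr (Or.inr (Or.inl ⟨rfl, q, rfl⟩)) | exact Or.inr (Or.inr (Or.inr (Or.inl ⟨rfl, q, rfl⟩))) | exact Or.inr (Or.inr (Or.inr (Or.inr (Or.inl ⟨rfl, q, rfl⟩)))) | exact Or.inr (Or.inr (Or.inr (Or.inr (Or.inr (⟨rfl, q, rfl⟩)))))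
    case ree q =>
      have hx' : x ∈ [1, 6] := hx
      have hy' : y ∈ [1, 6] := hy
      have hxd' : 24 * 6 ∣ 30 * x := hxd
      have hyd' : 30 * 6 ∣ 30 * y := hyd
      have h4 : 2 * 3 ≤ 8 * 6 := h2'
      simp only [List.mem_cons, List.not_mem_nil, or_false] at hx' hy'
      clear hx hy hxd hyd h2' hch hY
      first | (clear * - hxd' hx'; omega) | exact Or.inl ⟨rfl, q, rfl⟩ | exact Or.inr (Or.inl ⟨rfl, q, rfl⟩) | exact Or.inr (Or.inr (Or.inl ⟨rfl, q, rfl⟩)) | exact Or.inr (Or.inr (Or.inr (Or.inl ⟨rfl, q, rfl⟩))) | exact Or.inr (Or.inr (Or.inr (Or.inr (Or.inl ⟨rfl, q, rfl⟩)))) | exact Or.inr (Or.inr (Or.inr (Or.inr (Or.inr (⟨rfl, q, rfl⟩)))))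
    case tf4 q =>
      have hx' : x ∈ [1, 6, 4, 12] := hx
      have hy' : y ∈ [1, 6, 4, 12] := hy
      have hxd' : 24 * 12 ∣ 30 * x := hxd
      have hyd' : 30 * 12 ∣ 30 * y := hyd
      have h4 : 2 * 12 ≤ 8 * 12 := h2'
      simp only [List.mem_cons, List.not_mem_nil, or_false] at hx' hy'
      clear hx hy hxd hyd h2' hch hY
      first | (solve | lia | omega) | exact Or.inl ⟨rfl, q, rfl⟩ | exact Or.inr (Or.inl ⟨rfl, q, rfl⟩) | exact Or.inr (Or.inr (Or.inl ⟨rfl, q, rfl⟩)) | exact Or.inr (Or.inr (Or.inr (Or.inl ⟨rfl, q, rfl⟩))) | exact Or.inr (Or.inr (Or.inr (Or.inr (Or.inl ⟨rfl, q, rfl⟩)))) | exact Or.inr (Or.inr (Or.inr (Or.inr (Or.inr (⟨rfl, q, rfl⟩)))))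
    all_goals exact absurd hch not_false

theorem elimP_e8_20_30 (hg : Cond g) (hch : HasChar p g) {i : ℕ} (hi : i ∈ [2, 8, 12, 14, 18, 20, 24, 30]) (hei : 30 ≤ i)
    (h2 : ag g * i ≤ 120 * Mg g) (h1 : ∃ x, Xg g x ∧ 20 * Mg g ∣ i * x) (h3 : ∃ x, Xg g x ∧ 30 * Mg g ∣ i * x)
    (hY : ∀ k, (k = 4 ∨ k = 5 ∨ 7 ≤ k) → Yg g k → ∃ j, j ∈ [2, 8, 12, 14, 18, 20, 24, 30] ∧ i * k ∣ Mg g * j) :
    (i = 30 ∧ ∃ q, g = .psl 3 q) ∨ (i = 30 ∧ ∃ q, g = .psp 3 q) ∨ (i = 30 ∧ ∃ q, g = .oodd 3 q) ∨ (i = 30 ∧ ∃ q, g = .psu 4 q) ∨ (i = 30 ∧ ∃ q, g = .oplus 4 q) ∨ (i = 30 ∧ ∃ q, g = .f4 q) ∨ (i = 30 ∧ ∃ q, g = .e8 q) := by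
  obtain ⟨x, hx, hxd⟩ := h1
  obtain ⟨y, hy, hyd⟩ := h3
  have hi2 : i = 30 := by
    simp only [List.mem_cons, List.not_mem_nil, or_false] at hi
    omega
  clear hi hei
  rcases hi2 with rfl
  · have h2' : 2 * ag g ≤ 8 * Mg g := by omega
    clear h2
    cases g
    case psl m q =>
      obtain ⟨hm, -, -⟩ := hg
      have hb := bd_psl (ρ := 8) (by omega) h2'
      have hx' : 1 ≤ x ∧ x ≤ m := hx
      have hy' : 1 ≤ y ∧ y ≤ m := hy
      have hxd' : 20 * m ∣ 30 * x := hxd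
      have hyd' : 30 * m ∣ 30 * y := hyd
      have hY5 : 5 ≤ m → 150 ∣ m * 2 ∨ 150 ∣ m * 8 ∨ 150 ∣ m * 12 ∨ 150 ∣ m * 14 ∨ 150 ∣ m * 18 ∨ 150 ∣ m * 20 ∨ 150 ∣ m * 24 ∨ 150 ∣ m * 30 := by
        intro h
        obtain ⟨j, hj, hjd⟩ := hY 5 (by norm_num) (show 2 ≤ 5 ∧ 5 ≤ m from ⟨by norm_num, h⟩)
        have hjd' : 30 * 5 ∣ m * j := hjd
        simp only [List.mem_cons, List.not_mem_nil, or_false] at hj
        norm_num only at hjd'
        rcases hj with rfl | rfl | rfl | rfl | rfl | rfl | rfl | rfl <;> simp only [hjd', true_or, or_true]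
      clear hx hy hxd hyd h2' hch hY
      interval_cases m <;> first | omega | exact Or.inl ⟨rfl, q, rfl⟩ | exact Or.inr (Or.inl ⟨rfl, q, rfl⟩) | exact Or.inr (Or.inr (Or.inl ⟨rfl, q, rfl⟩)) | exact Or.inr (Or.inr (Or.inr (Or.inl ⟨rfl, q, rfl⟩))) | exact Or.inr (Or.inr (Or.inr (Or.inr (Or.inl ⟨rfl, q, rfl⟩)))) | exact Or.inr (Or.inr (Or.inr (Or.inr (Or.inr (Or.inl ⟨rfl, q, rfl⟩))))) | exact Or.inr (Or.inr (Or.inr (Or.inr (Or.inr (Or.inr (⟨rfl, q, rfl⟩))))))
    case psp m q =>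
      obtain ⟨hm, -, -⟩ := hg
      have hb := bd_psp (ρ := 8) (by omega) h2'
      have hx' : 1 ≤ x ∧ x ≤ 2 * m ∧ 2 ∣ x := hx
      have hy' : 1 ≤ y ∧ y ≤ 2 * m ∧ 2 ∣ y := hy
      have hxd' : 20 * (2 * m) ∣ 30 * x := hxd
      have hyd' : 30 * (2 * m) ∣ 30 * y := hyd
      have hY10 : 10 ≤ 2 * m → 300 ∣ (2 * m) * 2 ∨ 300 ∣ (2 * m) * 8 ∨ 300 ∣ (2 * m) * 12 ∨ 300 ∣ (2 * m) * 14 ∨ 300 ∣ (2 * m) * 18 ∨ 300 ∣ (2 * m) * 20 ∨ 300 ∣ (2 * m) * 24 ∨ 300 ∣ (2 * m) * 30 := by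
        intro h
        obtain ⟨j, hj, hjd⟩ := hY 10 (by norm_num) (show 1 ≤ 10 ∧ 10 ≤ 2 * m ∧ 2 ∣ 10 from ⟨by norm_num, h, by norm_num⟩)
        have hjd' : 30 * 10 ∣ (2 * m) * j := hjd
        simp only [List.mem_cons, List.not_mem_nil, or_false] at hj
        norm_num only at hjd'
        rcases hj with rfl | rfl | rfl | rfl | rfl | rfl | rfl | rfl <;> simp only [hjd', true_or, or_true]
      clear hx hy hxd hyd h2' hch hY
      interval_cases m <;> first | omega | exact Or.inl ⟨rfl, q, rfl⟩ | exact Or.inr (Or.inl ⟨rfl, q, rfl⟩) | exact Or.inr (Or.inr (Or.inl ⟨rfl, q, rfl⟩)) | exact Or.inr (Or.inr (Or.inr (Or.inl ⟨rfl, q, rfl⟩))) | exact Or.inr (Or.inr (Or.inr (Or.inr (Or.inl ⟨rfl, q, rfl⟩)))) | exact Or.inr (Or.inr (Or.inr (Or.inr (Or.inr (Or.inl ⟨rfl, q, rfl⟩))))) | exact Or.inr (Or.inr (Or.inr (Or.inr (Or.inr (Or.inr (⟨rfl, q, rfl⟩))))))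
    case oodd m q =>
      obtain ⟨hm, -, -⟩ := hg
      have hb := bd_psp (ρ := 8) (by omega) h2'
      have hx' : 1 ≤ x ∧ x ≤ 2 * m ∧ 2 ∣ x := hx
      have hy' : 1 ≤ y ∧ y ≤ 2 * m ∧ 2 ∣ y := hy
      have hxd' : 20 * (2 * m) ∣ 30 * x := hxd
      have hyd' : 30 * (2 * m) ∣ 30 * y := hyd
      have hY10 : 10 ≤ 2 * m → 300 ∣ (2 * m) * 2 ∨ 300 ∣ (2 * m) * 8 ∨ 300 ∣ (2 * m) * 12 ∨ 300 ∣ (2 * m) * 14 ∨ 300 ∣ (2 * m) * 18 ∨ 300 ∣ (2 * m) * 20 ∨ 300 ∣ (2 * m) * 24 ∨ 300 ∣ (2 * m) * 30 := by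
        intro h
        obtain ⟨j, hj, hjd⟩ := hY 10 (by norm_num) (show 1 ≤ 10 ∧ 10 ≤ 2 * m ∧ 2 ∣ 10 from ⟨by norm_num, h, by norm_num⟩)
        have hjd' : 30 * 10 ∣ (2 * m) * j := hjd
        simp only [List.mem_cons, List.not_mem_nil, or_false] at hj
        norm_num only at hjd'
        rcases hj with rfl | rfl | rfl | rfl | rfl | rfl | rfl | rfl <;> simp only [hjd', true_or, or_true]
      clear hx hy hxd hyd h2' hch hY
      interval_cases m <;> first | (clear * - hx' hxd' hY10; omega) | exact Or.inl ⟨rfl, q, rfl⟩ | exact Or.inr (Or.inl ⟨rfl, q, rfl⟩) | exact Or.inr (Or.inr (Or.inl ⟨rfl, q, rfl⟩)) | exact Or.inr (Or.inr (Or.inr (Or.inl ⟨rfl, q, rfl⟩))) | exact Or.inr (Or.inr (Or.inr (Or.inr (Or.inl ⟨rfl, q, rfl⟩)))) | exact Or.inr (Or.inr (Or.inr (Or.inr (Or.inr (Or.inl ⟨rfl, q, rfl⟩))))) | exact Or.inr (Or.inr (Or.inr (Or.inr (Or.inr (Or.inr (⟨rfl, q, rfl⟩))))))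
    case psu m q =>
      obtain ⟨hm, -, -⟩ := hg
      have hb := bd_psu (ρ := 8) hm h2'
      have hx' : (1 ≤ x ∧ x ≤ m ∧ 2 ∣ x) ∨ ∃ j, x = 2 * j ∧ j ≤ m ∧ j % 2 = 1 := hx
      have hy' : (1 ≤ y ∧ y ≤ m ∧ 2 ∣ y) ∨ ∃ j, y = 2 * j ∧ j ≤ m ∧ j % 2 = 1 := hy
      obtain ⟨k, hk⟩ : ∃ k, k = (if m % 2 = 0 then m - 1 else m) := ⟨_, rfl⟩
      have hk' : (m % 2 = 0 ∧ k = m - 1) ∨ (m % 2 = 1 ∧ k = m) := by
        rw [hk]
        split_ifs <;> omega
      have hM : Mg (.psu m q) = 2 * k := by rw [hk]; rfl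
      have hxd' : 20 * (2 * k) ∣ 30 * x := hM ▸ hxd
      have hyd' : 30 * (2 * k) ∣ 30 * y := hM ▸ hyd
      clear hx hy hxd hyd h2' hch hY hM hk
      rcases hk' with ⟨hk1, hk2⟩ | ⟨hk1, hk2⟩ <;> rcases hx' with hx' | ⟨j, rfl, hx'⟩ <;>
        rcases hy' with hy' | ⟨l, rfl, hy'⟩ <;> interval_cases m <;> subst hk2 <;> first | omega | exact Or.inl ⟨rfl, q, rfl⟩ | exact Or.inr (Or.inl ⟨rfl, q, rfl⟩) | exact Or.inr (Or.inr (Or.inl ⟨rfl, q, rfl⟩)) | exact Or.inr (Or.inr (Or.inr (Or.inl ⟨rfl, q, rfl⟩))) | exact Or.inr (Or.inr (Or.inr (Or.inr (Or.inl ⟨rfl, q, rfl⟩)))) | exact Or.inr (Or.inr (Or.inr (Or.inr (Or.inr (Or.inl ⟨rfl, q, rfl⟩))))) | exact Or.inr (Or.inr (Or.inr (Or.inr (Or.inr (Or.inr (⟨rfl, q, rfl⟩))))))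
    case oplus m q =>
      obtain ⟨hm, -⟩ := hg
      have hb := bd_oplus (ρ := 8) (by omega) h2'
      have hx' : 1 ≤ x ∧ x ≤ 2 * (m - 1) ∧ (2 ∣ x ∨ x = m) := hx
      have hy' : 1 ≤ y ∧ y ≤ 2 * (m - 1) ∧ (2 ∣ y ∨ y = m) := hy
      have hxd' : 20 * (2 * (m - 1)) ∣ 30 * x := hxd
      have hyd' : 30 * (2 * (m - 1)) ∣ 30 * y := hyd
      have hY10 : 10 ≤ 2 * (m - 1) → 300 ∣ (2 * (m - 1)) * 2 ∨ 300 ∣ (2 * (m - 1)) * 8 ∨ 300 ∣ (2 * (m - 1)) * 12 ∨ 300 ∣ (2 * (m - 1)) * 14 ∨ 300 ∣ (2 * (m - 1)) * 18 ∨ 300 ∣ (2 * (m - 1)) * 20 ∨ 300 ∣ (2 * (m - 1)) * 24 ∨ 300 ∣ (2 * (m - 1)) * 30 := by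
        intro h
        obtain ⟨j, hj, hjd⟩ := hY 10 (by norm_num) (show 4 ≤ 10 ∧ 10 ≤ 2 * (m - 1) ∧ 2 ∣ 10 from ⟨by norm_num, h, by norm_num⟩)
        have hjd' : 30 * 10 ∣ (2 * (m - 1)) * j := hjd
        simp only [List.mem_cons, List.not_mem_nil, or_false] at hj
        norm_num only at hjd'
        rcases hj with rfl | rfl | rfl | rfl | rfl | rfl | rfl | rfl <;> simp only [hjd', true_or, or_true]
      clear hx hy hxd hyd h2' hch hY
      interval_cases m <;> first | omega | exact Or.inl ⟨rfl, q, rfl⟩ | exact Or.inr (Or.inl ⟨rfl, q, rfl⟩) | exact Or.inr (Or.inr (Or.inl ⟨rfl, q, rfl⟩)) | exact Or.inr (Or.inr (Or.inr (Or.inl ⟨rfl, q, rfl⟩))) | exact Or.inr (Or.inr (Or.inr (Or.inr (Or.inl ⟨rfl, q, rfl⟩)))) | exact Or.inr (Or.inr (Or.inr (Or.inr (Or.inr (Or.inl ⟨rfl, q, rfl⟩))))) | exact Or.inr (Or.inr (Or.inr (Or.inr (Or.inr (Or.inr (⟨rfl, q, rfl⟩))))))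
    case ominus m q =>
      obtain ⟨hm, -⟩ := hg
      have hb := bd_ominus (ρ := 8) (by omega) h2'
      have hx' : 1 ≤ x ∧ x ≤ 2 * m ∧ 2 ∣ x := hx
      have hy' : 1 ≤ y ∧ y ≤ 2 * m ∧ 2 ∣ y := hy
      have hxd' : 20 * (2 * m) ∣ 30 * x := hxd
      have hyd' : 30 * (2 * m) ∣ 30 * y := hyd
      have hY10 : 10 ≤ 2 * m → 300 ∣ (2 * m) * 2 ∨ 300 ∣ (2 * m) * 8 ∨ 300 ∣ (2 * m) * 12 ∨ 300 ∣ (2 * m) * 14 ∨ 300 ∣ (2 * m) * 18 ∨ 300 ∣ (2 * m) * 20 ∨ 300 ∣ (2 * m) * 24 ∨ 300 ∣ (2 * m) * 30 := by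
        intro h
        obtain ⟨j, hj, hjd⟩ := hY 10 (by norm_num) (show 4 ≤ 10 ∧ 10 ≤ 2 * m ∧ 2 ∣ 10 from ⟨by norm_num, h, by norm_num⟩)
        have hjd' : 30 * 10 ∣ (2 * m) * j := hjd
        simp only [List.mem_cons, List.not_mem_nil, or_false] at hj
        norm_num only at hjd'
        rcases hj with rfl | rfl | rfl | rfl | rfl | rfl | rfl | rfl <;> simp only [hjd', true_or, or_true]
      clear hx hy hxd hyd h2' hch hY
      interval_cases m <;> first | (clear * - hx' hxd' hY10; (solve | lia | omega)) | exact Or.inl ⟨rfl, q, rfl⟩ | exact Or.inr (Or.inl ⟨rfl, q, rfl⟩) | exact Or.inr (Or.inr (Or.inl ⟨rfl, q, rfl⟩)) | exact Or.inr (Or.inr (Or.inr (Or.inl ⟨rfl, q, rfl⟩))) | exact Or.inr (Or.inr (Or.inr (Or.inr (Or.inl ⟨rfl, q, rfl⟩)))) | exact Or.inr (Or.inr (Or.inr (Or.inr (Or.inr (Or.inl ⟨rfl, q, rfl⟩))))) | exact Or.inr (Or.inr (Or.inr (Or.inr (Or.inr (Or.inr (⟨rfl, q, rfl⟩))))))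
    case g2 q =>
      have hx' : x ∈ [2, 6] := hx
      have hy' : y ∈ [2, 6] := hy
      have hxd' : 20 * 6 ∣ 30 * x := hxd
      have hyd' : 30 * 6 ∣ 30 * y := hyd
      have h4 : 2 * 6 ≤ 8 * 6 := h2'
      simp only [List.mem_cons, List.not_mem_nil, or_false] at hx' hy'
      clear hx hy hxd hyd h2' hch hY
      first | (clear * - hxd' hx' hy'; omega) | exact Or.inl ⟨rfl, q, rfl⟩ | exact Or.inr (Or.inl ⟨rfl, q, rfl⟩) | exact Or.inr (Or.inr (Or.inl ⟨rfl, q, rfl⟩)) | exact Or.inr (Or.inr (Or.inr (Or.inl ⟨rfl, q, rfl⟩))) | exact Or.inr (Or.inr (Or.inr (Or.inr (Or.inl ⟨rfl, q, rfl⟩)))) | exact Or.inr (Or.inr (Or.inr (Or.inr (Or.inr (Or.inl ⟨rfl, q, rfl⟩))))) | exact Or.inr (Or.inr (Or.inr (Or.inr (Or.inr (Or.inr (⟨rfl, q, rfl⟩))))))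
    case f4 q =>
      have hx' : x ∈ [2, 6, 8, 12] := hx
      have hy' : y ∈ [2, 6, 8, 12] := hy
      have hxd' : 20 * 12 ∣ 30 * x := hxd
      have hyd' : 30 * 12 ∣ 30 * y := hyd
      have h4 : 2 * 24 ≤ 8 * 12 := h2'
      simp only [List.mem_cons, List.not_mem_nil, or_false] at hx' hy'
      clear hx hy hxd hyd h2' hch hY
      first | fail | exact Or.inl ⟨rfl, q, rfl⟩ | exact Or.inr (Or.inl ⟨rfl, q, rfl⟩) | exact Or.inr (Or.inr (Or.inl ⟨rfl, q, rfl⟩)) | exact Or.inr (Or.inr (Or.inr (Or.inl ⟨rfl, q, rfl⟩))) | exact Or.inr (Or.inr (Or.inr (Or.inr (Or.inl ⟨rfl, q, rfl⟩)))) | exact Or.inr (Or.inr (Or.inr (Or.inr (Or.inr (Or.inl ⟨rfl, q, rfl⟩))))) | exact Or.inr (Or.inr (Or.inr (Or.inr (Or.inr (Or.inr (⟨rfl, q, rfl⟩))))))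
    case e6 q =>
      have hx' : x ∈ [2, 5, 6, 8, 9, 12] := hx
      have hy' : y ∈ [2, 5, 6, 8, 9, 12] := hy
      have hxd' : 20 * 12 ∣ 30 * x := hxd
      have hyd' : 30 * 12 ∣ 30 * y := hyd
      have h4 : 2 * 36 ≤ 8 * 12 := h2'
      obtain ⟨j, hj, hjd⟩ := hY 9 (by norm_num) (show 9 ∈ [2, 3, 4, 5, 6, 8, 9, 12] by decide)
      have hjd' : 30 * 9 ∣ 12 * j := hjd
      simp only [List.mem_cons, List.not_mem_nil, or_false] at hj
      simp only [List.mem_cons, List.not_mem_nil, or_false] at hx' hy'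
      clear hx hy hxd hyd h2' hch hY
      first | (clear * - hxd' hyd' hjd' hj; solve | lia | omega) | exact Or.inl ⟨rfl, q, rfl⟩ | exact Or.inr (Or.inl ⟨rfl, q, rfl⟩) | exact Or.inr (Or.inr (Or.inl ⟨rfl, q, rfl⟩)) | exact Or.inr (Or.inr (Or.inr (Or.inl ⟨rfl, q, rfl⟩))) | exact Or.inr (Or.inr (Or.inr (Or.inr (Or.inl ⟨rfl, q, rfl⟩)))) | exact Or.inr (Or.inr (Or.inr (Or.inr (Or.inr (Or.inl ⟨rfl, q, rfl⟩))))) | exact Or.inr (Or.inr (Or.inr (Or.inr (Or.inr (Or.inr (⟨rfl, q, rfl⟩))))))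
    case e7 q =>
      have hx' : x ∈ [2, 6, 8, 10, 12, 14, 18] := hx
      have hy' : y ∈ [2, 6, 8, 10, 12, 14, 18] := hy
      have hxd' : 20 * 18 ∣ 30 * x := hxd
      have hyd' : 30 * 18 ∣ 30 * y := hyd
      have h4 : 2 * 63 ≤ 8 * 18 := h2'
      obtain ⟨j, hj, hjd⟩ := hY 7 (by norm_num) (show 7 ∈ [2, 3, 4, 5, 6, 7, 8, 9, 10, 12, 14, 18] by decide)
      have hjd' : 30 * 7 ∣ 18 * j := hjd
      simp only [List.mem_cons, List.not_mem_nil, or_false] at hj
      simp only [List.mem_cons, List.not_mem_nil, or_false] at hx' hy'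
      clear hx hy hxd hyd h2' hch hY
      first | (clear * - hxd' hyd' hjd' hj; (solve | lia | omega)) | exact Or.inl ⟨rfl, q, rfl⟩ | exact Or.inr (Or.inl ⟨rfl, q, rfl⟩) | exact Or.inr (Or.inr (Or.inl ⟨rfl, q, rfl⟩)) | exact Or.inr (Or.inr (Or.inr (Or.inl ⟨rfl, q, rfl⟩))) | exact Or.inr (Or.inr (Or.inr (Or.inr (Or.inl ⟨rfl, q, rfl⟩)))) | exact Or.inr (Or.inr (Or.inr (Or.inr (Or.inr (Or.inl ⟨rfl, q, rfl⟩))))) | exact Or.inr (Or.inr (Or.inr (Or.inr (Or.inr (Or.inr (⟨rfl, q, rfl⟩))))))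
    case e8 q =>
      have hx' : x ∈ [2, 8, 12, 14, 18, 20, 24, 30] := hx
      have hy' : y ∈ [2, 8, 12, 14, 18, 20, 24, 30] := hy
      have hxd' : 20 * 30 ∣ 30 * x := hxd
      have hyd' : 30 * 30 ∣ 30 * y := hyd
      have h4 : 2 * 120 ≤ 8 * 30 := h2'
      simp only [List.mem_cons, List.not_mem_nil, or_false] at hx' hy'
      clear hx hy hxd hyd h2' hch hY
      first | fail | exact Or.inl ⟨rfl, q, rfl⟩ | exact Or.inr (Or.inl ⟨rfl, q, rfl⟩) | exact Or.inr (Or.inr (Or.inl ⟨rfl, q, rfl⟩)) | exact Or.inr (Or.inr (Or.inr (Or.inl ⟨rfl, q, rfl⟩))) | exact Or.inr (Or.inr (Or.inr (Or.inr (Or.inl ⟨rfl, q, rfl⟩)))) | exact Or.inr (Or.inr (Or.inr (Or.inr (Or.inr (Or.inl ⟨rfl, q, rfl⟩))))) | exact Or.inr (Or.inr (Or.inr (Or.inr (Or.inr (Or.inr (⟨rfl, q, rfl⟩))))))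
    case te6 q =>
      have hx' : x ∈ [2, 10, 6, 8, 18, 12] := hx
      have hy' : y ∈ [2, 10, 6, 8, 18, 12] := hy
      have hxd' : 20 * 18 ∣ 30 * x := hxd
      have hyd' : 30 * 18 ∣ 30 * y := hyd
      have h4 : 2 * 36 ≤ 8 * 18 := h2'
      obtain ⟨j, hj, hjd⟩ := hY 8 (by norm_num) (show 8 ∈ [2, 3, 4, 6, 8, 10, 12, 18] by decide)
      have hjd' : 30 * 8 ∣ 18 * j := hjd
      simp only [List.mem_cons, List.not_mem_nil, or_false] at hj
      simp only [List.mem_cons, List.not_mem_nil, or_false] at hx' hy'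
      clear hx hy hxd hyd h2' hch hY
      first | (clear * - hxd' hyd' hjd' hj; solve | lia | omega) | exact Or.inl ⟨rfl, q, rfl⟩ | exact Or.inr (Or.inl ⟨rfl, q, rfl⟩) | exact Or.inr (Or.inr (Or.inl ⟨rfl, q, rfl⟩)) | exact Or.inr (Or.inr (Or.inr (Or.inl ⟨rfl, q, rfl⟩))) | exact Or.inr (Or.inr (Or.inr (Or.inr (Or.inl ⟨rfl, q, rfl⟩)))) | exact Or.inr (Or.inr (Or.inr (Or.inr (Or.inr (Or.inl ⟨rfl, q, rfl⟩))))) | exact Or.inr (Or.inr (Or.inr (Or.inr (Or.inr (Or.inr (⟨rfl, q, rfl⟩))))))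
    case td4 q =>
      have hx' : x ∈ [2, 6, 12] := hx
      have hy' : y ∈ [2, 6, 12] := hy
      have hxd' : 20 * 12 ∣ 30 * x := hxd
      have hyd' : 30 * 12 ∣ 30 * y := hyd
      have h4 : 2 * 12 ≤ 8 * 12 := h2'
      simp only [List.mem_cons, List.not_mem_nil, or_false] at hx' hy'
      clear hx hy hxd hyd h2' hch hY
      first | (clear * - hxd' hx'; omega) | exact Or.inl ⟨rfl, q, rfl⟩ | exact Or.inr (Or.inl ⟨rfl, q, rfl⟩) | exact Or.inr (Or.inr (Or.inl ⟨rfl, q, rfl⟩)) | exact Or.inr (Or.inr (Or.inr (Or.inl ⟨rfl, q, rfl⟩))) | exact Or.inr (Or.inr (Or.inr (Or.inr (Or.inl ⟨rfl, q, rfl⟩)))) | exact Or.inr (Or.inr (Or.inr (Or.inr (Or.inr (Or.inl ⟨rfl, q, rfl⟩))))) | exact Or.inr (Or.inr (Or.inr (Or.inr (Or.inr (Or.inr (⟨rfl, q, rfl⟩))))))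
    case sz q =>
      have hx' : x ∈ [1, 4] := hx
      have hy' : y ∈ [1, 4] := hy
      have hxd' : 20 * 4 ∣ 30 * x := hxd
      have hyd' : 30 * 4 ∣ 30 * y := hyd
      have h4 : 2 * 2 ≤ 8 * 4 := h2'
      simp only [List.mem_cons, List.not_mem_nil, or_false] at hx' hy'
      clear hx hy hxd hyd h2' hch hY
      first | (clear * - hxd' hx'; omega) | exact Or.inl ⟨rfl, q, rfl⟩ | exact Or.inr (Or.inl ⟨rfl, q, rfl⟩) | exact Or.inr (Or.inr (Or.inl ⟨rfl, q, rfl⟩)) | exact Or.inr (Or.inr (Or.inr (Or.inl ⟨rfl, q, rfl⟩))) | exact Or.inr (Or.inr (Or.inr (Or.inr (Or.inl ⟨rfl, q, rfl⟩)))) | exact Or.inr (Or.inr (Or.inr (Or.inr (Or.inr (Or.inl ⟨rfl, q, rfl⟩))))) | exact Or.inr (Or.inr (Or.inr (Or.inr (Or.inr (Or.inr (⟨rfl, q, rfl⟩))))))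
    case ree q =>
      have hx' : x ∈ [1, 6] := hx
      have hy' : y ∈ [1, 6] := hy
      have hxd' : 20 * 6 ∣ 30 * x := hxd
      have hyd' : 30 * 6 ∣ 30 * y := hyd
      have h4 : 2 * 3 ≤ 8 * 6 := h2'
      simp only [List.mem_cons, List.not_mem_nil, or_false] at hx' hy'
      clear hx hy hxd hyd h2' hch hY
      first | (clear * - hxd' hx' hy'; omega) | exact Or.inl ⟨rfl, q, rfl⟩ | exact Or.inr (Or.inl ⟨rfl, q, rfl⟩) | exact Or.inr (Or.inr (Or.inl ⟨rfl, q, rfl⟩)) | exact Or.inr (Or.inr (Or.inr (Or.inl ⟨rfl, q, rfl⟩))) | exact Or.inr (Or.inr (Or.inr (Or.inr (Or.inl ⟨rfl, q, rfl⟩)))) | exact Or.inr (Or.inr (Or.inr (Or.inr (Or.inr (Or.inl ⟨rfl, q, rfl⟩))))) | exact Or.inr (Or.inr (Or.inr (Or.inr (Or.inr (Or.inr (⟨rfl, q, rfl⟩))))))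
    case tf4 q =>
      have hx' : x ∈ [1, 6, 4, 12] := hx
      have hy' : y ∈ [1, 6, 4, 12] := hy
      have hxd' : 20 * 12 ∣ 30 * x := hxd
      have hyd' : 30 * 12 ∣ 30 * y := hyd
      have h4 : 2 * 12 ≤ 8 * 12 := h2'
      simp only [List.mem_cons, List.not_mem_nil, or_false] at hx' hy'
      clear hx hy hxd hyd h2' hch hY
      first | (clear * - hxd' hx'; omega) | exact Or.inl ⟨rfl, q, rfl⟩ | exact Or.inr (Or.inl ⟨rfl, q, rfl⟩) | exact Or.inr (Or.inr (Or.inl ⟨rfl, q, rfl⟩)) | exact Or.inr (Or.inr (Or.inr (Or.inl ⟨rfl, q, rfl⟩))) | exact Or.inr (Or.inr (Or.inr (Or.inr (Or.inl ⟨rfl, q, rfl⟩)))) | exact Or.inr (Or.inr (Or.inr (Or.inr (Or.inr (Or.inl ⟨rfl, q, rfl⟩))))) | exact Or.inr (Or.inr (Or.inr (Or.inr (Or.inr (Or.inr (⟨rfl, q, rfl⟩))))))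
    all_goals exact absurd hch not_false


theorem hpr_e8 {i s : ℕ} (hi : i = 30) (hs : s.Prime) (h : 5 < s) : ¬ s ∣ i := by
  subst hi
  exact hpr_aux (by decide) hs h

/-- **`E_8(q)`, classes 24 and 30.** -/
theorem charp_e8_2430 (hp : p.Prime) (hf : 1 ≤ f) (hg : Cond g) (hch : HasChar p g)
    (hc : den g * c = num g) (hdvd : c ∣ num (.e8 (p ^ f))) (hs1 : HT p f 24 g c) (hs2 : HT p f 30 g c) :
    g = .psl 5 (p ^ (f * 6)) ∨ g = .psp 5 (p ^ (f * 3)) ∨ g = .oodd 5 (p ^ (f * 3)) ∨ g = .oplus 6 (p ^ (f * 3)) ∨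
      g = .ominus 5 (p ^ (f * 3)) ∨ g = .e8 (p ^ f) := by
  obtain ⟨f₁, hf₁, hfl, hK, hY⟩ := kd_all hp hg hch hc
  obtain ⟨i, hi, hei, hfM, h2, h1, h3, hYc⟩ := compP hp hf hg hch hf₁ hfl hK hY (td_e8 hp hf hdvd)
    (by norm_num) (by norm_num) (by norm_num) (fun i hi hei s hs h5 => by
      have hi' : i ∈ [2, 8, 12, 14, 18, 20, 24, 30] := hi
      simp only [List.mem_cons, List.not_mem_nil, or_false] at hi'
      exact hpr_e8 (by omega) hs (by omega)) hs1 hs2
  rcases elimP_e8_24_30 hg hch hi hei h2 h1 h3 hYc with ⟨rfl, q, rfl⟩ | ⟨rfl, q, rfl⟩ | ⟨rfl, q, rfl⟩ | ⟨rfl, q, rfl⟩ |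
    ⟨rfl, q, rfl⟩ | ⟨rfl, q, rfl⟩
  · obtain rfl : q = p ^ f₁ := hfl
    have h5 : f₁ * 5 = f * 30 := hfM
    obtain rfl : f₁ = f * 6 := by omega
    exact Or.inl rfl
  · obtain rfl : q = p ^ f₁ := hfl
    have h5 : f₁ * (2 * 5) = f * 30 := hfM
    obtain rfl : f₁ = f * 3 := by omega
    exact Or.inr (Or.inl rfl)
  · obtain rfl : q = p ^ f₁ := hfl
    have h5 : f₁ * (2 * 5) = f * 30 := hfM
    obtain rfl : f₁ = f * 3 := by omega
    exact Or.inr (Or.inr (Or.inl rfl))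
  · obtain rfl : q = p ^ f₁ := hfl
    have h5 : f₁ * (2 * (6 - 1)) = f * 30 := hfM
    obtain rfl : f₁ = f * 3 := by omega
    exact Or.inr (Or.inr (Or.inr (Or.inl rfl)))
  · obtain rfl : q = p ^ f₁ := hfl
    have h5 : f₁ * (2 * 5) = f * 30 := hfM
    obtain rfl : f₁ = f * 3 := by omega
    exact Or.inr (Or.inr (Or.inr (Or.inr (Or.inl rfl))))
  · obtain rfl : q = p ^ f₁ := hfl
    rw [same_fld (M := 30) (by norm_num) hfM]
    exact Or.inr (Or.inr (Or.inr (Or.inr (Or.inr rfl))))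

/-- **`E_8(q)`, classes 20 and 30.** -/
theorem charp_e8_2030 (hp : p.Prime) (hf : 1 ≤ f) (hg : Cond g) (hch : HasChar p g)
    (hc : den g * c = num g) (hdvd : c ∣ num (.e8 (p ^ f))) (hs1 : HT p f 20 g c) (hs2 : HT p f 30 g c) :
    g = .psl 3 (p ^ (f * 10)) ∨ g = .psp 3 (p ^ (f * 5)) ∨ g = .oodd 3 (p ^ (f * 5)) ∨ g = .psu 4 (p ^ (f * 5)) ∨
      g = .oplus 4 (p ^ (f * 5)) ∨ (∃ k, f = 2 * k ∧ g = .f4 (p ^ (k * 5))) ∨ g = .e8 (p ^ f) := by
  obtain ⟨f₁, hf₁, hfl, hK, hY⟩ := kd_all hp hg hch hc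
  obtain ⟨i, hi, hei, hfM, h2, h1, h3, hYc⟩ := compP hp hf hg hch hf₁ hfl hK hY (td_e8 hp hf hdvd)
    (by norm_num) (by norm_num) (by norm_num) (fun i hi hei s hs h5 => by
      have hi' : i ∈ [2, 8, 12, 14, 18, 20, 24, 30] := hi
      simp only [List.mem_cons, List.not_mem_nil, or_false] at hi'
      exact hpr_e8 (by omega) hs (by omega)) hs1 hs2
  rcases elimP_e8_20_30 hg hch hi hei h2 h1 h3 hYc with ⟨rfl, q, rfl⟩ | ⟨rfl, q, rfl⟩ | ⟨rfl, q, rfl⟩ | ⟨rfl, q, rfl⟩ |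
    ⟨rfl, q, rfl⟩ | ⟨rfl, q, rfl⟩ | ⟨rfl, q, rfl⟩
  · obtain rfl : q = p ^ f₁ := hfl
    have h5 : f₁ * 3 = f * 30 := hfM
    obtain rfl : f₁ = f * 10 := by omega
    exact Or.inl rfl
  · obtain rfl : q = p ^ f₁ := hfl
    have h5 : f₁ * (2 * 3) = f * 30 := hfM
    obtain rfl : f₁ = f * 5 := by omega
    exact Or.inr (Or.inl rfl)
  · obtain rfl : q = p ^ f₁ := hfl
    have h5 : f₁ * (2 * 3) = f * 30 := hfM
    obtain rfl : f₁ = f * 5 := by omega
    exact Or.inr (Or.inr (Or.inl rfl))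
  · obtain rfl : q = p ^ f₁ := hfl
    have h5 : f₁ * 6 = f * 30 := hfM
    obtain rfl : f₁ = f * 5 := by omega
    exact Or.inr (Or.inr (Or.inr (Or.inl rfl)))
  · obtain rfl : q = p ^ f₁ := hfl
    have h5 : f₁ * (2 * (4 - 1)) = f * 30 := hfM
    obtain rfl : f₁ = f * 5 := by omega
    exact Or.inr (Or.inr (Or.inr (Or.inr (Or.inl rfl))))
  · obtain rfl : q = p ^ f₁ := hfl
    have h5 : f₁ * 12 = f * 30 := hfM
    refine Or.inr (Or.inr (Or.inr (Or.inr (Or.inr (Or.inl ⟨f / 2, by omega, ?_⟩)))))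
    rw [show f₁ = f / 2 * 5 by (clear * - h5; solve | lia | omega)]
  · obtain rfl : q = p ^ f₁ := hfl
    rw [same_fld (M := 30) (by norm_num) hfM]
    exact Or.inr (Or.inr (Or.inr (Or.inr (Or.inr (Or.inr rfl)))))

end Cfsg.Agent.H325.Same
end

-- part: H72/Same/Two
section
/-!
# Simple groups of Lie type in characteristic `p` whose order divides the order of `E6`, `2E6`, `E7`, `E8` over `p^f`,
one-prime versions, second part (helper72)

Copies of lemmas of helper325 (`H325/Same`), one primitive prime divisor of each class.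
-/

set_option autoImplicit false

namespace Cfsg.Agent.H72.Same

open Cfsg.Agent.OrdDiv Cfsg.Agent.H436 Cfsg.Agent.H915.GN Cfsg.Agent.H264.GN Cfsg.Agent.H264.FKS
open Cfsg.Agent.H325.Same

variable {p f c : ℕ} {g : Grp}

theorem kill_uo {n e f₁ : ℕ} (hf : 1 ≤ f) (he : e % 2 = 1) (he3 : 2 ≤ e) (hn : n < 2 * e)
    (h1 : f₁ = f) (hc : den (.psu n (p ^ f₁)) * c = num (.psu n (p ^ f₁))) (hs : H1 p f e c) : False := by
  subst h1
  obtain ⟨s, hs0, hsc⟩ := hs
  have hs' := prim_pow hf hs0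
  have h3 : s ∣ num (.psu n (p ^ f₁)) := by
    rw [← hc]
    exact hsc.mul_left _
  exact not_dvd_u hs' he he3 hn _ h3

/-- the orthogonal groups of minus type contain no primes of odd order `e`, `m ≤ e` -/
theorem kill_omo {n e f₁ : ℕ} (hf : 1 ≤ f) (he : e % 2 = 1) (he3 : 2 ≤ e) (hn : n ≤ e)
    (h1 : f₁ = f) (hc : den (.ominus n (p ^ f₁)) * c = num (.ominus n (p ^ f₁))) (hs : H1 p f e c) : False := by
  subst h1
  obtain ⟨s, hs0, hsc⟩ := hs
  have hs' := prim_pow hf hs0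
  have h3 : s ∣ num (.ominus n (p ^ f₁)) := by
    rw [← hc]
    exact hsc.mul_left _
  have h4 : s ∣ (p ^ f₁) ^ (n * (n - 1)) * (((p ^ f₁) ^ n + 1) * prB (p ^ f₁) (n - 1)) := h3
  rcases hs'.prime.dvd_mul.1 h4 with h5 | h5
  · exact hs'.not_dvd_pow _ h5
  rcases hs'.prime.dvd_mul.1 h5 with h5 | h5
  · exact not_dvd_add_odd hs' he he3 _ h5
  rw [prB_eq, Prime.dvd_finsetProd_iff hs'.prime.prime] at h5
  obtain ⟨i, hi, hd⟩ := h5
  rw [Finset.mem_range] at hi
  rw [hs'.dvd_iff] at hd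
  obtain ⟨k, hk⟩ := hd
  rcases Nat.lt_or_ge k 2 with h4 | h4
  · interval_cases k
    · omega
    · omega
  · have : e * 2 ≤ e * k := Nat.mul_le_mul_left _ h4
    omega

/-- **`E_7(q)`, classes 7 and 18.** -/
theorem charp_e7_718 (hp : p.Prime) (hf : 1 ≤ f) (hg : Cond g) (hch : HasChar p g)
    (hc : den g * c = num g) (hdvd : c ∣ num (.e7 (p ^ f))) (hs1 : H1 p f 7 c) (hs2 : H1 p f 18 c) :
    g = .e7 (p ^ f) := by
  obtain ⟨f₁, hf₁, hfl, hK, hY⟩ := kd_all hp hg hch hc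
  obtain ⟨i, hi, hei, hfM, h2, h1, h3, hYc⟩ := compPo hp hf hf₁ hK hY (td_e7 hp hf hdvd)
    (by norm_num) (by norm_num) hs1 hs2
  rcases elimP_e7_7_18 hg hch hi hei h2 h1 h3 hYc with ⟨rfl, q, rfl⟩ | ⟨rfl, q, rfl⟩ | ⟨rfl, q, rfl⟩
  · exfalso
    obtain rfl : q = p ^ f₁ := hfl
    exact kill_uo hf rfl (by norm_num) (by norm_num) (same_fld (M := 18) (by norm_num) hfM) hc hs1
  · exfalso
    obtain rfl : q = p ^ f₁ := hfl
    exact kill_uo hf rfl (by norm_num) (by norm_num) (same_fld (M := 18) (by norm_num) hfM) hc hs1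
  · obtain rfl : q = p ^ f₁ := hfl
    rw [same_fld (M := 18) (by norm_num) hfM]

/-- **`E_7(q)`, classes 9 and 14.** -/
theorem charp_e7_914 (hp : p.Prime) (hf : 1 ≤ f) (hg : Cond g) (hch : HasChar p g)
    (hc : den g * c = num g) (hdvd : c ∣ num (.e7 (p ^ f))) (hs1 : H1 p f 9 c) (hs2 : H1 p f 14 c) :
    g = .e7 (p ^ f) := by
  obtain ⟨f₁, hf₁, hfl, hK, hY⟩ := kd_all hp hg hch hc
  obtain ⟨i, hi, hei, hfM, h2, h1, h3, hYc⟩ := compPo hp hf hf₁ hK hY (td_e7 hp hf hdvd)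
    (by norm_num) (by norm_num) hs1 hs2
  rcases elimP_e7_9_14 hg hch hi hei h2 h1 h3 hYc with ⟨rfl, q, rfl⟩ | ⟨rfl, q, rfl⟩ | ⟨rfl, q, rfl⟩
  · exfalso
    obtain rfl : q = p ^ f₁ := hfl
    exact kill_uo hf rfl (by norm_num) (by norm_num) (same_fld (M := 18) (by norm_num) hfM) hc hs1
  · exfalso
    obtain rfl : q = p ^ f₁ := hfl
    exact kill_uo hf rfl (by norm_num) (by norm_num) (same_fld (M := 18) (by norm_num) hfM) hc hs1
  · obtain rfl : q = p ^ f₁ := hfl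
    rw [same_fld (M := 18) (by norm_num) hfM]

/-- **`E_6(q)`, classes 8 and 12.** -/
theorem charp_e6_812 (hp : p.Prime) (hf : 1 ≤ f) (hg : Cond g) (hch : HasChar p g)
    (hc : den g * c = num g) (hdvd : c ∣ num (.e6 (p ^ f))) (hs1 : H1 p f 8 c) (hs2 : H1 p f 12 c) :
    g = .e6 (p ^ f) ∨ g = .f4 (p ^ f) ∨ g = .psl 3 (p ^ (4 * f)) := by
  obtain ⟨f₁, hf₁, hfl, hK, hY⟩ := kd_all hp hg hch hc
  obtain ⟨i, hi, hei, hfM, h2, h1, h3, hYc⟩ := compPo hp hf hf₁ hK hY (td_e6 hp hf hdvd)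
    (by norm_num) (by norm_num) hs1 hs2
  have hq : 2 ≤ p ^ f := hp.two_le.trans (Nat.le_self_pow (by omega) _)
  obtain ⟨s, hs4⟩ := exists_prim (q := p ^ f) (e := 4) hq (by norm_num) (by omega)
  have hd0 : c ∣ (p ^ f) ^ 36 * (((p ^ f) ^ 2 - 1) * ((p ^ f) ^ 5 - 1) * ((p ^ f) ^ 6 - 1) *
      ((p ^ f) ^ 8 - 1) * ((p ^ f) ^ 9 - 1) * ((p ^ f) ^ 12 - 1)) := hdvd
  have hd : c ∣ (p ^ f) ^ 36 * ((((p ^ f) ^ 2 - 1) * ((p ^ f) ^ 5 - 1) * ((p ^ f) ^ 6 - 1) * ((p ^ f) ^ 9 - 1)) *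
      (((p ^ f) ^ 8 - 1) * ((p ^ f) ^ 12 - 1))) := hd0.trans (dvd_of_eq (by ring))
  have b2 := sub_pos' (d := 2) hq (by norm_num)
  have b5 := sub_pos' (d := 5) hq (by norm_num)
  have b6 := sub_pos' (d := 6) hq (by norm_num)
  have b9 := sub_pos' (d := 9) hq (by norm_num)
  have hy0 : 0 < ((p ^ f) ^ 2 - 1) * ((p ^ f) ^ 5 - 1) * ((p ^ f) ^ 6 - 1) * ((p ^ f) ^ 9 - 1) := by (clear * - b2 b5 b6 b9; positivity)
  have hy : ¬ s ∣ ((p ^ f) ^ 2 - 1) * ((p ^ f) ^ 5 - 1) * ((p ^ f) ^ 6 - 1) * ((p ^ f) ^ 9 - 1) := fun h => by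
    rcases hs4.prime.dvd_mul.1 h with h | h
    · rcases hs4.prime.dvd_mul.1 h with h | h
      · rcases hs4.prime.dvd_mul.1 h with h | h
        · exact hs4.not_dvd_sub (by norm_num) h
        · exact hs4.not_dvd_sub (by norm_num) h
      · exact hs4.not_dvd_sub (by norm_num) h
    · exact hs4.not_dvd_sub (by norm_num) h
  rcases elimP_e6_8_12 hg hch hi hei h2 h1 h3 hYc with ⟨rfl, q, rfl⟩ | ⟨rfl, q, rfl⟩ | ⟨rfl, q, rfl⟩ |
    ⟨rfl, q, rfl⟩ | ⟨rfl, q, rfl⟩ | ⟨rfl, q, rfl⟩ | ⟨rfl, q, rfl⟩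
  · left
    obtain rfl : q = p ^ f₁ := hfl
    rw [same_fld (M := 12) (by norm_num) hfM]
  · right; left
    obtain rfl : q = p ^ f₁ := hfl
    rw [same_fld (M := 12) (by norm_num) hfM]
  · right; right
    obtain rfl : q = p ^ f₁ := hfl
    have h5 : f₁ * 3 = f * 12 := hfM
    obtain rfl : f₁ = 4 * f := by omega
    rfl
  · exfalso
    obtain rfl : q = p ^ f₁ := hfl
    have h5 : f₁ * (2 * 3) = f * 12 := hfM
    obtain rfl : f₁ = f * 2 := by omega
    exact kill4_psp hp hf hs4 hy hy0 hd hc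
  · exfalso
    obtain rfl : q = p ^ f₁ := hfl
    have h5 : f₁ * (2 * 3) = f * 12 := hfM
    obtain rfl : f₁ = f * 2 := by omega
    exact kill4_oodd hp hf hs4 hy hy0 hd hc
  · exfalso
    obtain rfl : q = p ^ f₁ := hfl
    have h5 : f₁ * 6 = f * 12 := hfM
    obtain rfl : f₁ = f * 2 := by omega
    exact kill4_psu hp hf hs4 hy hy0 hd hc
  · exfalso
    obtain rfl : q = p ^ f₁ := hfl
    have h5 : f₁ * (2 * (4 - 1)) = f * 12 := hfM
    obtain rfl : f₁ = f * 2 := by omega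
    exact kill4_oplus hp hf hs4 hy hy0 hd hc

/-- **`²E_6(q)`, classes 8 and 12.** -/
theorem charp_te6_812 (hp : p.Prime) (hf : 1 ≤ f) (hg : Cond g) (hch : HasChar p g)
    (hc : den g * c = num g) (hdvd : c ∣ num (.te6 (p ^ f))) (hs1 : H1 p f 8 c) (hs2 : H1 p f 12 c) :
    g = .te6 (p ^ f) ∨ g = .f4 (p ^ f) ∨ g = .psl 3 (p ^ (4 * f)) := by
  obtain ⟨f₁, hf₁, hfl, hK, hY⟩ := kd_all hp hg hch hc
  obtain ⟨i, hi, hei, hfM, h2, h1, h3, hYc⟩ := compPo hp hf hf₁ hK hY (td_te6 hp hf hdvd)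
    (by norm_num) (by norm_num) hs1 hs2
  have hq : 2 ≤ p ^ f := hp.two_le.trans (Nat.le_self_pow (by omega) _)
  obtain ⟨t, hs0⟩ := exists_prim (q := p ^ f) (e := 5) hq (by norm_num) (by omega)
  have hn : ¬ t ∣ c := fun h => not_dvd_te6_5 hs0 (h.trans hdvd)
  obtain ⟨s, hs4⟩ := exists_prim (q := p ^ f) (e := 4) hq (by norm_num) (by omega)
  have hd0 : c ∣ (p ^ f) ^ 36 * (((p ^ f) ^ 2 - 1) * ((p ^ f) ^ 5 + 1) * ((p ^ f) ^ 6 - 1) *
      ((p ^ f) ^ 8 - 1) * ((p ^ f) ^ 9 + 1) * ((p ^ f) ^ 12 - 1)) := hdvd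
  have hd : c ∣ (p ^ f) ^ 36 * ((((p ^ f) ^ 2 - 1) * ((p ^ f) ^ 10 - 1) * ((p ^ f) ^ 6 - 1) * ((p ^ f) ^ 18 - 1)) *
      (((p ^ f) ^ 8 - 1) * ((p ^ f) ^ 12 - 1))) := by
    refine hd0.trans (Nat.mul_dvd_mul_left _ ?_)
    have e : (((p ^ f) ^ 2 - 1) * ((p ^ f) ^ 5 + 1) * ((p ^ f) ^ 6 - 1) *
      ((p ^ f) ^ 8 - 1) * ((p ^ f) ^ 9 + 1) * ((p ^ f) ^ 12 - 1)) = (((p ^ f) ^ 2 - 1) * ((p ^ f) ^ 5 + 1) *
      ((p ^ f) ^ 6 - 1) * ((p ^ f) ^ 9 + 1)) * (((p ^ f) ^ 8 - 1) * ((p ^ f) ^ 12 - 1)) := by ring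
    rw [e]
    refine Nat.mul_dvd_mul_right ?_ _
    exact Nat.mul_dvd_mul (Nat.mul_dvd_mul_right (Nat.mul_dvd_mul_left _ (add_dvd (p ^ f) 5)) _) (add_dvd (p ^ f) 9)
  have b2 := sub_pos' (d := 2) hq (by norm_num)
  have b10 := sub_pos' (d := 10) hq (by norm_num)
  have b6 := sub_pos' (d := 6) hq (by norm_num)
  have b18 := sub_pos' (d := 18) hq (by norm_num)
  have hy0 : 0 < ((p ^ f) ^ 2 - 1) * ((p ^ f) ^ 10 - 1) * ((p ^ f) ^ 6 - 1) * ((p ^ f) ^ 18 - 1) := by (clear * - b2 b10 b6 b18; positivity)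
  have hy : ¬ s ∣ ((p ^ f) ^ 2 - 1) * ((p ^ f) ^ 10 - 1) * ((p ^ f) ^ 6 - 1) * ((p ^ f) ^ 18 - 1) := fun h => by
    rcases hs4.prime.dvd_mul.1 h with h | h
    · rcases hs4.prime.dvd_mul.1 h with h | h
      · rcases hs4.prime.dvd_mul.1 h with h | h
        · exact hs4.not_dvd_sub (by norm_num) h
        · exact hs4.not_dvd_sub (by norm_num) h
      · exact hs4.not_dvd_sub (by norm_num) h
    · exact hs4.not_dvd_sub (by norm_num) h
  rcases elimP_te6_8_12 hg hch hi hei h2 h1 h3 hYc with ⟨rfl, q, rfl⟩ | ⟨rfl, q, rfl⟩ | ⟨rfl, q, rfl⟩ |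
    ⟨rfl, q, rfl⟩ | ⟨rfl, q, rfl⟩ | ⟨rfl, q, rfl⟩ | ⟨rfl, q, rfl⟩ | ⟨rfl, q, rfl⟩ | ⟨rfl, q, rfl⟩ | ⟨rfl, q, rfl⟩ |
    ⟨rfl, q, rfl⟩ | ⟨rfl, q, rfl⟩
  · left
    obtain rfl : q = p ^ f₁ := hfl
    rw [same_fld (M := 18) (by norm_num) hfM]
  · right; left
    obtain rfl : q = p ^ f₁ := hfl
    rw [same_fld (M := 12) (by norm_num) hfM]
  · right; right
    obtain rfl : q = p ^ f₁ := hfl
    have h5 : f₁ * 3 = f * 12 := hfM
    obtain rfl : f₁ = 4 * f := by omega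
    rfl
  · exfalso
    obtain rfl : q = p ^ f₁ := hfl
    have h5 : f₁ * (2 * 3) = f * 12 := hfM
    obtain rfl : f₁ = f * 2 := by omega
    exact kill4_psp hp hf hs4 hy hy0 hd hc
  · exfalso
    obtain rfl : q = p ^ f₁ := hfl
    have h5 : f₁ * (2 * 3) = f * 12 := hfM
    obtain rfl : f₁ = f * 2 := by omega
    exact kill4_oodd hp hf hs4 hy hy0 hd hc
  · exfalso
    obtain rfl : q = p ^ f₁ := hfl
    have h5 : f₁ * 6 = f * 12 := hfM
    obtain rfl : f₁ = f * 2 := by omega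
    exact kill4_psu hp hf hs4 hy hy0 hd hc
  · exfalso
    obtain rfl : q = p ^ f₁ := hfl
    have h5 : f₁ * (2 * (4 - 1)) = f * 12 := hfM
    obtain rfl : f₁ = f * 2 := by omega
    exact kill4_oplus hp hf hs4 hy hy0 hd hc
  · exfalso
    obtain rfl : q = p ^ f₁ := hfl
    have h5 : f₁ * 6 = f * 12 := hfM
    have h6 := Cfsg.Agent.H425.Chr.prim_quot (f := 2) (by norm_num) hs0
    rw [← pow_mul, show f * 2 = f₁ by omega] at h6
    exact hn (psl_prim (e := 5) (by norm_num) (by norm_num) hc h6)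
  · exfalso
    obtain rfl : q = p ^ f₁ := hfl
    have h5 : f₁ * (2 * 6) = f * 12 := hfM
    obtain rfl : f₁ = f := by omega
    exact hn (psp_prim (e := 5) 5 (by norm_num) (by norm_num) (by norm_num) (by norm_num) hc hs0)
  · exfalso
    obtain rfl : q = p ^ f₁ := hfl
    have h5 : f₁ * (2 * 6) = f * 12 := hfM
    obtain rfl : f₁ = f := by omega
    exact hn (oodd_prim (e := 5) 5 (by norm_num) (by norm_num) (by norm_num) (by norm_num) hc hs0)
  · exfalso
    obtain rfl : q = p ^ f₁ := hfl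
    have h5 : f₁ * (2 * 6) = f * 12 := hfM
    obtain rfl : f₁ = f := by omega
    exact hn (ominus_prim 5 (by norm_num) (by norm_num) (by norm_num) (by norm_num) hc hs0)
  · exfalso
    obtain rfl : q = p ^ f₁ := hfl
    obtain rfl := same_fld (M := 12) (by norm_num) hfM
    have h6 : Nat.gcd 3 (p ^ f₁ - 1) * c = (p ^ f₁) ^ 36 * (((p ^ f₁) ^ 2 - 1) * ((p ^ f₁) ^ 5 - 1) * ((p ^ f₁) ^ 6 - 1) *
      ((p ^ f₁) ^ 8 - 1) * ((p ^ f₁) ^ 9 - 1) * ((p ^ f₁) ^ 12 - 1)) := hc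
    have h7 : t ∣ Nat.gcd 3 (p ^ f₁ - 1) * c := by
      rw [h6]
      exact ((((((hs0.dvd dvd_rfl).mul_left _).mul_right _).mul_right _).mul_right _).mul_right _).mul_left _
    rcases hs0.prime.dvd_mul.1 h7 with h | h
    · have h8 := Nat.le_of_dvd (by norm_num) (h.trans (Nat.gcd_dvd_left _ _))
      have := lt_of_prim hs0
      omega
    · exact hn h

/-- **`E_7(q)`, classes 14 and 18.** -/
theorem charp_e7_1418 (hp : p.Prime) (hf : 1 ≤ f) (hg : Cond g) (hch : HasChar p g)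
    (hc : den g * c = num g) (hdvd : c ∣ num (.e7 (p ^ f))) (hs1 : H1 p f 14 c) (hs2 : H1 p f 18 c) :
    g = .psu 9 (p ^ f) ∨ g = .psu 10 (p ^ f) ∨ g = .e7 (p ^ f) := by
  obtain ⟨f₁, hf₁, hfl, hK, hY⟩ := kd_all hp hg hch hc
  obtain ⟨i, hi, hei, hfM, h2, h1, h3, hYc⟩ := compPo hp hf hf₁ hK hY (td_e7 hp hf hdvd)
    (by norm_num) (by norm_num) hs1 hs2
  rcases elimP_e7_14_18 hg hch hi hei h2 h1 h3 hYc with ⟨rfl, q, rfl⟩ | ⟨rfl, q, rfl⟩ | ⟨rfl, q, rfl⟩
  · obtain rfl : q = p ^ f₁ := hfl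
    rw [same_fld (M := 18) (by norm_num) hfM]
    exact Or.inl rfl
  · obtain rfl : q = p ^ f₁ := hfl
    rw [same_fld (M := 18) (by norm_num) hfM]
    exact Or.inr (Or.inl rfl)
  · obtain rfl : q = p ^ f₁ := hfl
    rw [same_fld (M := 18) (by norm_num) hfM]
    exact Or.inr (Or.inr rfl)

/-- **`E_7(q)`, classes 9 and 18, and one prime of class 5.** -/
theorem charp_e7_918 (hp : p.Prime) (hf : 1 ≤ f) (hg : Cond g) (hch : HasChar p g)
    (hc : den g * c = num g) (hdvd : c ∣ num (.e7 (p ^ f))) (hs0 : H1 p f 5 c)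
    (hs1 : H1 p f 9 c) (hs2 : H1 p f 18 c) :
    g = .e7 (p ^ f) := by
  obtain ⟨f₁, hf₁, hfl, hK, hY⟩ := kd_all hp hg hch hc
  obtain ⟨i, hi, hei, hfM, h2, h1, h3, hYc⟩ := compPo hp hf hf₁ hK hY (td_e7 hp hf hdvd)
    (by norm_num) (by norm_num) hs0 hs2
  rcases elimP_e7_5_18 hg hch hi hei h2 h1 h3 hYc with ⟨rfl, q, rfl⟩ | ⟨rfl, q, rfl⟩ | ⟨rfl, q, rfl⟩ | ⟨rfl, q, rfl⟩
  · exfalso
    obtain rfl : q = p ^ f₁ := hfl
    exact kill_uo hf rfl (by norm_num) (by norm_num) (same_fld (M := 18) (by norm_num) hfM) hc hs1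
  · exfalso
    obtain rfl : q = p ^ f₁ := hfl
    exact kill_uo hf rfl (by norm_num) (by norm_num) (same_fld (M := 18) (by norm_num) hfM) hc hs1
  · exfalso
    obtain rfl : q = p ^ f₁ := hfl
    obtain rfl := same_fld (M := 18) (by norm_num) hfM
    obtain ⟨s, hsp, hsc⟩ := hs1
    have hs' := prim_pow hf hsp
    refine not_dvd_te6 hs' ?_
    rw [← hc]
    exact hsc.mul_left _
  · obtain rfl : q = p ^ f₁ := hfl
    rw [same_fld (M := 18) (by norm_num) hfM]

/-- **`E_7(q)`, classes 7 and 14, and one prime of class 5.** -/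
theorem charp_e7_714 (hp : p.Prime) (hf : 1 ≤ f) (hg : Cond g) (hch : HasChar p g)
    (hc : den g * c = num g) (hdvd : c ∣ num (.e7 (p ^ f))) (hs0 : H1 p f 5 c)
    (hs1 : H1 p f 7 c) (hs2 : H1 p f 14 c) :
    g = .e7 (p ^ f) := by
  obtain ⟨f₁, hf₁, hfl, hK, hY⟩ := kd_all hp hg hch hc
  obtain ⟨i, hi, hei, hfM, h2, h1, h3, hYc⟩ := compPo hp hf hf₁ hK hY (td_e7 hp hf hdvd)
    (by norm_num) (by norm_num) hs0 hs2
  obtain ⟨t, ht⟩ := exists_prim (q := p) (e := f * 4) hp.two_le (by omega) (by omega)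
  have hs4 : Prim (p ^ f) 4 t := prim_pow hf ht
  rcases elimP_e7_5_14 hg hch hi hei h2 h1 h3 hYc with ⟨rfl, q, rfl⟩ | ⟨rfl, q, rfl⟩ | ⟨rfl, q, rfl⟩ | ⟨rfl, q, rfl⟩ |
    ⟨rfl, q, rfl⟩ | ⟨rfl, q, rfl⟩ | ⟨rfl, q, rfl⟩ | ⟨rfl, q, rfl⟩ | ⟨rfl, q, rfl⟩ | ⟨rfl, q, rfl⟩
  · exfalso
    obtain rfl : q = p ^ f₁ := hfl
    have h5 : f₁ * 7 = f * 14 := hfM
    obtain rfl : f₁ = f * 2 := by omega
    exact kill4_e7_psl hp hf hs4 hdvd hc
  · exfalso
    obtain rfl : q = p ^ f₁ := hfl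
    have h5 : f₁ * (2 * 7) = f * 14 := hfM
    obtain rfl : f₁ = f := by omega
    exact kill4_e7_psp hp hf hs4 hdvd hc
  · exfalso
    obtain rfl : q = p ^ f₁ := hfl
    have h5 : f₁ * (2 * 7) = f * 14 := hfM
    obtain rfl : f₁ = f := by omega
    exact kill4_e7_oodd hp hf hs4 hdvd hc
  · exfalso
    obtain rfl : q = p ^ f₁ := hfl
    exact kill_uo hf rfl (by norm_num) (by norm_num) (same_fld (M := 14) (by norm_num) hfM) hc hs1
  · exfalso
    obtain rfl : q = p ^ f₁ := hfl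
    exact kill_uo hf rfl (by norm_num) (by norm_num) (same_fld (M := 14) (by norm_num) hfM) hc hs1
  · exfalso
    obtain rfl : q = p ^ f₁ := hfl
    have h5 : f₁ * (2 * (8 - 1)) = f * 14 := hfM
    obtain rfl : f₁ = f := by omega
    exact kill4_e7_oplus hp hf hs4 hdvd hc
  · exfalso
    obtain rfl : q = p ^ f₁ := hfl
    exact kill_omo hf rfl (by norm_num) (by norm_num) (same_fld (M := 14) (by norm_num) hfM) hc hs1
  · exfalso
    obtain rfl : q = p ^ f₁ := hfl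
    exact kill_uo hf rfl (by norm_num) (by norm_num) (same_fld (M := 18) (by norm_num) hfM) hc hs1
  · exfalso
    obtain rfl : q = p ^ f₁ := hfl
    exact kill_uo hf rfl (by norm_num) (by norm_num) (same_fld (M := 18) (by norm_num) hfM) hc hs1
  · obtain rfl : q = p ^ f₁ := hfl
    rw [same_fld (M := 18) (by norm_num) hfM]

/-- **`E_8(q)`, classes 24 and 30.** -/
theorem charp_e8_2430 (hp : p.Prime) (hf : 1 ≤ f) (hg : Cond g) (hch : HasChar p g)
    (hc : den g * c = num g) (hdvd : c ∣ num (.e8 (p ^ f))) (hs1 : H1 p f 24 c) (hs2 : H1 p f 30 c) :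
    g = .psl 5 (p ^ (f * 6)) ∨ g = .psp 5 (p ^ (f * 3)) ∨ g = .oodd 5 (p ^ (f * 3)) ∨ g = .oplus 6 (p ^ (f * 3)) ∨
      g = .ominus 5 (p ^ (f * 3)) ∨ g = .e8 (p ^ f) := by
  obtain ⟨f₁, hf₁, hfl, hK, hY⟩ := kd_all hp hg hch hc
  obtain ⟨i, hi, hei, hfM, h2, h1, h3, hYc⟩ := compPo hp hf hf₁ hK hY (td_e8 hp hf hdvd)
    (by norm_num) (by norm_num) hs1 hs2
  rcases elimP_e8_24_30 hg hch hi hei h2 h1 h3 hYc with ⟨rfl, q, rfl⟩ | ⟨rfl, q, rfl⟩ | ⟨rfl, q, rfl⟩ | ⟨rfl, q, rfl⟩ |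
    ⟨rfl, q, rfl⟩ | ⟨rfl, q, rfl⟩
  · obtain rfl : q = p ^ f₁ := hfl
    have h5 : f₁ * 5 = f * 30 := hfM
    obtain rfl : f₁ = f * 6 := by omega
    exact Or.inl rfl
  · obtain rfl : q = p ^ f₁ := hfl
    have h5 : f₁ * (2 * 5) = f * 30 := hfM
    obtain rfl : f₁ = f * 3 := by omega
    exact Or.inr (Or.inl rfl)
  · obtain rfl : q = p ^ f₁ := hfl
    have h5 : f₁ * (2 * 5) = f * 30 := hfM
    obtain rfl : f₁ = f * 3 := by omega
    exact Or.inr (Or.inr (Or.inl rfl))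
  · obtain rfl : q = p ^ f₁ := hfl
    have h5 : f₁ * (2 * (6 - 1)) = f * 30 := hfM
    obtain rfl : f₁ = f * 3 := by omega
    exact Or.inr (Or.inr (Or.inr (Or.inl rfl)))
  · obtain rfl : q = p ^ f₁ := hfl
    have h5 : f₁ * (2 * 5) = f * 30 := hfM
    obtain rfl : f₁ = f * 3 := by omega
    exact Or.inr (Or.inr (Or.inr (Or.inr (Or.inl rfl))))
  · obtain rfl : q = p ^ f₁ := hfl
    rw [same_fld (M := 30) (by norm_num) hfM]
    exact Or.inr (Or.inr (Or.inr (Or.inr (Or.inr rfl))))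

/-- **`E_8(q)`, classes 20 and 30.** -/
theorem charp_e8_2030 (hp : p.Prime) (hf : 1 ≤ f) (hg : Cond g) (hch : HasChar p g)
    (hc : den g * c = num g) (hdvd : c ∣ num (.e8 (p ^ f))) (hs1 : H1 p f 20 c) (hs2 : H1 p f 30 c) :
    g = .psl 3 (p ^ (f * 10)) ∨ g = .psp 3 (p ^ (f * 5)) ∨ g = .oodd 3 (p ^ (f * 5)) ∨ g = .psu 4 (p ^ (f * 5)) ∨
      g = .oplus 4 (p ^ (f * 5)) ∨ (∃ k, f = 2 * k ∧ g = .f4 (p ^ (k * 5))) ∨ g = .e8 (p ^ f) := by
  obtain ⟨f₁, hf₁, hfl, hK, hY⟩ := kd_all hp hg hch hc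
  obtain ⟨i, hi, hei, hfM, h2, h1, h3, hYc⟩ := compPo hp hf hf₁ hK hY (td_e8 hp hf hdvd)
    (by norm_num) (by norm_num) hs1 hs2
  rcases elimP_e8_20_30 hg hch hi hei h2 h1 h3 hYc with ⟨rfl, q, rfl⟩ | ⟨rfl, q, rfl⟩ | ⟨rfl, q, rfl⟩ | ⟨rfl, q, rfl⟩ |
    ⟨rfl, q, rfl⟩ | ⟨rfl, q, rfl⟩ | ⟨rfl, q, rfl⟩
  · obtain rfl : q = p ^ f₁ := hfl
    have h5 : f₁ * 3 = f * 30 := hfM
    obtain rfl : f₁ = f * 10 := by omega
    exact Or.inl rfl
  · obtain rfl : q = p ^ f₁ := hfl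
    have h5 : f₁ * (2 * 3) = f * 30 := hfM
    obtain rfl : f₁ = f * 5 := by omega
    exact Or.inr (Or.inl rfl)
  · obtain rfl : q = p ^ f₁ := hfl
    have h5 : f₁ * (2 * 3) = f * 30 := hfM
    obtain rfl : f₁ = f * 5 := by omega
    exact Or.inr (Or.inr (Or.inl rfl))
  · obtain rfl : q = p ^ f₁ := hfl
    have h5 : f₁ * 6 = f * 30 := hfM
    obtain rfl : f₁ = f * 5 := by omega
    exact Or.inr (Or.inr (Or.inr (Or.inl rfl)))
  · obtain rfl : q = p ^ f₁ := hfl
    have h5 : f₁ * (2 * (4 - 1)) = f * 30 := hfM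
    obtain rfl : f₁ = f * 5 := by omega
    exact Or.inr (Or.inr (Or.inr (Or.inr (Or.inl rfl))))
  · obtain rfl : q = p ^ f₁ := hfl
    have h5 : f₁ * 12 = f * 30 := hfM
    refine Or.inr (Or.inr (Or.inr (Or.inr (Or.inr (Or.inl ⟨f / 2, by omega, ?_⟩)))))
    rw [show f₁ = f / 2 * 5 by (clear * - h5; solve | lia | omega)]
  · obtain rfl : q = p ^ f₁ := hfl
    rw [same_fld (M := 30) (by norm_num) hfM]
    exact Or.inr (Or.inr (Or.inr (Or.inr (Or.inr (Or.inr rfl)))))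

end Cfsg.Agent.H72.Same
end
end

-- part: H73/Rg/KH8
section
set_option linter.all false
open scoped Cfsg.Agent.FastGrp

-- part: H73/Rg/HTbl8
section
/-!
# The tables of `E₈(q)` (helper73)
-/

set_option autoImplicit false
set_option exponentiation.threshold 7000

namespace Cfsg.Agent.H73.Rg

open Cfsg.Agent.H902 Cfsg.Agent.H290.ElTab Cfsg.Agent.H563.KG

/-- the data for the classes 24, 30 -/
def D8a : TD := ⟨.E8, 24, 30, 7, 8, 8, [], 2⟩

/-- the data for the classes 20, 30 -/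
def D8b : TD := ⟨.E8, 20, 30, 11, 8, 8, [], 2⟩

/-- the data for the classes 20, 24 -/
def D8c : TD := ⟨.E8, 20, 24, 11, 8, 8, [], 2⟩

theorem tblH_8a : TblH 248 D8a [] 24 30 where
  hn := le_rfl
  ok := ⟨by decide, by decide, by decide, by decide, by decide +kernel, by decide +kernel, by decide, by decide⟩
  ne := by decide
  hR := Cfsg.Agent.H73.Rg.Fast.chkR_of (by decide +kernel)
  hS := Cfsg.Agent.H73.Rg.Fast.chkS_of (by decide +kernel)
  hE := by norm_num
  hE' := by norm_num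
  hE30 := by norm_num
  hE30' := by norm_num
  hA := by decide +kernel

theorem tblH_8b : TblH 248 D8b [] 20 30 where
  hn := le_rfl
  ok := ⟨by decide, by decide, by decide, by decide, by decide +kernel, by decide +kernel, by decide, by decide⟩
  ne := by decide
  hR := Cfsg.Agent.H73.Rg.Fast.chkR_of (by decide +kernel)
  hS := Cfsg.Agent.H73.Rg.Fast.chkS_of (by decide +kernel)
  hE := by norm_num
  hE' := by norm_num
  hE30 := by norm_num
  hE30' := by norm_num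
  hA := by decide +kernel

theorem tblH_8c : TblH 248 D8c [] 20 24 where
  hn := le_rfl
  ok := ⟨by decide, by decide, by decide, by decide, by decide +kernel, by decide +kernel, by decide, by decide⟩
  ne := by decide
  hR := Cfsg.Agent.H73.Rg.Fast.chkR_of (by decide +kernel)
  hS := Cfsg.Agent.H73.Rg.Fast.chkS_of (by decide +kernel)
  hE := by norm_num
  hE' := by norm_num
  hE30 := by norm_num
  hE30' := by norm_num
  hA := by decide +kernel

end Cfsg.Agent.H73.Rg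
end

-- part: H73/Rg/KH8
section
/-!
# Subgroups of `E₈(q)` containing at least half of two of the classes 20, 24, 30 (helper73)

`KH8a` (24, 30), `KH8b` (20, 30), `KH8c` (20, 24) : they are the whole group.
-/

set_option autoImplicit false
set_option exponentiation.threshold 7000

namespace Cfsg.Agent.H73.Rg

open Cfsg Cfsg.Agent.OrdDiv Cfsg.Agent.H436 Cfsg.Agent.H902 Cfsg.Agent.H290.ElReg Cfsg.Agent.H290.ElTab
  Cfsg.Agent.H56.Exc Cfsg.Agent.H325.Loc Cfsg.Agent.H915.GN Cfsg.Agent.H264.FKS Cfsg.Agent.H325.IsoExc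
open Cfsg.Agent.H563.KG hiding Ph cc ncl Cls cast_Ph20 cast_Ph24 Ph_pos not_sq_dvd cc_prime ncl_mul ncl_dvd_Ph ncl_pos
  not_dvd_ncl Ph_le prim_of_dvd Ph_dvd good_one
open Cfsg.Agent.H290.Cov30
open Cfsg.Agent.H325.Same (sub_pos' cancel_prime pos_of_dvd)

section

variable {F : Type} [Field F] [Fintype F] {p f : ℕ}

/-- the classes 20, 24, 30 -/
theorem big8 {q : ℕ} (hq : Fintype.card F = q) (hq1 : 1 ≤ q) {c : ℕ} (hc : c = 20 ∨ c = 24 ∨ c = 30) {r : ℕ}
    (hr : Prim q c r) : Big ↥(Lie.chevE8.group F) r (Ph c q) c := by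
  rcases hc with rfl | rfl | rfl
  · refine big_E8_20 hq ?_ hr
    rw [cast_Ph20 _ hq1]; ring
  · refine big_E8_24 hq ?_ hr
    rw [cast_Ph24 _ hq1]; ring
  · refine big_E8_30 hq ?_ hr
    rw [cast_Ph30 _ hq1]; ring

theorem prim_or_five {q c t : ℕ} (hq1 : 1 ≤ q) (hc : c = 20 ∨ c = 24 ∨ c = 30) (ht : t.Prime) (hd : t ∣ Ph c q) :
    Prim q c t ∨ (c = 20 ∧ t = 5) := by
  have hcl : Cls c := hc
  rw [← ncl_mul c q] at hd
  rcases ht.dvd_mul.1 hd with h2 | h2
  · exact Or.inl (prim_of_dvd hcl hq1 ht h2)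
  · have h3 := h2.trans (Nat.gcd_dvd_left _ _)
    rcases hc with rfl | rfl | rfl
    · exact Or.inr ⟨rfl, (Nat.prime_dvd_prime_iff_eq ht (by norm_num)).1 h3⟩
    · exact absurd (Nat.dvd_one.1 h3) ht.one_lt.ne'
    · exact absurd (Nat.dvd_one.1 h3) ht.one_lt.ne'

theorem no_both8 {q c c' t : ℕ} (hq : 2 ≤ q) (hc : c = 20 ∨ c = 24 ∨ c = 30) (hc' : c' = 20 ∨ c' = 24 ∨ c' = 30)
    (hne : c ≠ c') (ht : t.Prime) (hd : t ∣ Ph c q) (hd' : t ∣ Ph c' q) : False := by
  have hq1 : 1 ≤ q := by omega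
  have key : ∀ a b, (a = 20 ∨ a = 24 ∨ a = 30) → (b = 20 ∨ b = 24 ∨ b = 30) → a ≠ b → Prim q a t → t ∣ Ph b q → False := by
    intro a b ha hb hab h1 h2
    have h3 := h2.trans (Ph_dvd (show Cls b from hb) hq1)
    rw [h1.dvd_iff] at h3
    rcases ha with rfl | rfl | rfl <;> rcases hb with rfl | rfl | rfl <;> omega
  rcases prim_or_five hq1 hc ht hd with h1 | ⟨h1, h2⟩
  · exact key c c' hc hc' hne h1 hd'
  · rcases prim_or_five hq1 hc' ht hd' with h3 | ⟨h3, h4⟩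
    · exact key c' c hc' hc (Ne.symm hne) h3 hd
    · omega

theorem gchk20 : gchk 248 20 11 8 2 [(2, 1, 41)] = true := by decide +kernel
theorem gchk24 : gchk 248 24 11 8 2 [(2, 1, 241)] = true := by decide +kernel
theorem gchk30 : gchk 248 30 11 8 2 [] = true := by decide +kernel

/-- one class -/
theorem good8_one {G : Type*} [Group G] [Finite G] (hp : p.Prime) (hf : 1 ≤ f) {c c' : ℕ}
    (hc : c = 20 ∨ c = 24 ∨ c = 30) (hc' : c' = 20 ∨ c' = 24 ∨ c' = 30) (hne : c ≠ c')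
    (h' : Ord G (p ^ f) c' (Ph c' (p ^ f))) (hd : Nat.card G ∣ OL .E8 (p ^ f))
    (hh' : PP p (f * c') ≤ (Nat.gcd (Nat.card G) (PP p (f * c'))) ^ 2) {t : ℕ} (ht : t.Prime)
    (htc : ¬ Prim p (f * c) t) (h1 : t ∣ Ph c (p ^ f)) : Good G 248 t := by
  have hq2 : 2 ≤ p ^ f := hp.two_le.trans (Nat.le_self_pow (by omega) p)
  have hn : ¬ t ∣ Ph c' (p ^ f) := fun h2 => no_both8 hq2 hc hc' hne ht h1 h2
  rcases hc' with rfl | rfl | rfl
  · rcases half_gt hp hf hq2 (by norm_num) (by norm_num) (by decide +kernel) (by norm_num) (by norm_num) gchk20 hh' with h2 | h2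
    · exact good_gt h' hp.two_le hf (by norm_num) ht hn h2
    · simp only [List.mem_singleton, Prod.mk.injEq] at h2
      obtain ⟨rfl, rfl, h3⟩ := h2
      rcases prim_or_five (by norm_num) hc ht h1 with h4 | ⟨h4, h5⟩
      · rw [one_mul] at htc
        exact absurd h4 htc
      · exact absurd h4 hne
  · rcases half_gt hp hf hq2 (by norm_num) (by norm_num) (by decide +kernel) (by norm_num) (by norm_num) gchk24 hh' with h2 | h2
    · exact good_gt h' hp.two_le hf (by norm_num) ht hn h2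
    · simp only [List.mem_singleton, Prod.mk.injEq] at h2
      obtain ⟨rfl, rfl, h3⟩ := h2
      rcases prim_or_five (by norm_num) hc ht h1 with h4 | ⟨h4, rfl⟩
      · rw [one_mul] at htc
        exact absurd h4 htc
      · refine good_prH h' hp.two_le hf (by norm_num) ht hn h3 (by norm_num) fun k hk hkG => ?_
        have h5 : k ≤ 5 := pow_bound (M := OL .E8 (2 ^ 1)) (by decide +kernel) (hkG.trans hd)
        interval_cases k <;> norm_num
  · rcases half_gt hp hf hq2 (by norm_num) (by norm_num) (by decide +kernel) (by norm_num) (by norm_num) gchk30 hh' with h2 | h2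
    · exact good_gt h' hp.two_le hf (by norm_num) ht hn h2
    · simp at h2

/-- **reducedness** -/
theorem good8 {G : Type*} [Group G] [Finite G] (hp : p.Prime) (hf : 1 ≤ f) {c c' : ℕ}
    (hc : c = 20 ∨ c = 24 ∨ c = 30) (hc' : c' = 20 ∨ c' = 24 ∨ c' = 30) (hne : c ≠ c')
    (h : Ord G (p ^ f) c (Ph c (p ^ f))) (h' : Ord G (p ^ f) c' (Ph c' (p ^ f))) (hd : Nat.card G ∣ OL .E8 (p ^ f))
    (hh : PP p (f * c) ≤ (Nat.gcd (Nat.card G) (PP p (f * c))) ^ 2)
    (hh' : PP p (f * c') ≤ (Nat.gcd (Nat.card G) (PP p (f * c'))) ^ 2) {t : ℕ} (ht : t.Prime)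
    (htc : ¬ Prim p (f * c) t) (htc' : ¬ Prim p (f * c') t) : Good G 248 t := by
  by_cases h1 : t ∣ Ph c (p ^ f)
  · exact good8_one hp hf hc hc' hne h' hd hh' ht htc h1
  by_cases h2 : t ∣ Ph c' (p ^ f)
  · exact good8_one hp hf hc' hc (Ne.symm hne) h hd hh ht htc' h2
  have a1 := (gcd_lb hp.two_le hf (by omega) (by omega) hh).1
  have a2 := (gcd_lb hp.two_le hf (by omega) (by omega) hh').1
  refine good_prod h h' hp.two_le hf (by omega) (by omega) hne ht h1 h2 ?_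
  have a3 : 21 * 21 ≤ Nat.gcd (Nat.card G) (PP p (f * c)) * Nat.gcd (Nat.card G) (PP p (f * c')) :=
    Nat.mul_le_mul (by omega) (by omega)
  omega

/-- the common part -/
theorem main8 (tb : OrderTable.{0}) (hcyc : CycFixSolv.{0}) (hcf : CF) [CharP F p] (hp : p.Prime) (hf : 1 ≤ f)
    (hq : Fintype.card F = p ^ f) {D : TD} (hY : D.Y = .E8) (hq0 : D.q₀ = 2) (hxs : D.exs = [])
    (ht : TblH 248 D [] D.e D.e') (hc : D.e = 20 ∨ D.e = 24) (hc' : D.e' = 24 ∨ D.e' = 30) (hne : D.e ≠ D.e')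
    (B : Subgroup ↥(Lie.chevE8.group F)) (h1 : HAt p f D.e B) (h2 : HAt p f D.e' B) :
    ∃ S : Subgroup B, ConH p f (fun c => Ph c (p ^ f)) (fun c => c) D.e D.e' S ∧ ∃ g, IsNamed g S ∧ HasChar p g := by
  have := Fact.mk hp
  have hfin : Finite ↥(Lie.chevE8.group F) := inferInstance
  have hT := named_e8 (F := F) tb
  rw [hq] at hT
  have hq2 : 2 ≤ p ^ f := hp.two_le.trans (Nat.le_self_pow (by omega) p)
  have hq1 : 1 ≤ p ^ f := by omega
  have hOL : num (.e8 (p ^ f)) = OL .E8 (p ^ f) := rfl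
  have hdT : Nat.card ↥(Lie.chevE8.group F) ∣ OL .E8 (p ^ f) := by
    rw [← hOL, ← hT.eq]
    exact Dvd.intro_left _ rfl
  have hmem : ∀ c ∈ [D.e, D.e'], c = 20 ∨ c = 24 ∨ c = 30 := by
    intro c hc
    simp only [List.mem_cons, List.not_mem_nil, or_false] at hc
    omega
  have hbig : ∀ c ∈ [D.e, D.e'], ∀ r, Prim (p ^ f) c r → Big ↥(Lie.chevE8.group F) r (Ph c (p ^ f)) c :=
    fun c hc r hr => big8 hq hq1 (hmem c hc) hr
  have hord : ∀ c ∈ [D.e, D.e'], Ord ↥(Lie.chevE8.group F) (p ^ f) c (Ph c (p ^ f)) :=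
    fun c hc r hr x hx => (hbig c hc r hr).card x hx
  have me : D.e ∈ [D.e, D.e'] := by simp
  have me' : D.e' ∈ [D.e, D.e'] := by simp
  refine mainH tb hcyc hcf altAut (M := fun c => Ph c (p ^ f)) (E := fun c => c) ht hp hf (by rw [hq0]; exact hq2)
    (F := F) fth_E8 (by rw [hY]; exact hdT) hbig h1 h2 ?_ (by simp [hxs]) me (fun r hr => ?_) (fun t ht htp htc htc' _ => ?_)
    (by simp)
  · exact sepH hp hf (M := fun c => Ph c (p ^ f)) (E := fun c => c) (by omega) (by omega) h1 h2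
      (fun c hc => Ph_dvd (show Cls c from hmem c hc) hq1) (fun c hc s hs hd => le_seven'' hs (hmem c hc) hd)
      (fun h => by have := Nat.le_of_dvd (by omega) h; omega) (fun h => by
        rcases hc with hc | hc <;> rcases hc' with hc' | hc' <;> rw [hc, hc'] at h <;> omega)
  · exact piso_E8 (F := F) hc (by rw [hq]; exact hr)
  · exact good8 hp hf (hmem _ me) (hmem _ me') hne ((hord _ me).sub B) ((hord _ me').sub B)
      ((Subgroup.card_subgroup_dvd_card B).trans hdT) h1.half h2.half ht htc htc'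

/-- `PSU₄(q⁵)` -/
theorem kill_psu4q5 {c : ℕ} (hp : p.Prime) (hf : 1 ≤ f) (hc : den (.psu 4 (p ^ (f * 5))) * c = num (.psu 4 (p ^ (f * 5))))
    (hdvd : c ∣ num (.e8 (p ^ f))) : False := by
  have hq : 2 ≤ p ^ f := hp.two_le.trans (Nat.le_self_pow (by omega) _)
  have h6 : Nat.gcd 4 (p ^ (f * 5) + 1) * (p ^ (f * 5) + 1) * c =
      (p ^ (f * 5)) ^ (4 * (4 - 1) / 2) * prU (p ^ (f * 5)) 4 := hc
  have hU : prU (p ^ (f * 5)) 4 = ((p ^ (f * 5)) ^ 1 + 1) * (((p ^ (f * 5)) ^ 2 - 1) * (((p ^ (f * 5)) ^ 3 + 1) *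
    (((p ^ (f * 5)) ^ 4 - 1) * 1))) := rfl
  have hd := e8_dvd hdvd
  have h7 : Nat.gcd 4 (p ^ (f * 5) + 1) * c = (p ^ (f * 5)) ^ (4 * (4 - 1) / 2) *
      (((p ^ f) ^ 10 - 1) * (((p ^ f) ^ 20 - 1) * ((p ^ f) ^ 15 + 1))) := by
    have e2 : (p ^ (f * 5)) ^ 2 = (p ^ f) ^ 10 := pow5 p f 2
    have e3 : (p ^ (f * 5)) ^ 3 = (p ^ f) ^ 15 := pow5 p f 3
    have e4 : (p ^ (f * 5)) ^ 4 = (p ^ f) ^ 20 := pow5 p f 4
    rw [hU, e2, e3, e4, pow_one] at h6
    apply Nat.eq_of_mul_eq_mul_left (show 0 < p ^ (f * 5) + 1 by omega)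
    calc (p ^ (f * 5) + 1) * (Nat.gcd 4 (p ^ (f * 5) + 1) * c)
        = Nat.gcd 4 (p ^ (f * 5) + 1) * (p ^ (f * 5) + 1) * c := by ring
      _ = _ := h6
      _ = _ := by ring
  have hgp : 0 < Nat.gcd 4 (p ^ (f * 5) + 1) := Nat.gcd_pos_of_pos_left _ (by norm_num)
  have hgl : Nat.gcd 4 (p ^ (f * 5) + 1) ≤ 4 := Nat.gcd_le_left _ (by norm_num)
  generalize Nat.gcd 4 (p ^ (f * 5) + 1) = D at *
  generalize (p ^ (f * 5)) ^ (4 * (4 - 1) / 2) = A at *
  clear h6 hU hc hdvd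
  generalize p ^ f = q at *
  have b2 := sub_pos' (d := 2) hq (by norm_num)
  have b8 := sub_pos' (d := 8) hq (by norm_num)
  have b12 := sub_pos' (d := 12) hq (by norm_num)
  have b14 := sub_pos' (d := 14) hq (by norm_num)
  have b18 := sub_pos' (d := 18) hq (by norm_num)
  have b20 := sub_pos' (d := 20) hq (by norm_num)
  have b24 := sub_pos' (d := 24) hq (by norm_num)
  have b30 := sub_pos' (d := 30) hq (by norm_num)
  have hc0 : 0 < c := pos_of_dvd (by positivity) hd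
  have h30 : q ^ 30 - 1 = (q ^ 15 - 1) * (q ^ 15 + 1) := by
    have := Nat.sq_sub_sq (q ^ 15) 1
    rw [one_pow, ← pow_mul] at this
    rw [mul_comm]
    exact this
  rw [h30] at hd
  obtain ⟨s, hs⟩ := exists_prim (q := q) (e := 10) hq (by norm_num) (by omega)
  refine cancel_prime hs.prime (Z := (q ^ 20 - 1) * (q ^ 15 + 1)) (by positivity) hc0
    (A := A) (x := q ^ 10 - 1) (D := D) (B := q ^ 120)
    (y := (q ^ 2 - 1) * (q ^ 8 - 1) * (q ^ 12 - 1) * (q ^ 14 - 1) * (q ^ 18 - 1) * (q ^ 24 - 1) * (q ^ 15 - 1)) h7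
    (hd.trans (dvd_of_eq (by ring)))
    (hs.dvd (by norm_num)) (fun h => ?_) (hs.not_dvd_pow _) (fun h => ?_)
  · have h9 := Cfsg.Agent.H563.KG.lt_of_prim hq (by norm_num) hs
    have := Nat.le_of_dvd hgp h
    omega
  · rcases hs.prime.dvd_mul.1 h with h | h
    · rcases hs.prime.dvd_mul.1 h with h | h
      · rcases hs.prime.dvd_mul.1 h with h | h
        · rcases hs.prime.dvd_mul.1 h with h | h
          · rcases hs.prime.dvd_mul.1 h with h | h
            · rcases hs.prime.dvd_mul.1 h with h | h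
              · exact hs.not_dvd_sub (by norm_num) h
              · exact hs.not_dvd_sub (by norm_num) h
            · exact hs.not_dvd_sub (by norm_num) h
          · exact hs.not_dvd_sub (by norm_num) h
        · exact hs.not_dvd_sub (by norm_num) h
      · exact hs.not_dvd_sub (by norm_num) h
    · exact hs.not_dvd_sub (by norm_num) h

/-- `F₄(q^(5/2))` -/
theorem kill_f4q5 {c k : ℕ} (hp : p.Prime) (hf : 1 ≤ f) (hk : f = 2 * k) (hc : den (.f4 (p ^ (k * 5))) * c = num (.f4 (p ^ (k * 5))))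
    (hdvd : c ∣ num (.e8 (p ^ f))) : False := by
  have h5' : 2 * (k * 5) = 5 * f := by omega
  have hq : 2 ≤ p ^ f := hp.two_le.trans (Nat.le_self_pow (by omega) _)
  have hd := e8_dvd hdvd
  generalize k * 5 = f₁ at *
  have h6 : 1 * c = (p ^ f₁) ^ 24 * (((p ^ f₁) ^ 2 - 1) * ((p ^ f₁) ^ 6 - 1) * ((p ^ f₁) ^ 8 - 1) *
      ((p ^ f₁) ^ 12 - 1)) := hc
  have key : ∀ k, (p ^ f₁) ^ (2 * k) = (p ^ f) ^ (5 * k) := fun k => by
    rw [← pow_mul, ← pow_mul, show f₁ * (2 * k) = 2 * f₁ * k by ring, h5']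
    congr 1
    ring
  have e1 : (p ^ f₁) ^ 2 = (p ^ f) ^ 5 := key 1
  have e2 : (p ^ f₁) ^ 6 = (p ^ f) ^ 15 := key 3
  have e3 : (p ^ f₁) ^ 8 = (p ^ f) ^ 20 := key 4
  have e4 : (p ^ f₁) ^ 12 = (p ^ f) ^ 30 := key 6
  rw [e1, e2, e3, e4] at h6
  generalize (p ^ f₁) ^ 24 = A at *
  clear hc hdvd key e1 e2 e3 e4
  generalize p ^ f = q at *
  have b2 := sub_pos' (d := 2) hq (by norm_num)
  have b8 := sub_pos' (d := 8) hq (by norm_num)
  have b12 := sub_pos' (d := 12) hq (by norm_num)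
  have b14 := sub_pos' (d := 14) hq (by norm_num)
  have b18 := sub_pos' (d := 18) hq (by norm_num)
  have b20 := sub_pos' (d := 20) hq (by norm_num)
  have b24 := sub_pos' (d := 24) hq (by norm_num)
  have b30 := sub_pos' (d := 30) hq (by norm_num)
  have hc0 : 0 < c := pos_of_dvd (by positivity) hd
  obtain ⟨s, hs⟩ := exists_prim (q := q) (e := 5) hq (by norm_num) (by omega)
  refine cancel_prime hs.prime (Z := (q ^ 20 - 1) * (q ^ 30 - 1)) (by positivity) hc0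
    (A := A * (q ^ 15 - 1)) (x := q ^ 5 - 1) (D := 1) (B := q ^ 120)
    (y := (q ^ 2 - 1) * (q ^ 8 - 1) * (q ^ 12 - 1) * (q ^ 14 - 1) * (q ^ 18 - 1) * (q ^ 24 - 1)) (by rw [h6]; ring)
    (hd.trans (dvd_of_eq (by ring)))
    (hs.dvd (by norm_num)) (fun h => ?_) (hs.not_dvd_pow _) (fun h => ?_)
  · exact hs.prime.one_lt.ne' (Nat.dvd_one.1 h)
  · rcases hs.prime.dvd_mul.1 h with h | h
    · rcases hs.prime.dvd_mul.1 h with h | h
      · rcases hs.prime.dvd_mul.1 h with h | h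
        · rcases hs.prime.dvd_mul.1 h with h | h
          · rcases hs.prime.dvd_mul.1 h with h | h
            · exact hs.not_dvd_sub (by norm_num) h
            · exact hs.not_dvd_sub (by norm_num) h
          · exact hs.not_dvd_sub (by norm_num) h
        · exact hs.not_dvd_sub (by norm_num) h
      · exact hs.not_dvd_sub (by norm_num) h
    · exact hs.not_dvd_sub (by norm_num) h

/-- **`E₈(q)`, the classes 24, 30.** -/
theorem KH8a (tb : OrderTable.{0}) (hcyc : CycFixSolv.{0}) (hcf : CF) [CharP F p] (hp : p.Prime) (hf : 1 ≤ f)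
    (hq : Fintype.card F = p ^ f) (B : Subgroup ↥(Lie.chevE8.group F)) (hoff : HOff p f [24, 30] B) : B = ⊤ := by
  have := Fact.mk hp
  have hT := named_e8 (F := F) tb
  rw [hq] at hT
  obtain ⟨S, hS, g, hg, hch⟩ := main8 tb hcyc hcf hp hf hq (D := D8a) rfl rfl rfl tblH_8a (Or.inr rfl) (Or.inr rfl)
    (by decide) B (hoff 24 (by decide)) (hoff 30 (by decide))
  have := hS.nor
  have hdS : Nat.card S ∣ num (.e8 (p ^ f)) := IsNamed.card_dvd hT S
  obtain ⟨r, hr, hrS⟩ := hS.h1 24 (by decide)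
  have hr' := prim_q hf hr
  have hpiso : PIso p r S :=
    ((piso_E8 (F := F) (Or.inr rfl) (by rw [hq]; exact hr') : PIso p r ↥(Lie.chevE8.group F)).sub B).sub S
  rcases Cfsg.Agent.H72.Same.charp_e8_2430 hp hf hg.cond hch hg.eq hdS (hS.h1 24 (by decide)) (hS.h1 30 (by decide)) with
    rfl | rfl | rfl | rfl | rfl | rfl
  · exact (kill_psl5 hp hg hr' hrS hpiso).elim
  · have h6 : Nat.gcd 2 (p ^ (f * 3) - 1) * Nat.card S = (p ^ (f * 3)) ^ (5 ^ 2) * prB (p ^ (f * 3)) 5 := hg.eq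
    exact (kill_q3 hp hf (Nat.gcd_pos_of_pos_left _ (by norm_num))
      ((Nat.gcd_le_left _ (by norm_num)).trans (by norm_num)) h6 hdS).elim
  · have h6 : 2 * Nat.card S = (p ^ (f * 3)) ^ (5 ^ 2) * prB (p ^ (f * 3)) 5 := hg.eq
    exact (kill_q3 hp hf (by norm_num) (by norm_num) h6 hdS).elim
  · have h6 : Nat.gcd 4 ((p ^ (f * 3)) ^ 6 - 1) * Nat.card S =
        (p ^ (f * 3)) ^ (6 * (6 - 1)) * (((p ^ (f * 3)) ^ 6 - 1) * prB (p ^ (f * 3)) (6 - 1)) := hg.eq
    rw [← mul_assoc] at h6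
    exact (kill_q3 hp hf (Nat.gcd_pos_of_pos_left _ (by norm_num))
      (Nat.gcd_le_left _ (by norm_num)) h6 hdS).elim
  · exact (kill_ominus5 hp hg hr' hrS hpiso).elim
  · exact eq_top_of_name hT hg

/-- **`E₈(q)`, the classes 20, 30.** -/
theorem KH8b (tb : OrderTable.{0}) (hcyc : CycFixSolv.{0}) (hcf : CF) [CharP F p] (hp : p.Prime) (hf : 1 ≤ f)
    (hq : Fintype.card F = p ^ f) (B : Subgroup ↥(Lie.chevE8.group F)) (hoff : HOff p f [20, 30] B) : B = ⊤ := by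
  have := Fact.mk hp
  have hT := named_e8 (F := F) tb
  rw [hq] at hT
  obtain ⟨S, hS, g, hg, hch⟩ := main8 tb hcyc hcf hp hf hq (D := D8b) rfl rfl rfl tblH_8b (Or.inl rfl) (Or.inr rfl)
    (by decide) B (hoff 20 (by decide)) (hoff 30 (by decide))
  have := hS.nor
  have hdS : Nat.card S ∣ num (.e8 (p ^ f)) := IsNamed.card_dvd hT S
  obtain ⟨r, hr, hrS⟩ := hS.h1 20 (by decide)
  have hr' := prim_q hf hr
  have hpiso : PIso p r S :=
    ((piso_E8 (F := F) (Or.inl rfl) (by rw [hq]; exact hr') : PIso p r ↥(Lie.chevE8.group F)).sub B).sub S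
  rcases Cfsg.Agent.H72.Same.charp_e8_2030 hp hf hg.cond hch hg.eq hdS (hS.h1 20 (by decide)) (hS.h1 30 (by decide)) with
    rfl | rfl | rfl | rfl | rfl | ⟨k, hk, rfl⟩ | rfl
  · exact (kill_psl3' hp hg hr' hrS hpiso).elim
  · have h6 : Nat.gcd 2 (p ^ (f * 5) - 1) * Nat.card S = (p ^ (f * 5)) ^ (3 ^ 2) * prB (p ^ (f * 5)) 3 := hg.eq
    exact (kill_q5 hp hf (Nat.gcd_pos_of_pos_left _ (by norm_num))
      ((Nat.gcd_le_left _ (by norm_num)).trans (by norm_num)) h6 hdS).elim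
  · have h6 : 2 * Nat.card S = (p ^ (f * 5)) ^ (3 ^ 2) * prB (p ^ (f * 5)) 3 := hg.eq
    exact (kill_q5 hp hf (by norm_num) (by norm_num) h6 hdS).elim
  · exact (kill_psu4q5 hp hf hg.eq hdS).elim
  · have h6 : Nat.gcd 4 ((p ^ (f * 5)) ^ 4 - 1) * Nat.card S =
        (p ^ (f * 5)) ^ (4 * (4 - 1)) * (((p ^ (f * 5)) ^ 4 - 1) * prB (p ^ (f * 5)) (4 - 1)) := hg.eq
    rw [← mul_assoc] at h6
    exact (kill_q5 hp hf (Nat.gcd_pos_of_pos_left _ (by norm_num))
      (Nat.gcd_le_left _ (by norm_num)) h6 hdS).elim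
  · exact (kill_f4q5 hp hf hk hg.eq hdS).elim
  · exact eq_top_of_name hT hg

/-- **`E₈(q)`, the classes 20, 24.** -/
theorem KH8c (tb : OrderTable.{0}) (hcyc : CycFixSolv.{0}) (hcf : CF) [CharP F p] (hp : p.Prime) (hf : 1 ≤ f)
    (hq : Fintype.card F = p ^ f) (B : Subgroup ↥(Lie.chevE8.group F)) (hoff : HOff p f [20, 24] B) : B = ⊤ := by
  have := Fact.mk hp
  have hT := named_e8 (F := F) tb
  rw [hq] at hT
  obtain ⟨S, hS, g, hg, hch⟩ := main8 tb hcyc hcf hp hf hq (D := D8c) rfl rfl rfl tblH_8c (Or.inl rfl) (Or.inl rfl)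
    (by decide) B (hoff 20 (by decide)) (hoff 24 (by decide))
  have := hS.nor
  have hdS : Nat.card S ∣ num (.e8 (p ^ f)) := IsNamed.card_dvd hT S
  obtain rfl := Cfsg.Agent.H72.Same.charp_e8_2024 hp hf hg.cond hch hg.eq hdS (hS.h1 20 (by decide)) (hS.h1 24 (by decide))
  exact eq_top_of_name hT hg

end

end Cfsg.Agent.H73.Rg
end
end

-- part: H70/Rg/RedT6_mg
section
set_option linter.all false
open scoped Cfsg.Agent.FastGrp

-- part: H73/Rg/HTbl6
section
/-!
# The tables of `E₆(q)` and `²E₆(q)`, `q ≥ 3` (helper73)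
-/

set_option autoImplicit false
set_option exponentiation.threshold 7000

namespace Cfsg.Agent.H73.Rg

open Cfsg.Agent.H902 Cfsg.Agent.H290.ElTab Cfsg.Agent.H563.KG

/-- the data for the classes 18, 8 -/
def Dt6a : TD := ⟨.TE6, 18, 8, 23, 6, 4, [], 3⟩

/-- the data for the classes 18, 12 -/
def Dt6b : TD := ⟨.TE6, 18, 12, 23, 6, 4, [], 3⟩

/-- the data for the classes 8, 12 -/
def Dt6c : TD := ⟨.TE6, 8, 12, 101, 4, 4, [], 3⟩

theorem tblH_t6a : TblH 78 Dt6a [] 9 8 where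
  hn := by norm_num
  ok := ⟨by decide, by decide, by decide, by decide, by decide +kernel, by decide +kernel, by decide, by decide⟩
  ne := by decide
  hR := Cfsg.Agent.H73.Rg.Fast.chkR_of (by decide +kernel)
  hS := Cfsg.Agent.H73.Rg.Fast.chkS_of (by decide +kernel)
  hE := by norm_num
  hE' := by norm_num
  hE30 := by norm_num
  hE30' := by norm_num
  hA := by decide +kernel

theorem tblH_t6b : TblH 78 Dt6b [(.L 2, 73, 1)] 9 12 where
  hn := by norm_num
  ok := ⟨by decide, by decide, by decide, by decide, by decide +kernel, by decide +kernel, by decide, by decide⟩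
  ne := by decide
  hR := Cfsg.Agent.H73.Rg.Fast.chkR_of (by decide +kernel)
  hS := Cfsg.Agent.H73.Rg.Fast.chkS_of (by decide +kernel)
  hE := by norm_num
  hE' := by norm_num
  hE30 := by norm_num
  hE30' := by norm_num
  hA := by decide +kernel

theorem tblH_t6c : TblH 78 Dt6c [] 8 12 where
  hn := by norm_num
  ok := ⟨by decide, by decide, by decide, by decide, by decide +kernel, by decide +kernel, by decide, by decide⟩
  ne := by decide
  hR := Cfsg.Agent.H73.Rg.Fast.chkR_of (by decide +kernel)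
  hS := Cfsg.Agent.H73.Rg.Fast.chkS_of (by decide +kernel)
  hE := by norm_num
  hE' := by norm_num
  hE30 := by norm_num
  hE30' := by norm_num
  hA := by decide +kernel

end Cfsg.Agent.H73.Rg
end

-- part: H851/Rg/KTE6
section
/-!
# S3691: half classes in `²E₆(q)`, `q ≥ 3` (helper851)

* `k1T`, `k2T` : a subgroup of `²E₆(q)` containing half of the classes 18, 12 (18, 8) is the whole group
* `k3T` : a proper subgroup containing half of the classes 8, 12 contains no element of class 18 or 10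
-/

set_option autoImplicit false

namespace Cfsg.Agent.H851.Rg

open Cfsg Cfsg.Agent.OrdDiv Cfsg.Agent.H436 Cfsg.Agent.H902 Cfsg.Agent.H902.Names Cfsg.Agent.H915.GN
  Cfsg.Agent.H290.ElReg Cfsg.Agent.H290.ElTab Cfsg.Agent.H290.ElCross Cfsg.Agent.H264.FKS Cfsg.Agent.H56.Exc
  Cfsg.Agent.H325.Loc Cfsg.Agent.H325.IsoExc Cfsg.Agent.H325.IsoFree Cfsg.Agent.H563.KG Cfsg.Agent.H73.Rg
  Cfsg.Agent.H190.Cov

/-- the orders of the tori -/
def MtE (q c : ℕ) : ℕ :=
  if c = 18 then Ph 18 q else if c = 12 then Ph 12 q * (q ^ 2 - q + 1) else Ph 8 q * (q ^ 2 - 1)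

/-- the automizers -/
def EtE (c : ℕ) : ℕ := if c = 18 then 9 else if c = 12 then 12 else 8

section

variable {F : Type} [Field F] [Fintype F] {p f : ℕ}

theorem charP_te6 (hp : p.Prime) (hf : 1 ≤ f) (hK : Fintype.card F = (p ^ f) ^ 2) : CharP F p := by
  obtain ⟨p', f', hc, hp', hf', h⟩ := exists_pf F
  rw [hK, ← pow_mul] at h
  have h1 : p' = p := by
    have h2 : p' ∣ p ^ (f * 2) := by rw [h]; exact dvd_pow_self _ (by omega)
    exact (Nat.prime_dvd_prime_iff_eq hp' hp).1 (hp'.dvd_of_dvd_pow h2)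
  rwa [← h1]

theorem mm18 {q : ℕ} (hq1 : 1 ≤ q) : ((Ph 18 q : ℕ) : ℤ) = 1 - (q : ℤ) ^ 3 + (q : ℤ) ^ 6 := by
  rw [cast_Ph18 _ hq1]; ring

theorem mm12 {q : ℕ} (hq1 : 1 ≤ q) : ((Ph 12 q * (q ^ 2 - q + 1) : ℕ) : ℤ) =
    (1 - (q : ℤ) ^ 2 + (q : ℤ) ^ 4) * (1 - (q : ℤ) + (q : ℤ) ^ 2) := by
  have hle : q ≤ q ^ 2 := Nat.le_self_pow (by norm_num) _
  rw [Nat.cast_mul, cast_Ph12 _ hq1, Nat.cast_add, Nat.cast_sub hle]; push_cast; ring

theorem mm8 {q : ℕ} (hq1 : 1 ≤ q) : ((Ph 8 q * (q ^ 2 - 1) : ℕ) : ℤ) =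
    (1 + (q : ℤ) ^ 4) * ((q : ℤ) ^ 2 - 1) := by
  rw [Nat.cast_mul, cast_Ph8, cast_sub_one hq1]; ring

theorem bigTE {c : ℕ} (hc : c = 18 ∨ c = 12 ∨ c = 8) (hp : p.Prime) (hf : 1 ≤ f) (hK : Fintype.card F = (p ^ f) ^ 2)
    {r : ℕ} (hr : Prim (p ^ f) c r) : Big ↥(Lie.twistedE6 F (p ^ f)) r (MtE (p ^ f) c) (EtE c) := by
  have hq1 : 1 ≤ p ^ f := Nat.one_le_pow _ _ hp.pos
  have hq : IsPrimePow (p ^ f) := hp.isPrimePow.pow (by omega)
  rcases hc with rfl | rfl | rfl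
  · exact big_TE6_18 hq hK (mm18 hq1) hr
  · exact big_TE6_12 hq hK (mm12 hq1) hr
  · exact Cfsg.Agent.H190.Odd.big_TE6_8 hq hK (mm8 hq1) hr

theorem mtE_dvd {q c : ℕ} (hq1 : 1 ≤ q) (hc : c = 18 ∨ c = 12 ∨ c = 8) : MtE q c ∣ q ^ c - 1 := by
  rcases hc with rfl | rfl | rfl
  · exact Ph_dvd c18 hq1
  · refine dvd_of_cast (c := ((q : ℤ) ^ 2 + 1) * ((q : ℤ) ^ 2 - 1) * ((q : ℤ) ^ 2 + q + 1)) ?_
    have h1 : MtE q 12 = Ph 12 q * (q ^ 2 - q + 1) := rfl
    rw [h1, cast_sub_one hq1, mm12 hq1]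
    ring
  · refine dvd_of_cast (c := ((q : ℤ) ^ 2 + 1)) ?_
    have h1 : MtE q 8 = Ph 8 q * (q ^ 2 - 1) := rfl
    rw [h1, cast_sub_one hq1, mm8 hq1]
    ring

theorem etE_le {c s : ℕ} (hc : c = 18 ∨ c = 12 ∨ c = 8) (hs : s.Prime) (h : s ∣ EtE c) : s ≤ 7 := by
  rcases hc with rfl | rfl | rfl
  · exact le_seven'' hs (n := 9) (by omega) h
  · exact le_seven hs (n := 12) (by omega) h
  · exact le_seven'' hs (n := 8) (by omega) h

/-- `L₂(73)` is excluded by its automizers -/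
theorem exc73 {B : Type} [Group B] [Finite B] {S : Subgroup B}
    (hcon : ConH p f (MtE (p ^ f)) EtE 18 12 S) (hp : p.Prime) (hf : 1 ≤ f) {g : Grp} {X : Art.Sh} {l a : ℕ}
    (hl : l.Prime) (hg : IsNamed g S) (hgl : IsLie g X l a) (hx : (X, (l, a)) ∈ [((Art.Sh.L 2 : Art.Sh), (73, 1))]) :
    False := by
  rw [List.mem_singleton] at hx
  simp only [Prod.mk.injEq] at hx
  obtain ⟨rfl, rfl, rfl⟩ := hx
  cases hgl
  obtain ⟨r, hr, hrS⟩ := hcon.h1 18 (by simp)
  obtain ⟨s, hs, hsS⟩ := hcon.h1 12 (by simp)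
  have hcard : Nat.card S = 2 ^ 3 * 3 ^ 2 * 37 * 73 := by
    have h1 := hg.eq
    have h2 : den (.psl 2 (73 ^ 1)) = 144 := by decide +kernel
    have h3 : num (.psl 2 (73 ^ 1)) = 144 * (2 ^ 3 * 3 ^ 2 * 37 * 73) := by decide +kernel
    rw [h2, h3] at h1
    exact Nat.eq_of_mul_eq_mul_left (by norm_num) h1
  have key : ∀ {c x : ℕ}, 12 ≤ c → Prim p (f * c) x → x ∣ Nat.card S → x = 37 ∨ x = 73 := by
    intro c x hc hx hxS
    have h1 := mod_of_prim' hp.two_le hx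
    have h2 := hx.prime.two_le
    have h3 := Nat.le_of_dvd (by omega) h1
    have h4 : 1 * c ≤ f * c := Nat.mul_le_mul_right _ hf
    rw [hcard] at hxS
    rcases hx.prime.dvd_mul.1 hxS with h5 | h5
    · rcases hx.prime.dvd_mul.1 h5 with h6 | h6
      · exfalso
        rcases hx.prime.dvd_mul.1 h6 with h7 | h7
        · have := Nat.le_of_dvd (by norm_num) (hx.prime.dvd_of_dvd_pow h7)
          omega
        · have := Nat.le_of_dvd (by norm_num) (hx.prime.dvd_of_dvd_pow h7)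
          omega
      · exact Or.inl ((Nat.prime_dvd_prime_iff_eq hx.prime (by norm_num)).1 h6)
    · exact Or.inr ((Nat.prime_dvd_prime_iff_eq hx.prime (by norm_num)).1 h5)
  have k1 := key (by norm_num) hr hrS
  have k2 := key (by norm_num) hs hsS
  have hrs : r ≠ s := by
    rintro rfl
    have h1 : f * 18 = f * 12 := by
      exact Cfsg.Agent.H190.Cov.Prim.unique hr hs
    omega
  have hgen : ∀ {e : ℕ}, Big S 73 (MtE (p ^ f) e) (EtE e) → (e = 18 ∨ e = 12) → False := by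
    intro e hb he
    obtain ⟨K, _, _, hK, ⟨Φ⟩⟩ := hg.real
    have h1 := Cfsg.Agent.H427.Rg.psl_aut (l := 73) (by norm_num) (by norm_num) (F := K) (by rw [hK, pow_one]) Φ hb
    rcases he with rfl | rfl
    · exact absurd h1 (by decide)
    · exact absurd h1 (by decide)
  rcases k1 with rfl | rfl
  · rcases k2 with rfl | rfl
    · exact hrs rfl
    · exact hgen (hcon.prs 12 (by simp) 73 hs (hsS.trans (Subgroup.card_subgroup_dvd_card S))).1 (Or.inr rfl)
  · exact hgen (hcon.prs 18 (by simp) 73 hr (hrS.trans (Subgroup.card_subgroup_dvd_card S))).1 (Or.inl rfl)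

/-- the order -/
theorem card_te6_dvd (tb : OrderTable.{0}) (hp : p.Prime) (hf : 1 ≤ f) (hK : Fintype.card F = (p ^ f) ^ 2) :
    Nat.card ↥(Lie.twistedE6 F (p ^ f)) ∣ OL .TE6 (p ^ f) := by
  have hT := named_te6 (F := F) tb (hp.isPrimePow.pow (by omega)) hK
  have hOL : num (.te6 (p ^ f)) = OL .TE6 (p ^ f) := rfl
  rw [← hOL, ← hT.eq]
  exact Dvd.intro_left _ rfl

/-- reducedness -/
def RedT (F : Type) [Field F] [Fintype F] (p f c c' : ℕ) : Prop :=
  ∀ B : Subgroup ↥(Lie.twistedE6 F (p ^ f)), HAt p f c B → HAt p f c' B →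
    Red ↥B (Pr (FmH p f [c, c'] (MtE (p ^ f)) EtE (Nat.card B)))

/-- **the classes 18, 12** -/
theorem k1T (tb : OrderTable.{0}) (hcyc : CycFixSolv.{0}) (hcf : CF) (hp : p.Prime) (hf : 1 ≤ f)
    (hK : Fintype.card F = (p ^ f) ^ 2) (hq3 : 3 ≤ p ^ f) (hred : RedT F p f 18 12)
    (B : Subgroup ↥(Lie.twistedE6 F (p ^ f))) (h : HOff p f [18, 12] B) : B = ⊤ := by
  have := charP_te6 hp hf hK
  have hfin : Finite ↥(Lie.twistedE6 F (p ^ f)) := inferInstance
  have hq : IsPrimePow (p ^ f) := hp.isPrimePow.pow (by omega)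
  have hT := named_te6 (F := F) tb hq hK
  have hq1 : 1 ≤ p ^ f := by omega
  have h18 : HAt p f 18 B := h 18 (by simp)
  have h12 : HAt p f 12 B := h 12 (by simp)
  have hmem : ∀ c ∈ [18, 12], c = 18 ∨ c = 12 ∨ c = 8 := by decide
  have hsep : ∀ c ∈ [18, 12], ¬ Nat.card B ∣ EtE c * MtE (p ^ f) c :=
    sepH hp hf (by norm_num) (by norm_num) h18 h12 (fun c hc => mtE_dvd hq1 (hmem c hc))
      (fun c hc s hs hd => etE_le (hmem c hc) hs hd) (by norm_num) (by norm_num)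
  obtain ⟨S, hcon, g, hg, hch⟩ := mainR (E := EtE) (M := MtE (p ^ f)) tb hcyc hcf altAut (D := Dt6b) tblH_t6b hp hf hq3
    (F := F) (fth_TE6 _) (card_te6_dvd tb hp hf hK) (fun c hc r hr => bigTE (hmem c hc) hp hf hK hr) h18 h12 hsep
    (by intro c hc; exact absurd hc List.not_mem_nil) (hred B h18 h12)
    (fun S hcon g l X a hl hg hgl hx => exc73 hcon hp hf hl hg hgl hx)
  have hdS : Nat.card S ∣ num (.te6 (p ^ f)) := IsNamed.card_dvd hT S
  have hh1 : Cfsg.Agent.H72.Same.H1 p f 18 (Nat.card S) := hcon.h1 18 (by simp [Dt6b])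
  have hh2 : Cfsg.Agent.H72.Same.H1 p f 12 (Nat.card S) := hcon.h1 12 (by simp [Dt6b])
  rcases Cfsg.Agent.H72.Same.charp_te6_reg hp hf hg.cond hch hg.eq hdS hh1 hh2 with rfl | rfl
  · exact eq_top_of_name hT hg
  · exfalso
    obtain ⟨r, hr, hrS⟩ := hh1
    exact kill_psu4 hp hf hg (prim_q hf hr)
      (hcon.prs 18 (by simp [Dt6b]) r hr (hrS.trans (Subgroup.card_subgroup_dvd_card S))).1.card

/-- **the classes 18, 8** -/
theorem k2T (tb : OrderTable.{0}) (hcyc : CycFixSolv.{0}) (hcf : CF) (hp : p.Prime) (hf : 1 ≤ f)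
    (hK : Fintype.card F = (p ^ f) ^ 2) (hq3 : 3 ≤ p ^ f) (hred : RedT F p f 18 8)
    (B : Subgroup ↥(Lie.twistedE6 F (p ^ f))) (h : HOff p f [18, 8] B) : B = ⊤ := by
  have := charP_te6 hp hf hK
  have hfin : Finite ↥(Lie.twistedE6 F (p ^ f)) := inferInstance
  have hq : IsPrimePow (p ^ f) := hp.isPrimePow.pow (by omega)
  have hT := named_te6 (F := F) tb hq hK
  have hq1 : 1 ≤ p ^ f := by omega
  have h18 : HAt p f 18 B := h 18 (by simp)
  have h8 : HAt p f 8 B := h 8 (by simp)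
  have hmem : ∀ c ∈ [18, 8], c = 18 ∨ c = 12 ∨ c = 8 := by decide
  have hsep : ∀ c ∈ [18, 8], ¬ Nat.card B ∣ EtE c * MtE (p ^ f) c :=
    sepH hp hf (by norm_num) (by norm_num) h18 h8 (fun c hc => mtE_dvd hq1 (hmem c hc))
      (fun c hc s hs hd => etE_le (hmem c hc) hs hd) (by norm_num) (by norm_num)
  obtain ⟨S, hcon, g, hg, hch⟩ := mainR (E := EtE) (M := MtE (p ^ f)) tb hcyc hcf altAut (D := Dt6a) tblH_t6a hp hf hq3
    (F := F) (fth_TE6 _) (card_te6_dvd tb hp hf hK) (fun c hc r hr => bigTE (hmem c hc) hp hf hK hr) h18 h8 hsep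
    (by intro c hc; exact absurd hc List.not_mem_nil) (hred B h18 h8)
    (fun S hcon g l X a hl hg hgl hx => absurd hx (by simp))
  have hdS : Nat.card S ∣ num (.te6 (p ^ f)) := IsNamed.card_dvd hT S
  have hh1 : Cfsg.Agent.H72.Same.H1 p f 18 (Nat.card S) := hcon.h1 18 (by simp [Dt6a])
  have hh2 : Cfsg.Agent.H72.Same.H1 p f 8 (Nat.card S) := hcon.h1 8 (by simp [Dt6a])
  obtain rfl := Cfsg.Agent.H72.Same.charp_te6_818 hp hf hg.cond hch hg.eq hdS hh2 hh1
  exact eq_top_of_name hT hg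

/-- a prime of class 18 or 10 does not divide the order of `F₄(q)` -/
theorem not_dvd_f4 {q r d : ℕ} (hr : Prim q d r) (hd : d = 18 ∨ d = 10) : ¬ r ∣ num (.f4 q) := by
  intro h
  have h1 : r ∣ q ^ 24 * ((q ^ 2 - 1) * (q ^ 6 - 1) * (q ^ 8 - 1) * (q ^ 12 - 1)) := h
  have h2 : ∀ k, r ∣ q ^ k - 1 → d ∣ k := fun k hk => (hr.dvd_iff k).1 hk
  rcases hr.prime.dvd_mul.1 h1 with h3 | h3
  · exact hr.not_dvd (hr.prime.dvd_of_dvd_pow h3)
  rcases hr.prime.dvd_mul.1 h3 with h3 | h3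
  · rcases hr.prime.dvd_mul.1 h3 with h3 | h3
    · rcases hr.prime.dvd_mul.1 h3 with h3 | h3
      · have := h2 _ h3
        rcases hd with rfl | rfl <;> norm_num at this
      · have := h2 _ h3
        rcases hd with rfl | rfl <;> norm_num at this
    · have := h2 _ h3
      rcases hd with rfl | rfl <;> norm_num at this
  · have := h2 _ h3
    rcases hd with rfl | rfl <;> norm_num at this

/-- **the classes 8, 12** -/
theorem k3T (tb : OrderTable.{0}) (hcyc : CycFixSolv.{0}) (hcf : CF) (hp : p.Prime) (hf : 1 ≤ f)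
    (hK : Fintype.card F = (p ^ f) ^ 2) (hq3 : 3 ≤ p ^ f) (hred : RedT F p f 8 12)
    (B : Subgroup ↥(Lie.twistedE6 F (p ^ f))) (hne : B ≠ ⊤) (h : HOff p f [8, 12] B) :
    (∀ r, Prim (p ^ f) 18 r → ¬ r ∣ Nat.card B) ∧ ∀ r, Prim (p ^ f) 10 r → ¬ r ∣ Nat.card B := by
  have := charP_te6 hp hf hK
  have hfin : Finite ↥(Lie.twistedE6 F (p ^ f)) := inferInstance
  have hq : IsPrimePow (p ^ f) := hp.isPrimePow.pow (by omega)
  have hT := named_te6 (F := F) tb hq hK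
  have hq1 : 1 ≤ p ^ f := by omega
  have h8 : HAt p f 8 B := h 8 (by simp)
  have h12 : HAt p f 12 B := h 12 (by simp)
  have hmem : ∀ c ∈ [8, 12], c = 18 ∨ c = 12 ∨ c = 8 := by decide
  have hsep : ∀ c ∈ [8, 12], ¬ Nat.card B ∣ EtE c * MtE (p ^ f) c :=
    sepH hp hf (by norm_num) (by norm_num) h8 h12 (fun c hc => mtE_dvd hq1 (hmem c hc))
      (fun c hc s hs hd => etE_le (hmem c hc) hs hd) (by norm_num) (by norm_num)
  obtain ⟨S, hcon, g, hg, hch⟩ := mainR (E := EtE) (M := MtE (p ^ f)) tb hcyc hcf altAut (D := Dt6c) tblH_t6c hp hf hq3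
    (F := F) (fth_TE6 _) (card_te6_dvd tb hp hf hK) (fun c hc r hr => bigTE (hmem c hc) hp hf hK hr) h8 h12 hsep
    (by intro c hc; exact absurd hc List.not_mem_nil) (hred B h8 h12)
    (fun S hcon g l X a hl hg hgl hx => absurd hx (by simp))
  have hdS : Nat.card S ∣ num (.te6 (p ^ f)) := IsNamed.card_dvd hT S
  have hh1 : Cfsg.Agent.H72.Same.H1 p f 8 (Nat.card S) := hcon.h1 8 (by simp [Dt6c])
  have hh2 : Cfsg.Agent.H72.Same.H1 p f 12 (Nat.card S) := hcon.h1 12 (by simp [Dt6c])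
  rcases Cfsg.Agent.H72.Same.charp_te6_812 hp hf hg.cond hch hg.eq hdS hh1 hh2 with rfl | rfl | rfl
  · exact absurd (eq_top_of_name hT hg) hne
  · have key : ∀ r d, (d = 18 ∨ d = 10) → Prim (p ^ f) d r → ¬ r ∣ Nat.card B := by
      intro r d hd hr hrB
      rw [← S.card_mul_index] at hrB
      have hd8 : ¬ d ∣ 8 := by rcases hd with rfl | rfl <;> norm_num
      rcases hr.prime.dvd_mul.1 hrB with h1 | h1
      · exact not_dvd_f4 hr hd (hg.eq ▸ h1.mul_left _)
      · have h2 := h1.trans (hcon.idx 8 (by simp [Dt6c]))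
        rcases hr.prime.dvd_mul.1 h2 with h3 | h3
        · have h4 : r ∣ 2 ^ 3 := h3
          have h5 := Nat.le_of_dvd (by norm_num) (hr.prime.dvd_of_dvd_pow h4)
          have h6 := lt_of_prim (by omega) (by omega) hr
          omega
        · exact hd8 ((hr.dvd_iff 8).1 (h3.trans (mtE_dvd hq1 (by omega))))
    exact ⟨fun r hr => key r 18 (Or.inl rfl) hr, fun r hr => key r 10 (Or.inr rfl) hr⟩
  · exfalso
    obtain ⟨r, hr, hrS⟩ := hh1
    exact kill_psl3_big hp hf hg (prim_q hf hr)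
      (hcon.prs 8 (by simp [Dt6c]) r hr (hrS.trans (Subgroup.card_subgroup_dvd_card S))).1.card

end

end Cfsg.Agent.H851.Rg
end

-- part: H70/Rg/RedT6
section
/-!
# Reducedness for half classes in `²E₆(q)`, `3 ≤ q` (helper70)

`redT_18_12`, `redT_18_8`, `redT_8_12` : the hypotheses `RedT` of `H851/Rg/KTE6.lean`.
-/

set_option autoImplicit false

namespace Cfsg.Agent.H70.Rg

open Cfsg Cfsg.Agent.OrdDiv Cfsg.Agent.H436 Cfsg.Agent.H902 Cfsg.Agent.H902.Names Cfsg.Agent.H915.GN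
  Cfsg.Agent.H290.ElReg Cfsg.Agent.H290.ElTab Cfsg.Agent.H290.ElCross Cfsg.Agent.H264.FKS Cfsg.Agent.H56.Exc
  Cfsg.Agent.H325.Loc Cfsg.Agent.H325.IsoExc Cfsg.Agent.H325.IsoFree Cfsg.Agent.H563.KG Cfsg.Agent.H73.Rg
  Cfsg.Agent.H190.Cov Cfsg.Agent.H190.Odd Cfsg.Agent.H851.Rg

section

variable {F : Type} [Field F] [Fintype F] {p f : ℕ}

theorem ordT18 (hp : p.Prime) (hf : 1 ≤ f) (hK : Fintype.card F = (p ^ f) ^ 2) :
    _root_.Cfsg.Agent.H563.KG.Ord ↥(Lie.twistedE6 F (p ^ f)) (p ^ f) 18 (ncl 18 (p ^ f)) := by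
  intro r hr x hx
  rw [← ncl18_eq (Nat.one_le_pow _ _ hp.pos)]
  exact (Cfsg.Agent.H190.Exc.te6_18 (hp.isPrimePow.pow (by omega)) hK hr).2 x hx

theorem ordT12 (hp : p.Prime) (hf : 1 ≤ f) (hK : Fintype.card F = (p ^ f) ^ 2) :
    _root_.Cfsg.Agent.H563.KG.Ord ↥(Lie.twistedE6 F (p ^ f)) (p ^ f) 12 (Ph 12 (p ^ f) * ((p ^ f) ^ 2 - p ^ f + 1)) :=
  fun _ hr x hx => (bigTE (c := 12) (by omega) hp hf hK hr).card x hx

theorem ordT8 (hp : p.Prime) (hf : 1 ≤ f) (hK : Fintype.card F = (p ^ f) ^ 2) :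
    _root_.Cfsg.Agent.H563.KG.Ord ↥(Lie.twistedE6 F (p ^ f)) (p ^ f) 8 (Ph 8 (p ^ f) * ((p ^ f) ^ 2 - 1)) :=
  fun _ hr x hx => (bigTE (c := 8) (by omega) hp hf hK hr).card x hx

/-- the frame -/
theorem redT_of (hcyc : CycFixSolv.{0}) (hp : p.Prime) (hf : 1 ≤ f) (hK : Fintype.card F = (p ^ f) ^ 2) {c c' : ℕ}
    (hm : ∀ e ∈ [c, c'], e = 18 ∨ e = 12 ∨ e = 8) {c₀ : ℕ} (hc₀ : c₀ ∈ [c, c']) (h₀ : c₀ = 12 ∨ c₀ = 18)
    (hg : ∀ B : Subgroup ↥(Lie.twistedE6 F (p ^ f)), HAt p f c B → HAt p f c' B → ∀ t : ℕ, t.Prime → t ≠ p →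
      ¬ Prim p (f * c) t → ¬ Prim p (f * c') t → t ∣ Nat.card B → _root_.Cfsg.Agent.H563.KG.Good B 78 t ∨ KillB B t) : RedT F p f c c' := by
  intro B h1 h2
  have := Fact.mk hp
  have := charP_te6 hp hf hK
  have hfin : Finite ↥(Lie.twistedE6 F (p ^ f)) := inferInstance
  have hH : HAt p f c₀ B := by
    simp only [List.mem_cons, List.not_mem_nil, or_false] at hc₀
    rcases hc₀ with rfl | rfl
    · exact h1
    · exact h2
  obtain ⟨r₀, hr₀, hr₀B⟩ := hH.exists_prim hp.two_le hf (by omega) (by omega)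
  exact redK (n := 78) hcyc hp hf (F := F) (fth_TE6 _) (fun e he r hr => bigTE (hm e he) hp hf hK hr) hc₀ hr₀
    (piso_twE6 (hp.isPrimePow.pow (by omega)) hK h₀ (prim_q hf hr₀)) hr₀B
    fun t ht htp htn htB => hg B h1 h2 t ht htp (htn c (by simp)) (htn c' (by simp)) htB

theorem redT_18_12 (tb : OrderTable.{0}) (hcyc : CycFixSolv.{0}) (hp : p.Prime) (hf : 1 ≤ f)
    (hK : Fintype.card F = (p ^ f) ^ 2) (hq3 : 3 ≤ p ^ f) : RedT F p f 18 12 :=
  redT_of hcyc hp hf hK (by decide) (c₀ := 18) (by simp) (Or.inr rfl) fun B h1 h2 t ht htp hn hn' htB => by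
    have hfin : Finite ↥(Lie.twistedE6 F (p ^ f)) := inferInstance
    exact good_te6_18_12 hp hf hq3 ((ordT18 hp hf hK).sub B) ((ordT12 hp hf hK).sub B)
      ((Subgroup.card_subgroup_dvd_card B).trans (card_te6_dvd tb hp hf hK)) h1.half h2.half ht hn hn'

theorem redT_18_8 (tb : OrderTable.{0}) (hcyc : CycFixSolv.{0}) (hp : p.Prime) (hf : 1 ≤ f)
    (hK : Fintype.card F = (p ^ f) ^ 2) (hq3 : 3 ≤ p ^ f) : RedT F p f 18 8 :=
  redT_of hcyc hp hf hK (by decide) (c₀ := 18) (by simp) (Or.inr rfl) fun B h1 h2 t ht htp hn hn' htB => by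
    have hfin : Finite ↥(Lie.twistedE6 F (p ^ f)) := inferInstance
    exact good_te6_18_8 hp hf hq3 ((ordT18 hp hf hK).sub B) ((ordT8 hp hf hK).sub B)
      ((Subgroup.card_subgroup_dvd_card B).trans (card_te6_dvd tb hp hf hK)) h1.half h2.half ht hn hn'

theorem redT_8_12 (tb : OrderTable.{0}) (hcyc : CycFixSolv.{0}) (hp : p.Prime) (hf : 1 ≤ f)
    (hK : Fintype.card F = (p ^ f) ^ 2) (hq3 : 3 ≤ p ^ f) : RedT F p f 8 12 :=
  redT_of hcyc hp hf hK (by decide) (c₀ := 12) (by simp) (Or.inl rfl) fun B h1 h2 t ht htp hn hn' htB => by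
    have hfin : Finite ↥(Lie.twistedE6 F (p ^ f)) := inferInstance
    refine good_te6_8_12 hp hf hq3 ((ordT8 hp hf hK).sub B) ?_ ((ordT12 hp hf hK).sub B) ?_
      ((Subgroup.card_subgroup_dvd_card B).trans (card_te6_dvd tb hp hf hK)) h1.half h2.half ht htp hn hn' htB
    · intro r hr x hx
      exact ((bigTE (c := 8) (by omega) hp hf hK hr).subgroup B).cyc x hx
    · intro h3 r hr x hx h
      exact (exact_te6_12 (hp.isPrimePow.pow (by omega)) hK h3 hr (x := (x : ↥(Lie.twistedE6 F (p ^ f))))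
        (by rw [Subgroup.orderOf_coe]; exact hx)).2 (h.trans (card_centralizer_sub B x))

/-- **the classes 18, 12** -/
theorem te6_18_12 (tb : OrderTable.{0}) (hcyc : CycFixSolv.{0}) (hcf : CF) (hp : p.Prime) (hf : 1 ≤ f)
    (hK : Fintype.card F = (p ^ f) ^ 2) (hq3 : 3 ≤ p ^ f)
    (B : Subgroup ↥(Lie.twistedE6 F (p ^ f))) (h : HOff p f [18, 12] B) : B = ⊤ :=
  k1T tb hcyc hcf hp hf hK hq3 (redT_18_12 tb hcyc hp hf hK hq3) B h

/-- **the classes 18, 8** -/
theorem te6_18_8 (tb : OrderTable.{0}) (hcyc : CycFixSolv.{0}) (hcf : CF) (hp : p.Prime) (hf : 1 ≤ f)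
    (hK : Fintype.card F = (p ^ f) ^ 2) (hq3 : 3 ≤ p ^ f)
    (B : Subgroup ↥(Lie.twistedE6 F (p ^ f))) (h : HOff p f [18, 8] B) : B = ⊤ :=
  k2T tb hcyc hcf hp hf hK hq3 (redT_18_8 tb hcyc hp hf hK hq3) B h

/-- **the classes 8, 12** -/
theorem te6_8_12 (tb : OrderTable.{0}) (hcyc : CycFixSolv.{0}) (hcf : CF) (hp : p.Prime) (hf : 1 ≤ f)
    (hK : Fintype.card F = (p ^ f) ^ 2) (hq3 : 3 ≤ p ^ f)
    (B : Subgroup ↥(Lie.twistedE6 F (p ^ f))) (hne : B ≠ ⊤) (h : HOff p f [8, 12] B) :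
    (∀ r, Prim (p ^ f) 18 r → ¬ r ∣ Nat.card B) ∧ ∀ r, Prim (p ^ f) 10 r → ¬ r ∣ Nat.card B :=
  k3T tb hcyc hcf hp hf hK hq3 (redT_8_12 tb hcyc hp hf hK hq3) B hne h

end

end Cfsg.Agent.H70.Rg
end

-- part: H95/Rg/CentH
section
/-!
# Half classes: elements centralising a normal elementary abelian subgroup (helper95)

`cent_syl` : in a linear group of degree `n` an element of prime order `r` (big) centralises a normal elementary abelian
`t`-subgroup, if the order of the Sylow `r`-subgroups is larger than `n`, or if `r` divides no `t ^ k - 1` with `t ^ k`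
dividing the order.
`exc_of` : the pairs `(k, p)` such that half of the `p`-primitive part of `p ^ k - 1` consists of small primes.
-/

set_option autoImplicit false

namespace Cfsg.Agent.H95.Rg

open Cfsg Cfsg.Agent.OrdDiv Cfsg.Agent.H436 Cfsg.Agent.H902 Cfsg.Agent.H290.ElReg Cfsg.Agent.H290.ElTab
  Cfsg.Agent.H56.Exc Cfsg.Agent.H325.Loc Cfsg.Agent.H563.KG Cfsg.Agent.H325.Cov Cfsg.Agent.H73.Rg

section

variable {F : Type} [Field F] {p n : ℕ}

theorem cent_syl {T : Type} [Group T] [Finite T] (hp : p.Prime) [CharP F p] (hrep : Fth n F T) {B : Subgroup T}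
    {t r m e : ℕ} (ht : t.Prime) (htp : t ≠ p) (htr : t ≠ r) (hb : Big T r m e) (hrB : r ∣ Nat.card B)
    {A : Subgroup B} (hAn : A.Normal) (hA : ∀ a ∈ A, ∀ b ∈ A, a * b = b * a) (hAt : ∀ a ∈ A, a ^ t = 1)
    (h : n < r ^ (Nat.card B).factorization r ∨ ∀ k, 0 < k → t ^ k ∣ Nat.card B → ¬ r ∣ t ^ k - 1) :
    ∃ x : B, orderOf x = r ∧ ∀ a ∈ A, x * a = a * x := by
  have := Fact.mk hp
  have hbB := hb.subgroup B
  have hr := hb.prime
  have := Fact.mk hr
  obtain ⟨τ, hτ⟩ := hrep.sub B.subtype B.subtype_injective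
  -- the commutation
  have hC : ∀ y : B, ∀ k, orderOf y = r ^ k → ∀ j : ℕ, (orderOf (y ^ j)).Prime → ∀ a ∈ A, y ^ j * a = a * y ^ j →
      y * a = a * y := by
    intro y k hy j hj a ha hja
    have h1 : orderOf (y ^ j) ∣ r ^ k := hy ▸ orderOf_pow_dvd j
    have h2 : orderOf (y ^ j) = r := (Nat.prime_dvd_prime_iff_eq hj hr).1 (hj.dvd_of_dvd_pow h1)
    have h3 := hbB.cyc (y ^ j) h2
    let _ := IsCyclic.commGroup (α := ↥(Subgroup.centralizer ({y ^ j} : Set B)))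
    have ha' : a ∈ Subgroup.centralizer ({y ^ j} : Set B) := Subgroup.mem_centralizer_singleton_iff.2 hja.symm
    have hz' : y ∈ Subgroup.centralizer ({y ^ j} : Set B) :=
      Subgroup.mem_centralizer_singleton_iff.2 ((Commute.refl y).pow_right j).eq
    exact congrArg Subtype.val (mul_comm (⟨y, hz'⟩ : ↥(Subgroup.centralizer ({y ^ j} : Set B))) ⟨a, ha'⟩)
  rcases h with h | h
  · obtain ⟨P⟩ : Nonempty (Sylow r B) := inferInstance
    have hcy := hbB.isCyclic_sylow P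
    obtain ⟨g, hg⟩ := hcy.exists_generator
    have hcard : Nat.card ↥(P : Subgroup B) = r ^ (Nat.card B).factorization r := P.card_eq_multiplicity
    have hgo : orderOf (g : B) = r ^ (Nat.card B).factorization r := by
      rw [Subgroup.orderOf_coe, ← hcard]
      exact orderOf_eq_card_of_forall_mem_zpowers hg
    have hk0 : (Nat.card B).factorization r ≠ 0 := by
      intro h0
      have := (hr.dvd_iff_one_le_factorization Nat.card_pos.ne').1 hrB
      omega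
    have htm : ¬ t ∣ r ^ (Nat.card B).factorization r := fun h1 =>
      htr ((Nat.prime_dvd_prime_iff_eq ht hr).1 (ht.dvd_of_dvd_pow h1))
    have h1 := cent_all hτ hAn hA ht htp hAt hgo htm (hC g _ hgo) (Or.inl (by rwa [Fintype.card_fin]))
    have hd : r ∣ orderOf (g : B) := by rw [hgo]; exact dvd_pow_self r hk0
    refine ⟨(g : B) ^ (orderOf (g : B) / r), orderOf_part hd, fun a ha => ?_⟩
    exact (Commute.pow_left (show Commute (g : B) a from h1 a ha) _).eq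
  · obtain ⟨x, hx⟩ := exists_prime_orderOf_dvd_card' r hrB
    refine ⟨x, hx, ?_⟩
    have htm : ¬ t ∣ r := fun h1 => htr ((Nat.prime_dvd_prime_iff_eq ht hr).1 h1)
    exact cent_all hτ hAn hA ht htp hAt hx htm (hC x 1 (by rw [hx, pow_one])) (Or.inr ⟨hr, h⟩)

end

/-! ### the exceptions -/

/-- the small primes congruent to 1 modulo `k` -/
def Sk (k : ℕ) : List ℕ := sps.filter fun r => decide (r ≤ 133) && r % k == 1

/-- their product -/
def Mk (k : ℕ) : ℕ := (Sk k).prod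

/-- the exceptions `(k, p, r)` -/
def exl : List (ℕ × ℕ × ℕ) :=
  [(7, 2, 127), (14, 2, 43), (28, 2, 113), (9, 2, 73), (18, 2, 19), (18, 3, 37), (18, 41, 37), (18, 41, 19),
    (36, 2, 109)]

/-- the test -/
def okc (k p : ℕ) : Bool :=
  let P := pc p k
  let g := Nat.gcd (Mk k) P
  decide (g ^ 2 < P) || (exl.any (fun x => x.1 == k && x.2.1 == p) &&
    exl.all fun x => !(x.1 == k && x.2.1 == p) || g % x.2.2 == 0 && decide ((g / x.2.2) ^ 2 < P))

/-- the bounds -/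
def bdl : List (ℕ × ℕ) :=
  [(7, 1499), (9, 1287), (14, 1682), (18, 1445), (21, 6), (27, 3), (28, 6), (35, 2), (36, 11), (42, 6), (54, 3), (56, 2),
    (63, 2), (70, 2), (72, 2), (108, 2), (112, 2), (126, 2)]

/-- a test satisfied by the primes -/
def tp (p : ℕ) : Bool := sps.all fun l => p % l != 0 || p == l

theorem tp_of_prime {p : ℕ} (hp : p.Prime) : tp p = true := by
  unfold tp
  rw [List.all_eq_true]
  intro l hl
  simp only [Bool.or_eq_true, bne_iff_ne, ne_eq, beq_iff_eq]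
  by_cases h : p % l = 0
  · right
    exact ((Nat.prime_dvd_prime_iff_eq (sps_prime l hl) hp).1 (Nat.dvd_of_mod_eq_zero h)).symm
  · exact Or.inl h

/-- the check of `k` -/
def chk (x : ℕ × ℕ) : Bool :=
  okk x.1 && decide ((Mk x.1) ^ 2 * x.1 < x.2 ^ Nat.totient x.1) &&
    (List.range (x.2 + 1)).all fun p => decide (p < 2) || !tp p || okc x.1 p

set_option exponentiation.threshold 7000 in
theorem chk_all : (bdl.all chk) = true := by decide +kernel

theorem ks_all : ((List.range 133).all fun k => decide (k < 7) || (k % 7 != 0 && k % 9 != 0) || Mk k == 1 ||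
    bdl.any fun x => x.1 == k) = true := by decide +kernel

theorem exl_prime : (exl.all fun x => decide (x.2.2.Prime)) = true := by decide +kernel

theorem mem_sps : ∀ r < 134, r.Prime → r ∈ sps := by decide +kernel

theorem Mk_big {k : ℕ} (hk : 133 ≤ k) : Mk k = 1 := by
  have h : Sk k = [] := by
    unfold Sk
    rw [List.filter_eq_nil_iff]
    intro r hr h
    simp only [Bool.and_eq_true, decide_eq_true_eq, beq_iff_eq] at h
    have h2 := (sps_prime r hr).two_le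
    rcases Nat.lt_or_ge r k with h3 | h3
    · rw [Nat.mod_eq_of_lt h3] at h
      omega
    · obtain rfl : r = k := by omega
      rw [Nat.mod_self] at h
      omega
  unfold Mk
  rw [h, List.prod_nil]

theorem exc_of {k p m : ℕ} (hp : p.Prime) (hk : 7 ∣ k ∨ 9 ∣ k) (hk0 : 0 < k) (hm : m ∣ PP p k) (hm2 : PP p k ≤ m ^ 2)
    (hsm : ∀ r, r.Prime → r ∣ m → r ≤ 133 ∧ ¬ r ^ 2 ∣ m) :
    (∃ r, (k, p, r) ∈ exl) ∧ ∀ r, (k, p, r) ∈ exl → r ∣ m := by
  have hk7 : 7 ≤ k := by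
    rcases hk with h | h
    · exact Nat.le_of_dvd hk0 h
    · exact (show 7 ≤ 9 by norm_num).trans (Nat.le_of_dvd hk0 h)
  have hP := one_lt_PP (k := k) hp.two_le (by omega) (by omega)
  have hm0 : 0 < m := Nat.pos_of_ne_zero fun h => by
    rw [h] at hm2
    omega
  have hmM : m ∣ Mk k := by
    rw [Nat.dvd_iff_prime_pow_dvd_dvd]
    intro r j hr hj
    rcases Nat.eq_zero_or_pos j with rfl | hj0
    · rw [pow_zero]; exact one_dvd _
    have hrm : r ∣ m := (dvd_pow_self r hj0.ne').trans hj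
    have hj1 : j = 1 := by
      by_contra h
      exact (hsm r hr hrm).2 ((pow_dvd_pow r (show 2 ≤ j by omega)).trans hj)
    rw [hj1, pow_one]
    refine List.dvd_prod ?_
    have h1 := (hsm r hr hrm).1
    have h2 := mod_of_prim' hp.two_le (prim_of_dvd_PP hp.two_le (by omega) hr (hrm.trans hm))
    unfold Sk
    rw [List.mem_filter]
    refine ⟨mem_sps r (by omega) hr, ?_⟩
    simp only [Bool.and_eq_true, decide_eq_true_eq, beq_iff_eq]
    refine ⟨h1, ?_⟩
    obtain ⟨c, hc⟩ := h2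
    have h3 : r = 1 + k * c := by have := hr.two_le; omega
    rw [h3, Nat.add_mul_mod_self_left, Nat.mod_eq_of_lt (by omega)]
  have hMk : Mk k ≠ 1 := by
    intro h
    rw [h, Nat.dvd_one] at hmM
    rw [hmM] at hm2
    omega
  have hlt : k < 133 := by
    by_contra h
    exact hMk (Mk_big (by omega))
  have hex : ∃ x ∈ bdl, x.1 = k := by
    have h1 := List.all_eq_true.1 ks_all k (List.mem_range.2 hlt)
    simp only [Bool.or_eq_true, decide_eq_true_eq, Bool.and_eq_true, bne_iff_ne, ne_eq, beq_iff_eq,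
      List.any_eq_true] at h1
    rcases h1 with ((h1 | h1) | h1) | h1
    · omega
    · exfalso
      rcases hk with h2 | h2
      · exact h1.1 (Nat.mod_eq_zero_of_dvd h2)
      · exact h1.2 (Nat.mod_eq_zero_of_dvd h2)
    · exact absurd h1 hMk
    · exact h1
  obtain ⟨⟨k', b⟩, hx, rfl⟩ := hex
  simp only at *
  have hc := List.all_eq_true.1 chk_all _ hx
  unfold chk okk at hc
  simp only [Bool.and_eq_true, decide_eq_true_eq, beq_iff_eq, List.all_eq_true, List.mem_range, Bool.or_eq_true,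
    Bool.not_eq_true'] at hc
  obtain ⟨⟨hc1, hc2⟩, hc3⟩ := hc
  have hMk0 : 0 < Mk k' := by
    unfold Mk
    refine List.prod_pos fun r hr => ?_
    exact (sps_prime r (List.mem_of_mem_filter hr)).pos
  have hmM' := Nat.le_of_dvd hMk0 hmM
  have hPM : PP p k' ≤ (Mk k') ^ 2 := hm2.trans (Nat.pow_le_pow_left hmM' 2)
  -- the bound of `p`
  have hpb : p ≤ b := by
    by_contra hpb
    have h1 := PP_lower (p := p) (e := k') (f := 1) (P := b) hp.two_le (by omega) le_rfl (by omega)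
    rw [mul_one] at h1
    exact absurd (h1.trans (Nat.mul_le_mul_right _ hPM)) (not_le.2 hc2)
  have hok : okc k' p = true := by
    rcases hc3 p (by omega) with (h1 | h1) | h1
    · have := hp.two_le
      omega
    · rw [tp_of_prime hp] at h1
      exact absurd h1 (by decide)
    · exact h1
  have hpc : PP p k' = pc p k' := PP_eq hc1 hp.two_le
  rw [hpc] at hm hm2
  have hg : m ∣ Nat.gcd (Mk k') (pc p k') := Nat.dvd_gcd hmM hm
  have hg0 : 0 < Nat.gcd (Mk k') (pc p k') := Nat.gcd_pos_of_pos_left _ hMk0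
  unfold okc at hok
  simp only [Bool.or_eq_true, decide_eq_true_eq, List.any_eq_true, List.all_eq_true, Bool.and_eq_true, beq_iff_eq,
    Bool.not_eq_true', Bool.and_eq_false_iff, beq_eq_false_iff_ne] at hok
  rcases hok with h1 | ⟨⟨⟨k1, p1, r1⟩, hx1, h2, h3⟩, h4⟩
  · exact absurd (hm2.trans (Nat.pow_le_pow_left (Nat.le_of_dvd hg0 hg) 2)) (not_le.2 h1)
  · simp only at h2 h3
    subst h2 h3
    refine ⟨⟨r1, hx1⟩, fun r hrx => ?_⟩
    have hr : r.Prime := by
      have := List.all_eq_true.1 exl_prime _ hrx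
      simpa using this
    by_contra hrm
    rcases h4 _ hrx with h5 | ⟨h4, h5⟩
    · rcases h5 with h5 | h5
      · exact h5 rfl
      · exact h5 rfl
    simp only at h4 h5
    obtain ⟨c, hc⟩ := Nat.dvd_of_mod_eq_zero h4
    rw [hc, Nat.mul_div_cancel_left _ hr.pos] at h5
    rw [hc] at hg
    have h6 : m ∣ c := (Nat.Coprime.symm ((Nat.Prime.coprime_iff_not_dvd hr).2 hrm)).dvd_of_dvd_mul_left hg
    have hc0 : 0 < c := Nat.pos_of_ne_zero fun h => by
      rw [h, mul_zero] at hc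
      omega
    exact absurd (hm2.trans (Nat.pow_le_pow_left (Nat.le_of_dvd hc0 h6) 2)) (not_le.2 h5)

end Cfsg.Agent.H95.Rg
end

-- part: H95/Rg/RedH7
section
/-!
# Half classes in `E₇(q)`: reducedness (helper95)

`red7` : a subgroup of `E₇(q)` containing half of the two classes of one of the pairs `{9, 14}`, `{18, 7}`, `{18, 14}`,
`{9, 18}`, `{7, 14}` has no nontrivial normal subgroup of order prime to the primes of the two classes dividing its order.
-/

set_option autoImplicit false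

namespace Cfsg.Agent.H95.Rg

open Cfsg Cfsg.Agent.OrdDiv Cfsg.Agent.H436 Cfsg.Agent.H902 Cfsg.Agent.H290.ElReg Cfsg.Agent.H290.ElTab
  Cfsg.Agent.H56.Exc Cfsg.Agent.H325.Loc Cfsg.Agent.H563.KG Cfsg.Agent.H325.Cov Cfsg.Agent.H73.Rg
  Cfsg.Agent.H325.IsoExc Cfsg.Agent.H325.IsoFree

/-! ### tables -/

/-- `r` divides no `t ^ k - 1` with `t ^ k` dividing the order of `E₇(q)` -/
def Bdk (r t q : ℕ) : Bool :=
  !(OL .E7 q % t ^ 51 == 0) && (List.range 50).all fun j =>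
    !(OL .E7 q % t ^ (j + 1) == 0) || !((t ^ (j + 1) - 1) % r == 0)

theorem bdk_spec {r t q : ℕ} (h : Bdk r t q = true) {k : ℕ} (hk : 0 < k) (hd : t ^ k ∣ OL .E7 q) : ¬ r ∣ t ^ k - 1 := by
  unfold Bdk at h
  simp only [Bool.and_eq_true, Bool.not_eq_true', beq_eq_false_iff_ne, List.all_eq_true, List.mem_range,
    Bool.or_eq_true] at h
  obtain ⟨h1, h2⟩ := h
  have hk51 : k ≤ 50 := by
    by_contra hcon
    exact h1 (Nat.mod_eq_zero_of_dvd ((pow_dvd_pow t (show 51 ≤ k by omega)).trans hd))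
  rcases h2 (k - 1) (by omega) with h3 | h3
  · rw [show k - 1 + 1 = k by omega] at h3
    exact absurd (Nat.mod_eq_zero_of_dvd hd) h3
  · rw [show k - 1 + 1 = k by omega] at h3
    exact fun h4 => h3 (Nat.mod_eq_zero_of_dvd h4)

/-- the orders of the maximal tori of the simple group -/
def Nn (c q : ℕ) : ℕ := M7 q c / Nat.gcd 2 (q - 1)

/-- the product of the small primes -/
def psp : ℕ := sps.prod

theorem mem_of_dvd_psp {t a n : ℕ} (ht : t.Prime) (h : psp ^ a % n = 0) (hn : t ∣ n) : t ∈ sps := by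
  have h1 : t ∣ psp := ht.dvd_of_dvd_pow (hn.trans (Nat.dvd_of_mod_eq_zero h))
  unfold psp at h1
  rw [Prime.dvd_prod_iff ht.prime] at h1
  obtain ⟨l, hl, hd⟩ := h1
  rwa [(Nat.prime_dvd_prime_iff_eq ht (sps_prime l hl)).1 hd]

/-- some prime of the list moves no `t`-subgroup -/
def Bde (k p t q : ℕ) : Bool := exl.any fun y => y.1 == k && y.2.1 == p && Bdk y.2.2 t q

/-- the check when the class `c'` centralises -/
def ck1 (c c' : ℕ) : Bool := exl.all fun x => !(x.1 % c == 0) || (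
  let f := x.1 / c
  let q := x.2.1 ^ f
  let P := pc x.2.1 (f * c')
  let R := Nn c' q / P
  okk (f * c') && Nn c' q == R * P && psp ^ 10 % R == 0 && sps.all fun t => !(R % t == 0) || Bde x.1 x.2.1 t q)

/-- the check when no class centralises -/
def ck2 (c c' : ℕ) : Bool := exl.all fun x => exl.all fun y =>
  !(x.1 % c == 0 && y.1 % c' == 0 && x.1 / c == y.1 / c' && x.2.1 == y.2.1) || (
  let f := x.1 / c
  let q := x.2.1 ^ f
  okk (f * c) && okk (f * c') && psp ^ 200 % OL .E7 q == 0 && sps.all fun t => !(OL .E7 q % t == 0) ||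
    t == x.2.1 || pc x.2.1 (f * c) % t == 0 || pc x.2.1 (f * c') % t == 0 || Bde x.1 x.2.1 t q || Bde y.1 y.2.1 t q)

/-- the pairs of classes -/
def prs5 : List (ℕ × ℕ) := [(9, 14), (18, 7), (18, 14), (9, 18), (7, 14)]

set_option exponentiation.threshold 7000 in
theorem ck_all : (prs5.all fun x => ck1 x.1 x.2 && ck1 x.2 x.1 && ck2 x.1 x.2) = true := by decide +kernel

/-! ### arithmetic of the tori -/

theorem m14_dvd {q : ℕ} (hq : 1 ≤ q) : M7 q 14 ∣ q ^ 7 + 1 := by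
  show (q + 1) * Ph 14 q ∣ _
  rw [← Int.natCast_dvd_natCast, Nat.cast_mul, cast_Ph14 _ hq]
  push_cast
  exact ⟨1, by ring⟩

theorem m18_dvd {q : ℕ} (hq : 1 ≤ q) : M7 q 18 ∣ q ^ 9 + 1 := by
  show (q + 1) * Ph 18 q ∣ _
  rw [← Int.natCast_dvd_natCast, Nat.cast_mul, cast_Ph18 _ hq]
  push_cast
  exact ⟨(q : ℤ) ^ 2 - q + 1, by ring⟩

theorem dvd_m7 {q t c : ℕ} (hq : 1 ≤ q) (ht : t.Prime) (hc : c = 7 ∨ c = 9 ∨ c = 14 ∨ c = 18) (h : t ∣ Nn c q) :
    t ∣ M7 q c := by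
  have hd : Nat.gcd 2 (q - 1) ∣ q - 1 := Nat.gcd_dvd_right _ _
  have hd' : Nat.gcd 2 (q - 1) ∣ q + 1 := by
    have h3 : q + 1 = (q - 1) + 2 := by omega
    rw [h3]
    exact dvd_add hd (Nat.gcd_dvd_left _ _)
  rcases hc with rfl | rfl | rfl | rfl
  · exact half_dvd ht h hd
  · exact half_dvd ht h hd
  · exact half_dvd ht h hd'
  · exact half_dvd ht h hd'

theorem nb {q t c c' : ℕ} (hq : 1 ≤ q) (ht : t.Prime) (hc : c = 7 ∨ c = 9) (hc' : c' = 14 ∨ c' = 18)
    (ht2 : t = 2 → Odd q) (h : t ∣ Nn c q) (h' : t ∣ Nn c' q) : False := by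
  by_cases h2 : t = 2
  · subst h2
    have ho := ht2 rfl
    have e1 : 2 ∣ q - 1 := by obtain ⟨k, hk⟩ := ho; exact ⟨k, by omega⟩
    have e2 : 2 ∣ q + 1 := by obtain ⟨k, hk⟩ := ho; exact ⟨k + 1, by omega⟩
    have key : ∀ {e e' : ℕ}, (e = 7 ∨ e = 9 ∨ e = 14 ∨ e = 18) → (e' = 7 ∨ e' = 9 ∨ e' = 14 ∨ e' = 18) →
        2 ∣ (q - 1) * Ph e q / Nat.gcd 2 (q - 1) → 2 ∣ (q + 1) * Ph e' q / Nat.gcd 2 (q - 1) → False :=
      fun he he' h h' => no_both hq ht (fun _ => ho) (fun ho => ph_odd hq ho he) (fun ho => ph_odd hq ho he')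
        (fun _ => e1) (fun _ => e2) h h'
    rcases hc with rfl | rfl <;> rcases hc' with rfl | rfl
    · exact key (by omega) (by omega) h h'
    · exact key (by omega) (by omega) h h'
    · exact key (by omega) (by omega) h h'
    · exact key (by omega) (by omega) h h'
  · have := Fact.mk ht
    have h1 := (dvd_m7 hq ht (by (clear * - hc; omega)) h).trans (m7_dvd (by (clear * - hc; omega)) hq)
    have h3 : ((q : ZMod t)) ^ c = 1 := by
      rw [← ZMod.natCast_eq_zero_iff, Nat.cast_sub (Nat.one_le_pow _ _ hq)] at h1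
      push_cast at h1
      exact sub_eq_zero.1 h1
    have h4 : ∃ b, ((q : ZMod t)) ^ b = -1 := by
      rcases hc' with rfl | rfl
      · refine ⟨7, ?_⟩
        have h5 := (dvd_m7 hq ht (by omega) h').trans (m14_dvd hq)
        rw [← ZMod.natCast_eq_zero_iff] at h5
        push_cast at h5
        exact eq_neg_of_add_eq_zero_left h5
      · refine ⟨9, ?_⟩
        have h5 := (dvd_m7 hq ht (by omega) h').trans (m18_dvd hq)
        rw [← ZMod.natCast_eq_zero_iff] at h5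
        push_cast at h5
        exact eq_neg_of_add_eq_zero_left h5
    obtain ⟨b, hb⟩ := h4
    have h5 : (1 : ZMod t) = -1 := by
      calc (1 : ZMod t) = ((q : ZMod t) ^ c) ^ b := by rw [h3, one_pow]
        _ = ((q : ZMod t) ^ b) ^ c := by rw [← pow_mul, ← pow_mul, mul_comm]
        _ = (-1) ^ c := by rw [hb]
        _ = -1 := by rcases hc with rfl | rfl <;> norm_num
    have h6 : ((2 : ℕ) : ZMod t) = 0 := by
      have h7 : (1 : ZMod t) + 1 = 0 := by
        nth_rewrite 1 [h5]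
        ring
      push_cast
      rw [← h7]
      norm_num
    rw [ZMod.natCast_eq_zero_iff] at h6
    exact h2 ((Nat.prime_dvd_prime_iff_eq ht Nat.prime_two).1 h6)

theorem add_of_both {q t : ℕ} (hq : 1 ≤ q) (ht : t.Prime) (h14 : t ∣ Nn 14 q) (h18 : t ∣ Nn 18 q) : t ∣ q + 1 := by
  have := Fact.mk ht
  have h1 := (dvd_m7 hq ht (by omega) h14).trans (m14_dvd hq)
  have h2 := (dvd_m7 hq ht (by omega) h18).trans (m18_dvd hq)
  rw [← ZMod.natCast_eq_zero_iff] at h1 h2 ⊢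
  push_cast at h1 h2 ⊢
  have h3 : ((q : ZMod t)) ^ 7 = -1 := eq_neg_of_add_eq_zero_left h1
  have h4 : ((q : ZMod t)) ^ 9 = -1 := eq_neg_of_add_eq_zero_left h2
  have h5 : ((q : ZMod t)) ^ 2 = 1 := by
    have h6 : ((q : ZMod t)) ^ 9 = (q : ZMod t) ^ 7 * (q : ZMod t) ^ 2 := by ring
    rw [h4, h3] at h6
    have h7 : -(-1 : ZMod t) = -(-1 * (q : ZMod t) ^ 2) := by rw [← h6]
    have h8 : -(-1 * (q : ZMod t) ^ 2) = (q : ZMod t) ^ 2 := by ring
    rw [h8, neg_neg] at h7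
    exact h7.symm
  have h6 : ((q : ZMod t)) ^ 7 = (q : ZMod t) := by
    calc ((q : ZMod t)) ^ 7 = (q : ZMod t) * ((q : ZMod t) ^ 2) ^ 3 := by ring
      _ = (q : ZMod t) := by rw [h5, one_pow, mul_one]
  rw [← h6, h3]
  ring

/-! ### the groups -/

/-- an element of prime order of the class `c` centralises `A` -/
def Zc (q c : ℕ) {T : Type} [Group T] {B : Subgroup T} (A : Subgroup B) : Prop :=
  ∃ r, Prim q c r ∧ ∃ x : B, orderOf x = r ∧ ∀ a ∈ A, x * a = a * x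

section

variable {F : Type} [Field F] [Fintype F] {p f : ℕ}

theorem ordc {q c : ℕ} (hc : c = 7 ∨ c = 9 ∨ c = 14 ∨ c = 18) (hq : Fintype.card F = q) :
    Ord ↥(Lie.chevE7.group F) q c (Nn c q) := by
  rcases hc with rfl | rfl | rfl | rfl
  · exact ord7 hq
  · exact ord9 hq
  · exact ord14 hq
  · exact ord18 hq

theorem zc_dvd {q c t : ℕ} (hc : c = 7 ∨ c = 9 ∨ c = 14 ∨ c = 18) (hq : Fintype.card F = q)
    {B : Subgroup ↥(Lie.chevE7.group F)} {A : Subgroup B} {a : B} (haA : a ∈ A) (hat : orderOf a = t) (h : Zc q c A) :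
    t ∣ Nn c q := by
  obtain ⟨r, hr, x, hx, hxa⟩ := h
  have h1 := ((ordc hc hq).sub B) r hr x hx
  have h2 : a ∈ Subgroup.centralizer ({x} : Set B) := Subgroup.mem_centralizer_singleton_iff.2 (hxa a haA).symm
  have h3 : orderOf (⟨a, h2⟩ : ↥(Subgroup.centralizer ({x} : Set B))) = t := by
    rw [← Subgroup.orderOf_coe, hat]
  rw [← h3]
  exact (orderOf_dvd_natCard _).trans h1

theorem z_or (hp : p.Prime) (hf : 1 ≤ f) [CharP F p] (hq : Fintype.card F = p ^ f)
    (hdT : Nat.card ↥(Lie.chevE7.group F) ∣ OL .E7 (p ^ f)) {c : ℕ} (hc : c = 7 ∨ c = 9 ∨ c = 14 ∨ c = 18)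
    {B : Subgroup ↥(Lie.chevE7.group F)} (h : HAt p f c B) {t : ℕ} (ht : t.Prime) (htp : t ≠ p)
    (htc : ¬ Prim p (f * c) t) {A : Subgroup B} (hAn : A.Normal) (hA : ∀ a ∈ A, ∀ b ∈ A, a * b = b * a)
    (hAt : ∀ a ∈ A, a ^ t = 1) :
    Zc (p ^ f) c A ∨ ((∃ r, (f * c, p, r) ∈ exl) ∧ ∀ r, (f * c, p, r) ∈ exl → ¬ Bdk r t (p ^ f) = true) := by
  by_cases hZ : Zc (p ^ f) c A
  · exact Or.inl hZ
  right
  have hfin : Finite ↥(Lie.chevE7.group F) := inferInstance
  have hfc : 1 * c ≤ f * c := Nat.mul_le_mul_right _ hf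
  have key : ∀ r, Prim p (f * c) r → r ∣ Nat.card B →
      ¬ (133 < r ^ (Nat.card B).factorization r ∨ ∀ k, 0 < k → t ^ k ∣ Nat.card B → ¬ r ∣ t ^ k - 1) := by
    intro r hr hrB hcon
    exact hZ ⟨r, prim_q hf hr, cent_syl hp (fth_E7 (F := F)) ht htp (fun h => htc (h ▸ hr))
      (big7 hc hq (prim_q hf hr)) hrB hAn hA hAt hcon⟩
  have hdB : Nat.card ↥B ∣ OL .E7 (p ^ f) := (Subgroup.card_subgroup_dvd_card B).trans hdT
  have hpr : ∀ r, r.Prime → r ∣ Nat.gcd (Nat.card B) (PP p (f * c)) → Prim p (f * c) r ∧ r ∣ Nat.card B :=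
    fun r hr hrd => ⟨prim_of_dvd_PP hp.two_le (by omega) hr (hrd.trans (Nat.gcd_dvd_right _ _)),
      hrd.trans (Nat.gcd_dvd_left _ _)⟩
  obtain ⟨h1, h2⟩ := exc_of (k := f * c) hp (by
      rcases hc with rfl | rfl | rfl | rfl
      · exact Or.inl (Dvd.intro_left _ rfl)
      · exact Or.inr (Dvd.intro_left _ rfl)
      · exact Or.inl ⟨f * 2, by ring⟩
      · exact Or.inr ⟨f * 2, by ring⟩) (by omega) (Nat.gcd_dvd_right (Nat.card B) _) h.half (fun r hr hrd => by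
      obtain ⟨h1, h2⟩ := hpr r hr hrd
      have h3 : r ^ (Nat.card B).factorization r ≤ 133 := by
        by_contra hcon
        exact key r h1 h2 (Or.inl (by omega))
      have h4 : 1 ≤ (Nat.card B).factorization r := (hr.dvd_iff_one_le_factorization Nat.card_pos.ne').1 h2
      refine ⟨?_, fun h5 => ?_⟩
      · calc r = r ^ 1 := (pow_one r).symm
          _ ≤ r ^ (Nat.card B).factorization r := Nat.pow_le_pow_right hr.pos h4
          _ ≤ 133 := h3
      · have h6 : 2 ≤ (Nat.card B).factorization r :=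
          (hr.pow_dvd_iff_le_factorization Nat.card_pos.ne').1 (h5.trans (Nat.gcd_dvd_left _ _))
        have h7 : r ^ 2 ≤ 133 := (Nat.pow_le_pow_right hr.pos h6).trans h3
        have h8 := Nat.le_of_dvd (by have := hr.two_le; omega) (mod_of_prim' hp.two_le h1)
        have h9 : r ≤ 11 := by
          by_contra hcon
          have : 12 * 12 ≤ r * r := Nat.mul_le_mul (by omega) (by omega)
          rw [sq] at h7
          omega
        have h10 : c ∣ r - 1 := (Dvd.intro_left _ rfl).trans (mod_of_prim' hp.two_le h1)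
        have h11 : r = 8 ∨ r = 9 ∨ r = 10 ∨ r = 11 := by (clear * - hc hfc h8 h9; omega)
        rcases h11 with rfl | rfl | rfl | rfl
        · exact absurd hr (by norm_num)
        · exact absurd hr (by norm_num)
        · exact absurd hr (by norm_num)
        · rcases hc with rfl | rfl | rfl | rfl <;> omega)
  refine ⟨h1, fun r hr hbd => ?_⟩
  have hrp : r.Prime := by
    have := List.all_eq_true.1 exl_prime _ hr
    simpa using this
  obtain ⟨h3, h4⟩ := hpr r hrp (h2 r hr)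
  exact key r h3 h4 (Or.inr fun k hk hkd => bdk_spec hbd hk (hkd.trans hdB))

/-- a normal elementary abelian subgroup is centralised by both classes -/
theorem z_both (hp : p.Prime) (hf : 1 ≤ f) [CharP F p] (hq : Fintype.card F = p ^ f)
    (hdT : Nat.card ↥(Lie.chevE7.group F) ∣ OL .E7 (p ^ f)) {c c' : ℕ} (hcc : (c, c') ∈ prs5)
    {B : Subgroup ↥(Lie.chevE7.group F)} (h : HAt p f c B) (h' : HAt p f c' B) {t : ℕ} (ht : t.Prime) (htp : t ≠ p)
    (htc : ¬ Prim p (f * c) t) (htc' : ¬ Prim p (f * c') t) {A : Subgroup B} (hAn : A.Normal)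
    (hA : ∀ a ∈ A, ∀ b ∈ A, a * b = b * a) (hAt : ∀ a ∈ A, a ^ t = 1) {a : B} (haA : a ∈ A) (hat : orderOf a = t) :
    Zc (p ^ f) c A ∧ Zc (p ^ f) c' A := by
  have hfin : Finite ↥(Lie.chevE7.group F) := inferInstance
  have hcm : (c = 7 ∨ c = 9 ∨ c = 14 ∨ c = 18) ∧ (c' = 7 ∨ c' = 9 ∨ c' = 14 ∨ c' = 18) := by
    have h1 : ∀ x ∈ prs5, (x.1 = 7 ∨ x.1 = 9 ∨ x.1 = 14 ∨ x.1 = 18) ∧ (x.2 = 7 ∨ x.2 = 9 ∨ x.2 = 14 ∨ x.2 = 18) := by
      decide
    exact h1 _ hcc
  obtain ⟨hc, hc'⟩ := hcm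
  have htB : t ∣ Nat.card B := hat ▸ orderOf_dvd_natCard a
  have htO : t ∣ OL .E7 (p ^ f) := (htB.trans (Subgroup.card_subgroup_dvd_card B)).trans hdT
  have hck := List.all_eq_true.1 ck_all _ hcc
  simp only [Bool.and_eq_true] at hck
  obtain ⟨⟨k1, k2⟩, k3⟩ := hck
  -- one class centralises, the other not
  have key : ∀ {e e' : ℕ}, (e = 7 ∨ e = 9 ∨ e = 14 ∨ e = 18) → (e' = 7 ∨ e' = 9 ∨ e' = 14 ∨ e' = 18) →
      ck1 e e' = true → ¬ Prim p (f * e') t → Zc (p ^ f) e' A →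
      ((∃ r, (f * e, p, r) ∈ exl) ∧ ∀ r, (f * e, p, r) ∈ exl → ¬ Bdk r t (p ^ f) = true) → False := by
    rintro e e' he he' hk hte hZ ⟨⟨r, hr⟩, hbd⟩
    have he0 : 0 < e := by omega
    have h1 := List.all_eq_true.1 hk _ hr
    have h2 : f * e % e = 0 := Nat.mul_mod_left f e
    have h3 : f * e / e = f := Nat.mul_div_cancel f he0
    simp only [h2, h3, beq_self_eq_true, Bool.not_true, Bool.false_or, Bool.and_eq_true, beq_iff_eq,
      List.all_eq_true, Bool.or_eq_true, Bool.not_eq_true', beq_eq_false_iff_ne] at h1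
    obtain ⟨⟨⟨a1, a2⟩, a3⟩, a4⟩ := h1
    have h4 := zc_dvd he' hq haA hat hZ
    rw [a2] at h4
    have hfe : 1 * e' ≤ f * e' := Nat.mul_le_mul_right _ hf
    have hP : ¬ t ∣ pc p (f * e') := by
      rw [← PP_eq (by simpa [okk] using a1) hp.two_le]
      exact fun h => hte (prim_of_dvd_PP hp.two_le (by omega) ht h)
    have h5 := (ht.dvd_mul.1 h4).resolve_right hP
    have h6 := mem_of_dvd_psp ht a3 h5
    rcases a4 t h6 with h7 | h7
    · exact h7 (Nat.mod_eq_zero_of_dvd h5)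
    · unfold Bde at h7
      rw [List.any_eq_true] at h7
      obtain ⟨⟨k, p', r'⟩, hy, h8⟩ := h7
      simp only [Bool.and_eq_true, beq_iff_eq] at h8
      obtain ⟨⟨rfl, rfl⟩, h9⟩ := h8
      exact hbd _ hy h9
  rcases z_or hp hf hq hdT hc h ht htp htc hAn hA hAt with z | z
  · refine ⟨z, ?_⟩
    rcases z_or hp hf hq hdT hc' h' ht htp htc' hAn hA hAt with z' | z'
    · exact z'
    · exact (key hc' hc k2 htc z z').elim
  · exfalso
    rcases z_or hp hf hq hdT hc' h' ht htp htc' hAn hA hAt with z' | z'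
    · exact key hc hc' k1 htc' z' z
    · obtain ⟨⟨r, hr⟩, hbd⟩ := z
      obtain ⟨⟨r', hr'⟩, hbd'⟩ := z'
      have h1 := List.all_eq_true.1 (List.all_eq_true.1 k3 _ hr) _ hr'
      have hc0 : 0 < c := by omega
      have hc0' : 0 < c' := by omega
      have b1 : f * c % c = 0 := Nat.mul_mod_left f c
      have b2 : f * c' % c' = 0 := Nat.mul_mod_left f c'
      have b3 : f * c / c = f := Nat.mul_div_cancel f hc0
      have b4 : f * c' / c' = f := Nat.mul_div_cancel f hc0'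
      simp only [b1, b2, b3, b4, beq_self_eq_true, Bool.and_self, Bool.not_true, Bool.false_or, Bool.and_eq_true,
        beq_iff_eq, List.all_eq_true, Bool.or_eq_true, Bool.not_eq_true', beq_eq_false_iff_ne] at h1
      obtain ⟨⟨⟨a1, a1'⟩, a2⟩, a3⟩ := h1
      have hfe : 1 * c ≤ f * c := Nat.mul_le_mul_right _ hf
      have hfe' : 1 * c' ≤ f * c' := Nat.mul_le_mul_right _ hf
      have hmem := mem_of_dvd_psp ht a2 htO
      rcases a3 t hmem with ((((h2 | h2) | h2) | h2) | h2) | h2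
      · exact h2 (Nat.mod_eq_zero_of_dvd htO)
      · exact htp h2
      · refine htc (prim_of_dvd_PP hp.two_le (by (clear * - hc hfe; omega)) ht ?_)
        rw [PP_eq (by simpa [okk] using a1) hp.two_le]
        exact Nat.dvd_of_mod_eq_zero h2
      · refine htc' (prim_of_dvd_PP hp.two_le (by omega) ht ?_)
        rw [PP_eq (by simpa [okk] using a1') hp.two_le]
        exact Nat.dvd_of_mod_eq_zero h2
      · unfold Bde at h2
        rw [List.any_eq_true] at h2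
        obtain ⟨⟨k, p', r'⟩, hy, h8⟩ := h2
        simp only [Bool.and_eq_true, beq_iff_eq] at h8
        obtain ⟨⟨rfl, rfl⟩, h9⟩ := h8
        exact hbd _ hy h9
      · unfold Bde at h2
        rw [List.any_eq_true] at h2
        obtain ⟨⟨k, p', r'⟩, hy, h8⟩ := h2
        simp only [Bool.and_eq_true, beq_iff_eq] at h8
        obtain ⟨⟨rfl, rfl⟩, h9⟩ := h8
        exact hbd' _ hy h9

/-- both classes cannot centralise an element -/
theorem no_z_both (hp : p.Prime) (hq : Fintype.card F = p ^ f) {c c' : ℕ} (hcc : (c, c') ∈ prs5)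
    {B : Subgroup ↥(Lie.chevE7.group F)} {t : ℕ} (ht : t.Prime) (htp : t ≠ p) {A : Subgroup B} {a : B} (haA : a ∈ A)
    (hat : orderOf a = t) (h : Zc (p ^ f) c A) (h' : Zc (p ^ f) c' A) : False := by
  have hq1 : 1 ≤ p ^ f := Nat.one_le_pow _ _ hp.pos
  have hcm : ((c = 7 ∨ c = 9) ∧ (c' = 14 ∨ c' = 18)) ∨ ((c' = 7 ∨ c' = 9) ∧ (c = 14 ∨ c = 18)) ∨ (c = 18 ∧ c' = 14) := by
    have h1 : ∀ x ∈ prs5, ((x.1 = 7 ∨ x.1 = 9) ∧ (x.2 = 14 ∨ x.2 = 18)) ∨ ((x.2 = 7 ∨ x.2 = 9) ∧ (x.1 = 14 ∨ x.1 = 18)) ∨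
      (x.1 = 18 ∧ x.2 = 14) := by decide
    exact h1 _ hcc
  have ht2 : t = 2 → Odd (p ^ f) := by
    rintro rfl
    rw [← Nat.not_even_iff_odd, Nat.even_pow]
    rintro ⟨h1, -⟩
    exact htp ((Nat.prime_dvd_prime_iff_eq Nat.prime_two hp).1 h1.two_dvd)
  rcases hcm with ⟨hc, hc'⟩ | ⟨hc', hc⟩ | ⟨rfl, rfl⟩
  · exact nb hq1 ht hc hc' ht2 (zc_dvd (by (clear * - hc; omega)) hq haA hat h) (zc_dvd (by omega) hq haA hat h')
  · exact nb hq1 ht hc' hc ht2 (zc_dvd (by (clear * - hc'; omega)) hq haA hat h') (zc_dvd (by omega) hq haA hat h)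
  · have htq := add_of_both hq1 ht (zc_dvd (by omega) hq haA hat h') (zc_dvd (by omega) hq haA hat h)
    obtain ⟨r, hr, z, hz, hcz⟩ := h'
    obtain ⟨s, hs, w, hw, hcw⟩ := h
    refine Cfsg.Agent.H129.E7Common.e7_no_common (F := F) (t := t) (r := r) (s := s)
      (a := (a : ↥(Lie.chevE7.group F))) (x := z) (y := w) ht (by rw [hq]; exact htq) (by rw [hq]; exact hr)
      (by rw [hq]; exact hs) (by rw [Subgroup.orderOf_coe]; exact hat) (by rw [Subgroup.orderOf_coe]; exact hz)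
      (by rw [Subgroup.orderOf_coe]; exact hw) ?_ ?_
    · exact congrArg Subtype.val (hcz a haA).symm
    · exact congrArg Subtype.val (hcw a haA).symm

/-- **Reducedness.** -/
theorem red7 (hcyc : CycFixSolv.{0}) (hp : p.Prime) (hf : 1 ≤ f) [CharP F p] (hq : Fintype.card F = p ^ f)
    (hdT : Nat.card ↥(Lie.chevE7.group F) ∣ OL .E7 (p ^ f)) {c c' : ℕ} (hcc : (c, c') ∈ prs5)
    {B : Subgroup ↥(Lie.chevE7.group F)} (h : HAt p f c B) (h' : HAt p f c' B)
    {c₀ r₀ : ℕ} (hc₀ : c₀ ∈ [c, c']) (hr₀ : Prim p (f * c₀) r₀) (hpiso : PIso p r₀ ↥(Lie.chevE7.group F))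
    (hr₀B : r₀ ∣ Nat.card B) :
    Red ↥B (Pr (FmH p f [c, c'] (M7 (p ^ f)) E7 (Nat.card B))) := by
  intro N hN hNr
  by_contra hne
  have hfin : Finite ↥(Lie.chevE7.group F) := inferInstance
  have := Fact.mk hr₀.prime
  have := Fact.mk hp
  have hcm : (c = 7 ∨ c = 9 ∨ c = 14 ∨ c = 18) ∧ (c' = 7 ∨ c' = 9 ∨ c' = 14 ∨ c' = 18) := by
    have h1 : ∀ x ∈ prs5, (x.1 = 7 ∨ x.1 = 9 ∨ x.1 = 14 ∨ x.1 = 18) ∧ (x.2 = 7 ∨ x.2 = 9 ∨ x.2 = 14 ∨ x.2 = 18) := by
      decide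
    exact h1 _ hcc
  have hc₀m : c₀ = 7 ∨ c₀ = 9 ∨ c₀ = 14 ∨ c₀ = 18 := by
    simp only [List.mem_cons, List.not_mem_nil, or_false] at hc₀
    rcases hc₀ with rfl | rfl
    · exact hcm.1
    · exact hcm.2
  have hPr : Pr (FmH p f [c, c'] (M7 (p ^ f)) E7 (Nat.card B)) r₀ := pr_fmH.2 ⟨c₀, hc₀, hr₀, hr₀B⟩
  -- `N` is solvable
  have hsolv : Group.IsSolvable N := by
    obtain ⟨x, hx⟩ := exists_prime_orderOf_dvd_card' r₀ hr₀B
    apply hcyc N (MulAut.conjNormal (H := N) x) r₀ hr₀.prime _ (hNr r₀ hPr)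
    · refine ⟨(Subgroup.centralizer {x}).comap N.subtype, ?_, fun a ha => ?_⟩
      · have := ((big7 (F := F) hc₀m hq (prim_q hf hr₀)).subgroup B).cyc x hx
        let g : ↥((Subgroup.centralizer {x}).comap N.subtype) →* ↥(Subgroup.centralizer {x}) :=
          (N.subtype.comp ((Subgroup.centralizer {x}).comap N.subtype).subtype).codRestrict _ fun y => y.2
        exact isCyclic_of_injective g fun a b hab => by
          have h3 : ((a : N) : B) = ((b : N) : B) :=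
            congrArg (fun z : ↥(Subgroup.centralizer {x}) => (z : B)) hab
          exact Subtype.ext (Subtype.ext h3)
      · rw [Subgroup.mem_comap, Subgroup.mem_centralizer_singleton_iff]
        have h2 := congrArg Subtype.val ha
        rw [MulAut.conjNormal_apply, mul_inv_eq_iff_eq_mul] at h2
        exact h2.symm
    · rw [← map_pow, ← hx, pow_orderOf_eq_one, map_one]
  obtain ⟨t, ht, A, hAn, hAN, hA0, hAc, hAt⟩ := exists_elem' hN hsolv hne
  have hPt : IsPGroup t A := fun a => ⟨1, by rw [pow_one]; exact Subtype.ext (hAt a a.2)⟩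
  have := Fact.mk ht
  obtain ⟨k, hk⟩ := IsPGroup.iff_card.1 hPt
  have hk0 : k ≠ 0 := by
    rintro rfl
    rw [pow_zero, Subgroup.card_eq_one] at hk
    exact hA0 hk
  have htN : t ∣ Nat.card N := (hk ▸ dvd_pow_self t hk0 : t ∣ Nat.card A).trans (Subgroup.card_dvd_of_le hAN)
  have htp : t ≠ p := by
    rintro rfl
    exact hA0 (pcore_of_piso (hpiso.sub B) hr₀B A hAn hPt)
  have hnp : ∀ e ∈ [c, c'], ¬ Prim p (f * e) t := fun e he hpe =>
    hNr t (pr_fmH.2 ⟨e, he, hpe, htN.trans (Subgroup.card_subgroup_dvd_card N)⟩) htN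
  obtain ⟨a, haA, ha1⟩ : ∃ a ∈ A, a ≠ 1 := by
    by_contra hcon
    push Not at hcon
    exact hA0 ((Subgroup.eq_bot_iff_forall A).2 hcon)
  have hat : orderOf a = t := orderOf_eq_prime (hAt a haA) ha1
  obtain ⟨z, z'⟩ := z_both hp hf hq hdT hcc h h' ht htp (hnp c (by simp)) (hnp c' (by simp)) hAn hAc hAt haA hat
  exact no_z_both hp hq hcc ht htp haA hat z z'

end

end Cfsg.Agent.H95.Rg
end

-- part: H95/Rg/KH7
section
/-!
# Half classes in `E₇(q)` (helper95)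

A subgroup of `E₇(q)` containing at least half of the two classes of one of the pairs `{9, 14}`, `{18, 7}`, `{18, 14}`,
`{9, 18}`, `{7, 14}` (in the last two cases also a primitive prime of class 5) is the whole group.
-/

set_option autoImplicit false

namespace Cfsg.Agent.H95.Rg

open Cfsg Cfsg.Agent.OrdDiv Cfsg.Agent.H436 Cfsg.Agent.H902 Cfsg.Agent.H902.Names Cfsg.Agent.H290.ElReg
  Cfsg.Agent.H290.ElTab Cfsg.Agent.H56.Exc Cfsg.Agent.H325.Loc Cfsg.Agent.H915.GN Cfsg.Agent.H264.FKS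
  Cfsg.Agent.H563.KG Cfsg.Agent.H325.Cov Cfsg.Agent.H325.Same Cfsg.Agent.H73.Rg Cfsg.Agent.H325.IsoExc
  Cfsg.Agent.H325.IsoFree

/-- the tables -/
def D9_14 : _root_.Cfsg.Agent.H73.Rg.TD := ⟨.E7, 9, 14, 50, 6, 6, [], 2⟩
def D18_7 : _root_.Cfsg.Agent.H73.Rg.TD := ⟨.E7, 18, 7, 50, 6, 6, [], 2⟩
def D18_14 : _root_.Cfsg.Agent.H73.Rg.TD := ⟨.E7, 18, 14, 50, 6, 6, [], 2⟩
def D9_18 : _root_.Cfsg.Agent.H73.Rg.TD := ⟨.E7, 9, 18, 50, 6, 6, [5], 2⟩
def D7_14 : _root_.Cfsg.Agent.H73.Rg.TD := ⟨.E7, 7, 14, 200, 6, 6, [5], 2⟩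

/-- the exception -/
def ex113 : List (Art.Sh × ℕ × ℕ) := [(.L 2, (113, 1))]

theorem tblH_914 : TblH 133 D9_14 ex113 (E7 9) (E7 14) where
  hn := by norm_num
  ok := ⟨by decide, by decide, by decide, by decide, by decide +kernel, by decide +kernel, by decide, by decide⟩
  ne := by decide
  hR := Cfsg.Agent.H73.Rg.Fast.chkR_of (by decide +kernel)
  hS := Cfsg.Agent.H73.Rg.Fast.chkS_of (by decide +kernel)
  hE := by decide
  hE' := by decide
  hE30 := by decide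
  hE30' := by decide
  hA := by decide +kernel

theorem tblH_187 : TblH 133 D18_7 [] (E7 18) (E7 7) where
  hn := by norm_num
  ok := ⟨by decide, by decide, by decide, by decide, by decide +kernel, by decide +kernel, by decide, by decide⟩
  ne := by decide
  hR := Cfsg.Agent.H73.Rg.Fast.chkR_of (by decide +kernel)
  hS := Cfsg.Agent.H73.Rg.Fast.chkS_of (by decide +kernel)
  hE := by decide
  hE' := by decide
  hE30 := by decide
  hE30' := by decide
  hA := by decide +kernel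

theorem tblH_1814 : TblH 133 D18_14 [] (E7 18) (E7 14) where
  hn := by norm_num
  ok := ⟨by decide, by decide, by decide, by decide, by decide +kernel, by decide +kernel, by decide, by decide⟩
  ne := by decide
  hR := Cfsg.Agent.H73.Rg.Fast.chkR_of (by decide +kernel)
  hS := Cfsg.Agent.H73.Rg.Fast.chkS_of (by decide +kernel)
  hE := by decide
  hE' := by decide
  hE30 := by decide
  hE30' := by decide
  hA := by decide +kernel

theorem tblH_918 : TblH 133 D9_18 [] (E7 9) (E7 18) where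
  hn := by norm_num
  ok := ⟨by decide, by decide, by decide, by decide, by decide +kernel, by decide +kernel, by decide, by decide⟩
  ne := by decide
  hR := Cfsg.Agent.H73.Rg.Fast.chkR_of (by decide +kernel)
  hS := Cfsg.Agent.H73.Rg.Fast.chkS_of (by decide +kernel)
  hE := by decide
  hE' := by decide
  hE30 := by decide
  hE30' := by decide
  hA := by decide +kernel

theorem tblH_714 : TblH 133 D7_14 [] (E7 7) (E7 14) where
  hn := by norm_num
  ok := ⟨by decide, by decide, by decide, by decide, by decide +kernel, by decide +kernel, by decide, by decide⟩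
  ne := by decide
  hR := Cfsg.Agent.H73.Rg.Fast.chkR_of (by decide +kernel)
  hS := Cfsg.Agent.H73.Rg.Fast.chkS_of (by decide +kernel)
  hE := by decide
  hE' := by decide
  hE30 := by decide
  hE30' := by decide
  hA := by decide +kernel

section

variable {F : Type} [Field F] [Fintype F] {p f : ℕ}

/-- the characteristic -/
theorem charP_of (hp : p.Prime) (hf : 1 ≤ f) (hq : Fintype.card F = p ^ f) : CharP F p := by
  obtain ⟨p', f', h', hp', hf', hq'⟩ := exists_pf F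
  have h1 : p ^ f = p' ^ f' := hq ▸ hq'
  have h2 : p ∣ p' ^ f' := h1 ▸ dvd_pow_self p (by omega)
  obtain rfl := (Nat.prime_dvd_prime_iff_eq hp hp').1 (hp.dvd_of_dvd_pow h2)
  exact h'

/-- the simple normal subgroup -/
theorem nameK7 (tb : OrderTable.{0}) (hcyc : CycFixSolv.{0}) (hcf : CF) (hp : p.Prime) (hf : 1 ≤ f)
    (hq : Fintype.card F = p ^ f) {D : _root_.Cfsg.Agent.H73.Rg.TD} {exc : List (Art.Sh × ℕ × ℕ)} (ht : TblH 133 D exc (E7 D.e) (E7 D.e'))
    (hDY : D.Y = .E7) (hq₀ : D.q₀ ≤ 2) (hcc : (D.e, D.e') ∈ prs5)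
    {B : Subgroup ↥(Lie.chevE7.group F)} (h1 : HAt p f D.e B) (h2 : HAt p f D.e' B)
    (hsep : ∀ c ∈ [D.e, D.e'], ¬ Nat.card B ∣ E7 c * M7 (p ^ f) c)
    (hex : ∀ c ∈ D.exs, ∃ s, Prim p (f * c) s ∧ s ∣ Nat.card B ∧ ¬ s ∣ E7 D.e * M7 (p ^ f) D.e)
    (hexc : ∀ (S : Subgroup B), ConH p f (M7 (p ^ f)) E7 D.e D.e' S → ∀ g l X a, l.Prime → IsNamed g S →
      IsLie g X l a → (X, (l, a)) ∈ exc → False) :
    ∃ S : Subgroup B, ConH p f (M7 (p ^ f)) E7 D.e D.e' S ∧ ∃ g, IsNamed g S ∧ HasChar p g ∧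
      Nat.card S ∣ num (.e7 (p ^ f)) := by
  have := Fact.mk hp
  have hchar : CharP F p := charP_of hp hf hq
  have hfin : Finite ↥(Lie.chevE7.group F) := inferInstance
  have hT := named_e7 (F := F) tb
  rw [hq] at hT
  have hq2 : 2 ≤ p ^ f := hp.two_le.trans (Nat.le_self_pow (by omega) p)
  have hOL : num (.e7 (p ^ f)) = OL .E7 (p ^ f) := rfl
  have hdT : Nat.card ↥(Lie.chevE7.group F) ∣ OL .E7 (p ^ f) := by
    rw [← hOL, ← hT.eq]
    exact Dvd.intro_left _ rfl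
  have hcm : ((D.e = 7 ∨ D.e = 9 ∨ D.e = 14 ∨ D.e = 18) ∧ (D.e' = 7 ∨ D.e' = 9 ∨ D.e' = 14 ∨ D.e' = 18)) ∧
      (D.e = 18 ∨ D.e' = 14 ∨ D.e' = 18) := by
    have h1 : ∀ x ∈ prs5, ((x.1 = 7 ∨ x.1 = 9 ∨ x.1 = 14 ∨ x.1 = 18) ∧ (x.2 = 7 ∨ x.2 = 9 ∨ x.2 = 14 ∨ x.2 = 18)) ∧
      (x.1 = 18 ∨ x.2 = 14 ∨ x.2 = 18) := by
      decide
    exact h1 _ hcc
  have hmem : ∀ c ∈ [D.e, D.e'], c = 7 ∨ c = 9 ∨ c = 14 ∨ c = 18 := by
    intro c hc
    simp only [List.mem_cons, List.not_mem_nil, or_false] at hc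
    rcases hc with rfl | rfl
    · exact hcm.1.1
    · exact hcm.1.2
  have hbig : ∀ c ∈ [D.e, D.e'], ∀ r, Prim (p ^ f) c r → Big ↥(Lie.chevE7.group F) r (M7 (p ^ f) c) (E7 c) :=
    fun c hc r hr => big7 (hmem c hc) hq hr
  have hred : Red ↥B (Pr (FmH p f [D.e, D.e'] (M7 (p ^ f)) E7 (Nat.card B))) := by
    have key : ∀ c₀ ∈ [D.e, D.e'], HAt p f c₀ B → (c₀ = 14 ∨ c₀ = 18) →
        Red ↥B (Pr (FmH p f [D.e, D.e'] (M7 (p ^ f)) E7 (Nat.card B))) := by
      intro c₀ hc₀ hH h3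
      obtain ⟨r₀, hr₀, hr₀B⟩ := hH.exists_prim hp.two_le hf (by omega) (by omega)
      have hpiso : PIso p r₀ ↥(Lie.chevE7.group F) := by
        rcases h3 with rfl | rfl
        · exact piso_E7 (F := F) (by rw [hq]; exact prim_q hf hr₀)
        · exact piso_E7_18 (F := F) (by rw [hq]; exact prim_q hf hr₀)
      exact red7 hcyc hp hf hq hdT hcc h1 h2 hc₀ hr₀ hpiso hr₀B
    rcases hcm.2 with h3 | h3 | h3
    · exact key D.e (by simp) h1 (Or.inr h3)
    · exact key D.e' (by simp) h2 (Or.inl h3)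
    · exact key D.e' (by simp) h2 (Or.inr h3)
  obtain ⟨S, hS, g, hg, hch⟩ := mainR tb hcyc hcf (fun {S} _ _ {m r N e} h Φ h5 hd => Cfsg.Agent.H427.Rg.alt_aut h Φ h5 hd)
    ht hp hf (hq₀.trans hq2) (F := F) fth_E7 (by rw [hDY]; exact hdT) hbig h1 h2 hsep hex hred hexc
  exact ⟨S, hS, g, hg, hch, IsNamed.card_dvd hT S⟩

theorem e7_le_seven {c s : ℕ} (hs : s.Prime) (hd : s ∣ E7 c) : s ≤ 7 :=
  le_seven hs (n := E7 c) (by unfold E7; split <;> omega) hd

theorem mem4 {c c' : ℕ} (hc : c = 7 ∨ c = 9 ∨ c = 14 ∨ c = 18) (hc' : c' = 7 ∨ c' = 9 ∨ c' = 14 ∨ c' = 18) :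
    ∀ e ∈ [c, c'], e = 7 ∨ e = 9 ∨ e = 14 ∨ e = 18 := by
  intro e he
  simp only [List.mem_cons, List.not_mem_nil, or_false] at he
  rcases he with rfl | rfl
  · exact hc
  · exact hc'

/-- `L₂(113)` -/
theorem kill_113 (hp : p.Prime) {B : Subgroup ↥(Lie.chevE7.group F)}
    {S : Subgroup B} (hS : ConH p f (M7 (p ^ f)) E7 9 14 S) {g : Grp} {l a : ℕ} {X : Art.Sh} (hg : IsNamed g S)
    (hX : IsLie g X l a) (hex : (X, (l, a)) ∈ ex113) : False := by
  simp only [ex113, List.mem_singleton, Prod.mk.injEq] at hex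
  obtain ⟨rfl, rfl, rfl⟩ := hex
  cases hX
  have hcard : Nat.card S = 721392 := by
    have := hg.ord
    rw [this]
    decide +kernel
  obtain ⟨r, hr, hrS⟩ := hS.h1 14 (by simp)
  have hrp := hr.prime
  rw [hcard] at hrS
  have h14 : f * 14 ∣ r - 1 := mod_of_prim' hp.two_le hr
  have h14' : 14 ∣ r - 1 := (Dvd.intro_left _ rfl).trans h14
  have hfac : (721392 : ℕ) = 2 ^ 4 * (3 * (7 * (19 * 113))) := by norm_num
  have hr2 := hrp.two_le
  have key : ∀ m, m.Prime → r ∣ m → r = m := fun m h1 h2 => (Nat.prime_dvd_prime_iff_eq hrp h1).1 h2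
  obtain rfl : r = 113 := by
    rw [hfac] at hrS
    rcases hrp.dvd_mul.1 hrS with h | h
    · have := key 2 (by norm_num) (hrp.dvd_of_dvd_pow h)
      omega
    rcases hrp.dvd_mul.1 h with h | h
    · have := key 3 (by norm_num) h
      omega
    rcases hrp.dvd_mul.1 h with h | h
    · have := key 7 (by norm_num) h
      omega
    rcases hrp.dvd_mul.1 h with h | h
    · have := key 19 (by norm_num) h
      omega
    · exact key 113 (by norm_num) h
  have hrS' : 113 ∣ Nat.card S := by rw [hcard]; exact hrS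
  have hb := (hS.prs 14 (by simp) 113 hr (hrS'.trans (Subgroup.card_subgroup_dvd_card S))).1
  obtain ⟨K, _, _, hK, ⟨e⟩⟩ := hg.real
  have h1 := Cfsg.Agent.H427.Rg.psl_aut (l := 113) (by norm_num) (by norm_num) (F := K) (by rw [hK]; norm_num) e hb
  have h2 : (113 - 1 : ℕ) ∣ 2 * 14 := h1
  exact absurd h2 (by decide)

variable (tb : OrderTable.{0}) (hcyc : CycFixSolv.{0}) (hcf : CF)

include tb hcyc hcf

/-- **`E₇(q)`, half of the classes 9, 14.** -/
theorem KH_9_14 (hp : p.Prime) (hf : 1 ≤ f) (hq : Fintype.card F = p ^ f)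
    (B : Subgroup ↥(Lie.chevE7.group F)) (h : HOff p f [9, 14] B) : B = ⊤ := by
  have hq1 : 1 ≤ p ^ f := Nat.one_le_pow _ _ hp.pos
  have hT := named_e7 (F := F) tb
  rw [hq] at hT
  have h1 := h 9 (by simp)
  have h2 := h 14 (by simp)
  have hsep : ∀ c ∈ [9, 14], ¬ Nat.card B ∣ E7 c * M7 (p ^ f) c :=
    sepH (e := 9) (e' := 14) hp hf (M := M7 (p ^ f)) (E := E7) (by norm_num) (by norm_num) h1 h2
      (fun c hc => m7_dvd (mem4 (by omega) (by omega) c hc) hq1) (fun c _ s hs hd => e7_le_seven hs hd)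
      (by norm_num) (by norm_num)
  obtain ⟨S, hS, g, hg, hch, hdS⟩ := nameK7 tb hcyc hcf hp hf hq (D := D9_14) tblH_914 rfl (by decide) (by decide)
    (B := B) h1 h2 hsep
    (fun c hc => absurd hc (by simp [D9_14]))
    (fun S hS g l X a _ hg hX hex => kill_113 hp hS hg hX hex)
  obtain rfl := Cfsg.Agent.H72.Same.charp_e7_914 hp hf hg.cond hch hg.eq hdS (hS.h1 9 (by simp [D9_14])) (hS.h1 14 (by simp [D9_14]))
  exact eq_top_of_name hT hg

/-- **`E₇(q)`, half of the classes 18, 7.** -/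
theorem KH_18_7 (hp : p.Prime) (hf : 1 ≤ f) (hq : Fintype.card F = p ^ f)
    (B : Subgroup ↥(Lie.chevE7.group F)) (h : HOff p f [18, 7] B) : B = ⊤ := by
  have hq1 : 1 ≤ p ^ f := Nat.one_le_pow _ _ hp.pos
  have hT := named_e7 (F := F) tb
  rw [hq] at hT
  have h1 := h 18 (by simp)
  have h2 := h 7 (by simp)
  have hsep : ∀ c ∈ [18, 7], ¬ Nat.card B ∣ E7 c * M7 (p ^ f) c :=
    sepH (e := 18) (e' := 7) hp hf (M := M7 (p ^ f)) (E := E7) (by norm_num) (by norm_num) h1 h2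
      (fun c hc => m7_dvd (mem4 (by omega) (by omega) c hc) hq1) (fun c _ s hs hd => e7_le_seven hs hd)
      (by norm_num) (by norm_num)
  obtain ⟨S, hS, g, hg, hch, hdS⟩ := nameK7 tb hcyc hcf hp hf hq (D := D18_7) tblH_187 rfl (by decide) (by decide)
    (B := B) h1 h2 hsep
    (fun c hc => absurd hc (by simp [D18_7]))
    (fun S hS g l X a _ hg hX hex => absurd hex (by simp))
  obtain rfl := Cfsg.Agent.H72.Same.charp_e7_718 hp hf hg.cond hch hg.eq hdS (hS.h1 7 (by simp [D18_7])) (hS.h1 18 (by simp [D18_7]))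
  exact eq_top_of_name hT hg

/-- **`E₇(q)`, half of the classes 18, 14.** -/
theorem KH_18_14 (hp : p.Prime) (hf : 1 ≤ f) (hq : Fintype.card F = p ^ f)
    (B : Subgroup ↥(Lie.chevE7.group F)) (h : HOff p f [18, 14] B) : B = ⊤ := by
  have hq1 : 1 ≤ p ^ f := Nat.one_le_pow _ _ hp.pos
  have hT := named_e7 (F := F) tb
  rw [hq] at hT
  have h1 := h 18 (by simp)
  have h2 := h 14 (by simp)
  have hsep : ∀ c ∈ [18, 14], ¬ Nat.card B ∣ E7 c * M7 (p ^ f) c :=
    sepH (e := 18) (e' := 14) hp hf (M := M7 (p ^ f)) (E := E7) (by norm_num) (by norm_num) h1 h2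
      (fun c hc => m7_dvd (mem4 (by omega) (by omega) c hc) hq1) (fun c _ s hs hd => e7_le_seven hs hd)
      (by norm_num) (by norm_num)
  obtain ⟨S, hS, g, hg, hch, hdS⟩ := nameK7 tb hcyc hcf hp hf hq (D := D18_14) tblH_1814 rfl (by decide) (by decide)
    (B := B) h1 h2 hsep
    (fun c hc => absurd hc (by simp [D18_14]))
    (fun S hS g l X a _ hg hX hex => absurd hex (by simp))
  have hMp : ¬ p ∣ M7 (p ^ f) 14 := by
    intro h
    have h1 := h.trans (m7_dvd (c := 14) (by omega) hq1)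
    have h2 : p ∣ (p ^ f) ^ 14 := dvd_pow (dvd_pow_self p (by omega)) (by norm_num)
    have h3 : p ∣ (p ^ f) ^ 14 - ((p ^ f) ^ 14 - 1) := Nat.dvd_sub h2 h1
    have h4 : 1 ≤ (p ^ f) ^ 14 := Nat.one_le_pow _ _ (by omega)
    rw [Nat.sub_sub_self h4] at h3
    exact hp.one_lt.ne' (Nat.dvd_one.1 h3)
  have a14 := hS.h1 14 (by simp [D18_14])
  obtain ⟨r, hr, hrS⟩ := id a14
  have hb := (hS.prs 14 (by simp [D18_14]) r hr (hrS.trans (Subgroup.card_subgroup_dvd_card S))).1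
  rcases Cfsg.Agent.H72.Same.charp_e7_1418 hp hf hg.cond hch hg.eq hdS a14 (hS.h1 18 (by simp [D18_14])) with
    rfl | rfl | rfl
  · exact (kill_psu9 hp hf (Or.inl rfl) hg (prim_q hf hr) hb hMp).elim
  · exact (kill_psu9 hp hf (Or.inr rfl) hg (prim_q hf hr) hb hMp).elim
  · exact eq_top_of_name hT hg

/-- **`E₇(q)`, half of the classes 9, 18 and a prime of class 5.** -/
theorem KH_9_18 {s : ℕ} (hp : p.Prime) (hf : 1 ≤ f) (hq : Fintype.card F = p ^ f)
    (B : Subgroup ↥(Lie.chevE7.group F)) (h : HOff p f [9, 18] B) (hs : Prim p (f * 5) s) (hsB : s ∣ Nat.card B) :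
    B = ⊤ := by
  have hq2 : 2 ≤ p ^ f := hp.two_le.trans (Nat.le_self_pow (by omega) p)
  have hT := named_e7 (F := F) tb
  rw [hq] at hT
  have hs5 : Prim (p ^ f) 5 s := prim_q hf hs
  obtain ⟨S, hS, g, hg, hch, hdS⟩ := nameK7 tb hcyc hcf hp hf hq (D := D9_18) tblH_918 rfl (by decide) (by decide)
    (B := B) (h 9 (by simp)) (h 18 (by simp))
    (fun c hc hd => five_not_dvd hq2 hs5 (mem4 (c := 9) (c' := 18) (by omega) (by omega) c hc) (hsB.trans hd))
    (fun c hc => by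
      obtain rfl : c = 5 := by simpa [D9_18] using hc
      exact ⟨s, hs, hsB, five_not_dvd hq2 hs5 (c := 9) (by omega)⟩)
    (fun S hS g l X a _ hg hX hex => absurd hex (by simp))
  have hsS : s ∣ Nat.card S := five_dvd hq2 hs5 (c := 9) (by omega) (hS.idx 9 (by simp [D9_18]))
    (S.card_mul_index).symm hsB
  obtain rfl := Cfsg.Agent.H72.Same.charp_e7_918 hp hf hg.cond hch hg.eq hdS ⟨s, hs, hsS⟩ (hS.h1 9 (by simp [D9_18]))
    (hS.h1 18 (by simp [D9_18]))
  exact eq_top_of_name hT hg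

/-- **`E₇(q)`, half of the classes 7, 14 and a prime of class 5.** -/
theorem KH_7_14 {s : ℕ} (hp : p.Prime) (hf : 1 ≤ f) (hq : Fintype.card F = p ^ f)
    (B : Subgroup ↥(Lie.chevE7.group F)) (h : HOff p f [7, 14] B) (hs : Prim p (f * 5) s) (hsB : s ∣ Nat.card B) :
    B = ⊤ := by
  have hq2 : 2 ≤ p ^ f := hp.two_le.trans (Nat.le_self_pow (by omega) p)
  have hT := named_e7 (F := F) tb
  rw [hq] at hT
  have hs5 : Prim (p ^ f) 5 s := prim_q hf hs
  obtain ⟨S, hS, g, hg, hch, hdS⟩ := nameK7 tb hcyc hcf hp hf hq (D := D7_14) tblH_714 rfl (by decide) (by decide)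
    (B := B) (h 7 (by simp)) (h 14 (by simp))
    (fun c hc hd => five_not_dvd hq2 hs5 (mem4 (c := 7) (c' := 14) (by omega) (by omega) c hc) (hsB.trans hd))
    (fun c hc => by
      obtain rfl : c = 5 := by simpa [D7_14] using hc
      exact ⟨s, hs, hsB, five_not_dvd hq2 hs5 (c := 7) (by omega)⟩)
    (fun S hS g l X a _ hg hX hex => absurd hex (by simp))
  have hsS : s ∣ Nat.card S := five_dvd hq2 hs5 (c := 7) (by omega) (hS.idx 7 (by simp [D7_14]))
    (S.card_mul_index).symm hsB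
  obtain rfl := Cfsg.Agent.H72.Same.charp_e7_714 hp hf hg.cond hch hg.eq hdS ⟨s, hs, hsS⟩ (hS.h1 7 (by simp [D7_14]))
    (hS.h1 14 (by simp [D7_14]))
  exact eq_top_of_name hT hg

end

end Cfsg.Agent.H95.Rg
end

private theorem dce_268dc0bd4880 : _root_.True := by
  try have : _root_.True := by simp only [_root_.Cfsg.Agent.H73.Rg.Dt6c.eq_1]
  try have : _root_.True := by simp only [_root_.Cfsg.Agent.H95.Rg.D7_14.eq_1]
  try have : _root_.True := by simp only [_root_.Cfsg.Agent.H95.Rg.D18_14.eq_1]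
  try have : _root_.True := by simp only [_root_.Cfsg.Agent.H73.Rg.Dt6a.eq_1]
  try have : _root_.True := by simp only [_root_.Cfsg.Agent.H95.Rg.D18_7.eq_1]
  try have : _root_.True := by simp only [_root_.Cfsg.Agent.H95.Rg.ex113.eq_1]
  try have : _root_.True := by simp only [_root_.Cfsg.Agent.H95.Rg.D9_14.eq_1]
  try have : _root_.True := by simp only [_root_.Cfsg.Agent.H73.Rg.Dt6b.eq_1]
  try have : _root_.True := by simp only [_root_.Cfsg.Agent.H95.Rg.D9_18.eq_1]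
  exact _root_.True.intro
end
end
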