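import Cfsg.Agent.H925.Rs.RowB_m3
import Cfsg.Agent.H449.Reg.OddRows_m3
import Cfsg.Agent.S5948
import Cfsg.Agent.S5836
import Cfsg.Agent.H975.Cov.Main
import Cfsg.Agent.H735.Rg.LoEight_m3
import Cfsg.Agent.S0000
import Cfsg.Agent.H803.Rl.Big_m3
import Cfsg.Agent.H190.Cov.Two.Rad3c
import Cfsg.Agent.H325.Cov.KE7_m3
import Cfsg.Agent.H190.Cov.K128_m3
import Cfsg.Agent.H563.KG.CycFix
import Cfsg.Agent.OrdDiv.Table
import Cfsg.Agent.Prune
set_option linter.all false

section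
prune_inst 0x7f00000000000000000000000000000000000000000000000000000000000000000000000000000000000000000000000000000000000000000000000000000000000000000000000000000000000000003fffffffffffffffffffffffffffbeffbdffffffff

-- part: H449/Reg/OddAll
section
set_option linter.all false
open scoped Cfsg.Agent.FastGrp

-- part: H2/Rb/Thirty
section
/-!
# S3691, piece (S), `q = 3`, `n = 19`, `r = 37` (helper2)

* `small37` : an irreducible subgroup `R` of `GL_19(3)` of order divisible by 37 contains a classical group on its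
  natural module, or `|R| ≤ 101232` (socle `L_2(37)`).
-/

set_option autoImplicit false
set_option exponentiation.threshold 2000

universe u v w

namespace Cfsg.Agent.H2.Rb.Cx

open Cfsg Cfsg.Geo Cfsg.Agent.H912.Bd Cfsg.Agent.H912.Five Cfsg.Agent.H915.LD Cfsg.Agent.OrdDiv Matrix
open Cfsg.Agent.H902 Cfsg.Agent.H902.Names Cfsg.Agent.H203.LS Cfsg.Agent.H936.List12
open Cfsg.Agent.H2.Rb.C100 Cfsg.Agent.NotCT

section cl

variable {F : Type u} [Field F] {r : ℕ} {T : Type v} [Group T] [Finite T] [IsSimpleGroup T]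

theorem p37 : Nat.Prime 37 := by norm_num

/-- classical groups in cross characteristic, degree at most 19, order divisible by 37 -/
theorem cross37_cl (hna : ¬ IsMulCommutative T) (hd : 37 ∣ Nat.card (MulAut T)) (hr : r.Prime) (hrF : (r : F) ≠ 0)
    (h : PR F 19 r T)
    (hT : Cfsg.IsPSLChar r T ∨ Cfsg.IsPSpChar r T ∨ Cfsg.IsPSUChar r T ∨ Cfsg.IsPOmegaOddChar r T ∨
      Cfsg.IsPOmegaPlusChar r T ∨ Cfsg.IsPOmegaMinusChar r T) : Nat.card (MulAut T) ≤ 50616 := by
  have hrr : Fact r.Prime := ⟨hr⟩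
  have hnum : ∀ q j : ℕ, 2 ≤ q → 4 ≤ j → (q - 1) * q ^ j ≤ 19 → q = 2 ∧ j = 4 := by
    intro q j hq hj hle
    have h2 : q = 2 := by
      by_contra hcon
      have h1 : 3 ^ 4 ≤ q ^ j := (Nat.pow_le_pow_left (by omega) 4).trans (Nat.pow_le_pow_right (by omega) hj)
      have h2 : 1 * 3 ^ 4 ≤ (q - 1) * q ^ j := Nat.mul_le_mul (by omega) h1
      omega
    subst h2
    refine ⟨rfl, ?_⟩
    by_contra hcon
    have h1 : 2 ^ 5 ≤ 2 ^ j := Nat.pow_le_pow_right (by omega) (by omega)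
    omega
  have hpow : ∀ (K : Type) [Field K] [Fintype K] [CharP K r], ∃ k, Fintype.card K = r ^ k := by
    intro K _ _ _
    obtain ⟨k, -, hk⟩ := FiniteField.card K r
    exact ⟨k, hk⟩
  rcases hT with ⟨K, _, _, _, m, hm, hm2, ⟨e⟩⟩ | ⟨K, _, _, _, m, hm, hm2, ⟨e⟩⟩ | ⟨K, _, _, _, m, q, hq, hm, hmq, ⟨e⟩⟩ |
    ⟨K, _, _, hc, m, hm, ho, ⟨e⟩⟩ | ⟨K, _, _, hc, m, hm, ⟨e⟩⟩ | ⟨K, _, _, hc, m, a, b, hm, hab, ⟨e⟩⟩
  · -- linear
    have hq : 2 ≤ Fintype.card K := Fintype.one_lt_card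
    have hK : IsL m (Fintype.card K) T := ⟨K, inferInstance, inferInstance, rfl, ⟨e⟩⟩
    by_cases h2 : m = 2
    · subst h2
      have hle : (Fintype.card K - 1) / Nat.gcd 2 (Fintype.card K - 1) ≤ 19 := by
        refine H203.BdSL2.bd_of_sl2 hr rfl hrF (e.symm.toMonoidHom.comp (QuotientGroup.mk' _)) ?_ 19 h
        intro x hx
        have h1 : e.symm (QuotientGroup.mk' _ x) = 1 := hx
        rw [MulEquiv.map_eq_one_iff, QuotientGroup.mk'_apply, QuotientGroup.eq_one_iff] at h1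
        exact h1
      have h3 : Fintype.card K ≤ 39 := by
        have h5 := Nat.gcd_dvd_right 2 (Fintype.card K - 1)
        rcases (Nat.dvd_prime Nat.prime_two).1 (Nat.gcd_dvd_left 2 (Fintype.card K - 1)) with h4 | h4
        · rw [h4] at hle
          omega
        · rw [h4] at hle h5
          omega
      have hfit := dv_L p37 (by norm_num) hd hna le_rfl hm2 (by omega) hK
      obtain ⟨j, hj⟩ := hpow K
      have h4 : Fintype.card K = 37 := by
        rw [sz_L2'] at hfit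
        clear hK hle e
        generalize Fintype.card K = q at *
        by_contra hne
        have hne36 : q ≠ 36 := by
          rintro rfl
          exact not_pp hr Nat.prime_two Nat.prime_three (by norm_num) (by rw [← hj]; norm_num) (by rw [← hj]; norm_num)
        have hne38 : q ≠ 38 := by
          rintro rfl
          exact not_pp hr Nat.prime_two (b := 19) (by norm_num) (by norm_num) (by rw [← hj]; norm_num)
            (by rw [← hj]; norm_num)
        have h39 : q ≤ 35 ∨ q = 39 := by omega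
        clear hj h3 hne hne36 hne38
        rcases h39 with h39 | rfl
        · interval_cases q <;> revert hfit <;> decide +kernel
        · revert hfit
          decide +kernel
      rw [h4] at hK
      rw [card_aut_L2 p37 (by norm_num) hK]
      norm_num
    · exfalso
      have hm3 : 3 ≤ m := by omega
      have hle : Fintype.card K ^ (m - 1) - 1 ≤ 19 := (bd_psl (F := F) hr hrF hm3 inferInstance).congr e 19 h
      set q := Fintype.card K with hqdef
      have h6 : m ≤ 5 := by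
        by_contra hcon
        have h1 : 2 ^ 5 ≤ q ^ (m - 1) := (Nat.pow_le_pow_left hq 5).trans (Nat.pow_le_pow_right (by omega) (by omega))
        omega
      have h7 : q ≤ 4 := by
        by_contra hcon
        have h1 : 5 ^ 2 ≤ q ^ (m - 1) := (Nat.pow_le_pow_left (by omega) 2).trans (Nat.pow_le_pow_right (by omega) (by omega))
        omega
      have hfit := dv_L p37 (by norm_num) hd hna hm hm2 (by omega) hK
      clear_value q
      clear hqdef hK h2 hle
      interval_cases m <;> interval_cases q <;> exact absurd hfit (by decide +kernel)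
  · -- symplectic
    exfalso
    have hq2 : 2 ≤ Fintype.card K := Fintype.one_lt_card
    have hK : IsS m (Fintype.card K) T := ⟨K, inferInstance, inferInstance, rfl, ⟨e⟩⟩
    have hle : (Fintype.card K ^ m - 1) / 2 ≤ 19 := H175.BdSp.bd_psp (F := F) hr rfl (by omega) hrF e 19 h
    obtain ⟨j, hj⟩ := hpow K
    have hne6 : Fintype.card K ≠ 6 := by
      intro h6
      rw [h6] at hj
      exact not_pp hr Nat.prime_two Nat.prime_three (by norm_num) (by rw [← hj]; norm_num) (by rw [← hj]; norm_num)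
    set q := Fintype.card K with hqdef
    have h4 : m ≤ 5 := by
      by_contra hcon
      have h1 : 2 ^ 6 ≤ q ^ m := (Nat.pow_le_pow_left hq2 6).trans (Nat.pow_le_pow_right (by omega) (by omega))
      omega
    have hqle : q ≤ 6 := by
      by_contra hcon
      have h1 : 7 ^ 2 ≤ q ^ m := (Nat.pow_le_pow_left (by omega) 2).trans (Nat.pow_le_pow_right (by omega) (by omega))
      omega
    have hfit := dv_S p37 (by norm_num) hd hna hm hm2 (by omega) hK
    clear_value q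
    clear hqdef hK hj
    interval_cases m <;> interval_cases q <;>
      first
      | exact absurd hfit (by decide +kernel)
      | exact hne6 rfl
      | (norm_num at hle)
  · -- unitary
    exfalso
    have hq2 : 2 ≤ q := by
      have h1 : 1 < Fintype.card K := Fintype.one_lt_card
      rw [hq] at h1
      by_contra hcon
      interval_cases q <;> simp at h1
    have hle : (q - 1) * q ^ (m - 2) ≤ 19 := H175.BdSU.bd_psu (F := F) hr hq hm hrF e 19 h
    have hK : IsU m q T := ⟨K, inferInstance, inferInstance, hq, ⟨e⟩⟩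
    have h5 : m ≤ 6 := by
      by_contra hcon
      have h1 : 2 ^ 5 ≤ q ^ (m - 2) := (Nat.pow_le_pow_left hq2 5).trans (Nat.pow_le_pow_right (by omega) (by omega))
      have h2 : 1 * 2 ^ 5 ≤ (q - 1) * q ^ (m - 2) := Nat.mul_le_mul (by omega) h1
      omega
    have hqle : q ≤ 4 := by
      by_contra hcon
      have h1 : 5 ^ 1 ≤ q ^ (m - 2) := (Nat.pow_le_pow_left (by omega) 1).trans (Nat.pow_le_pow_right (by omega) (by omega))
      have h2 : 4 * 5 ^ 1 ≤ (q - 1) * q ^ (m - 2) := Nat.mul_le_mul (by omega) h1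
      omega
    have hfit := dv_U p37 (by norm_num) hd hna hm hmq (by omega) hK
    clear hK hq e
    interval_cases m <;> interval_cases q <;>
      first
      | exact hmq ⟨rfl, rfl⟩
      | exact absurd hfit (by decide +kernel)
      | (norm_num at hle)
  · exfalso
    have hq : 2 ≤ Fintype.card K := Fintype.one_lt_card
    have hq3 : 3 ≤ Fintype.card K := by
      obtain ⟨t, ht⟩ := ho
      omega
    obtain ⟨f, hf⟩ := hpow K
    have h2 : (2 : K) ≠ 0 := by
      intro h0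
      have h1 : r = 2 := by
        have h3 : r ∣ 2 := (CharP.cast_eq_zero_iff K r 2).1 (by exact_mod_cast h0)
        exact (Nat.prime_dvd_prime_iff_eq hr Nat.prime_two).1 h3
      subst h1
      rw [hf] at ho hq
      rcases Nat.eq_zero_or_pos f with h3 | h3
      · subst h3; norm_num at hq
      · exact (Nat.not_even_iff_odd.2 ho) ((Nat.even_pow.2 ⟨even_two, by omega⟩))
    have h3 := (H203.OrthHeis.bd_pomega_odd_heis (F := F) hr hrF hf h2 hm).congr e 19 h
    have h4 : 3 ^ 3 ≤ Fintype.card K ^ (2 * m - 3) :=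
      (Nat.pow_le_pow_left hq3 3).trans (Nat.pow_le_pow_right (by omega) (by omega))
    have h5 : 2 * 3 ^ 3 ≤ (Fintype.card K - 1) * Fintype.card K ^ (2 * m - 3) := Nat.mul_le_mul (by omega) h4
    omega
  · exfalso
    obtain ⟨f, hf⟩ := hpow K
    have h3 := (H203.OrthHeis.bd_pomega_plus_heis (F := F) hr hrF hf hm).congr e 19 h
    obtain ⟨h4, h5⟩ := hnum _ _ Fintype.one_lt_card (by omega) h3
    have h6 : m = 4 := by omega
    subst h6
    exact absurd (dv_OP p37 (by norm_num) hd hna le_rfl (by norm_num) ⟨K, inferInstance, inferInstance, h4, ⟨e⟩⟩)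
      (by decide +kernel)
  · exfalso
    obtain ⟨f, hf⟩ := hpow K
    have h3 := (H203.OrthHeis.bd_pomega_minus_heis (F := F) hr hrF hf hm hab).congr e 19 h
    obtain ⟨h4, h5⟩ := hnum _ _ Fintype.one_lt_card (by omega) h3
    have h6 : m = 4 := by omega
    subst h6
    have h7 := dv_OM p37 (by norm_num) hd hna le_rfl (by rw [h4]; norm_num) hab e
    rw [h4] at h7
    exact absurd h7 (by decide +kernel)

end cl

section lie

variable {F : Type u} [Field F] [Finite F]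

/-- groups of Lie type in cross characteristic -/
theorem cross37 (h3F : (3 : F) = 0) {P : Subgroup (Matrix.GeneralLinearGroup (Fin 19) F)} (hC : Core P)
    (hd : 37 ∣ Nat.card (MulAut (Soc P))) {r : ℕ} (hr : r.Prime) (hrF : (r : F) ≠ 0)
    (h : IsLieTypeChar r (Soc P)) : Nat.card (MulAut (Soc P)) ≤ 50616 := by
  have hs : IsSimpleGroup (Soc P) := hC.simple
  have hna := hC.nonabelian
  have hr3 : r ≠ 3 := by
    rintro rfl
    exact hrF (by exact_mod_cast h3F)
  have key : ∀ {d : ℕ} {T' : Type} [Group T'], LS.{0, u, u} r d T' → (Soc P ≃* T') → d ≤ 19 := by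
    intro d T' _ hls e'
    exact le_of_ls' hC hrF hls ⟨e'⟩
  rcases classical_or_exc h with hcl | hexc
  · rcases noR_of_lieTypeChar.{u} hr h with hm | hm
    · exfalso
      rcases hm with ⟨rfl, hm⟩ | ⟨rfl, hm⟩
      · rcases hm with hm | hm | hm | hm | hm | hm | hm | hm | hm | hm | hm | hm
        · exact absurd (dv_L p37 (by norm_num) hd hna (by norm_num) (by norm_num) (by norm_num) hm) (by decide +kernel)
        · exact absurd (dv_L p37 (by norm_num) hd hna (by norm_num) (by norm_num) (by norm_num) hm) (by decide +kernel)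
        · exact absurd (dv_L p37 (by norm_num) hd hna (by norm_num) (by norm_num) (by norm_num) hm) (by decide +kernel)
        · exact absurd (dv_L p37 (by norm_num) hd hna (by norm_num) (by norm_num) (by norm_num) hm) (by decide +kernel)
        · exact absurd (dv_U p37 (by norm_num) hd hna (by norm_num) (by norm_num) (by norm_num) hm) (by decide +kernel)
        · exact absurd (dv_U p37 (by norm_num) hd hna (by norm_num) (by norm_num) (by norm_num) hm) (by decide +kernel)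
        · exact absurd (dv_S p37 (by norm_num) hd hna (by norm_num) (by norm_num) (by norm_num) hm) (by decide +kernel)
        · exact absurd (dv_OP p37 (by norm_num) hd hna (by norm_num) (by norm_num) hm) (by decide +kernel)
        · exact absurd (dv_G2 p37 (by norm_num) hd hna (by norm_num) (by norm_num) hm) (by decide +kernel)
        · exact absurd (dv_F4 p37 (by norm_num) hd hna (by norm_num) hm) (by decide +kernel)
        · obtain ⟨K, iK, iKf, hK, e⟩ := hm
          have hch : CharP K 2 := charP_of_dvd Nat.prime_two (by rw [hK]; norm_num)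
          have h1 := le_of_ls' hC hrF (H203.LS.TwE6.ls Nat.prime_two.isPrimePow hK) e
          norm_num at h1
        · obtain ⟨K, iK, iKf, hK, ⟨e⟩⟩ := hm
          exact absurd (dv_Sz p37 (by norm_num) hd hna (m := 1) le_rfl (by rw [hK]; norm_num) (by norm_num) e)
            (by decide +kernel)
      · exact hr3 rfl
    · exact cross37_cl hna hd hr hrF (PR.of_noR hm P hC.perfect (MulEquiv.refl _)) hcl
  · exfalso
    rcases hexc with ⟨K, _, _, _, h⟩ | ⟨K, _, _, _, q, hq, h⟩ | ⟨rfl, K, _, _, m, hm, hK, ⟨e'⟩⟩ |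
      ⟨rfl, K, _, _, m, hm, hK, ⟨e'⟩⟩ | ⟨rfl, -⟩
    · have : Fact r.Prime := ⟨hr⟩
      have hq2 : 2 ≤ Nat.card K := by
        rw [Nat.card_eq_fintype_card]
        exact Fintype.one_lt_card
      rcases h with ⟨h3, ⟨e'⟩⟩ | ⟨⟨e'⟩⟩ | ⟨⟨e'⟩⟩ | ⟨⟨e'⟩⟩ | ⟨⟨e'⟩⟩
      · have hG : H912.Bd.IsG2 (Fintype.card K) (Soc P) := ⟨K, inferInstance, inferInstance, rfl, ⟨e'⟩⟩
        by_cases h4 : Fintype.card K = 4
        · rw [h4] at hG
          exact absurd (dv_G2 p37 (by norm_num) hd hna (by norm_num) (by norm_num) hG) (by decide +kernel)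
        · have h1 := key (G2.ls K (by rw [Nat.card_eq_fintype_card]; omega)
            (by rw [Nat.card_eq_fintype_card]; exact h4)) e'
          rw [Nat.card_eq_fintype_card] at h1
          have h5 : Fintype.card K < 6 := by
            by_contra hcon
            have h6 : 5 * 6 ≤ (Fintype.card K - 1) * Fintype.card K := Nat.mul_le_mul (by omega) (by omega)
            omega
          have hfit := dv_G2 p37 (by norm_num) hd hna h3 (by omega) hG
          clear hG e' hq2 h1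
          generalize Fintype.card K = q at *
          interval_cases q
          · exact absurd hfit (by decide +kernel)
          · exact absurd rfl h4
          · exact absurd hfit (by decide +kernel)
      · by_cases h2 : (2 : K) = 0
        · by_cases h3 : 2 < Nat.card K
          · have h1 := key (F4even.ls_even K h2 h3) e'
            have := mul_pow_ge h3 (le_refl 4)
            omega
          · have h4 : Fintype.card K = 2 := by rw [← Nat.card_eq_fintype_card]; omega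
            exact absurd (dv_F4 p37 (by norm_num) hd hna (by norm_num) ⟨K, inferInstance, inferInstance, h4, ⟨e'⟩⟩)
              (by decide +kernel)
        · have h1 := key (F4odd.ls_odd K h2) e'
          have h3 : 3 ≤ Nat.card K := by
            by_contra hcon
            have h4 : Nat.card K = 2 := by omega
            apply h2
            have h5 : ((Nat.card K : ℕ) : K) = 0 := by
              rw [Nat.card_eq_fintype_card]
              exact Nat.cast_card_eq_zero K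
            rw [h4] at h5
            exact_mod_cast h5
          have := mul_pow_ge h3 (le_refl 4)
          omega
      · have h1 := key (E6.ls K) e'
        have := mul_pow_ge' hq2 (show 6 ≤ 10 by norm_num)
        omega
      · have h1 := key (E7.ls K) e'
        have := mul_pow_ge' hq2 (show 6 ≤ 16 by norm_num)
        omega
      · have h1 := key (E8.ls K) e'
        have := mul_pow_ge' hq2 (show 6 ≤ 28 by norm_num)
        omega
    · have hq2 : 2 ≤ q := hq.two_le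
      rcases h with ⟨hK, ⟨e'⟩⟩ | ⟨hK, ⟨e'⟩⟩
      · have h1 := key (TwE6.ls hq hK) e'
        have := mul_pow_ge' hq2 (le_refl 6)
        omega
      · have h1 := key (TwD4.ls hq hK) e'
        by_cases h3 : 3 ≤ q
        · have := mul_pow_ge h3 (le_refl 4)
          omega
        · have h2 : q = 2 := by omega
          subst h2
          exact absurd (dv_TD4 p37 (by norm_num) hd hna hq hK (by norm_num) e') (by decide +kernel)
    · have h1 := key (LS.sz hm hK) e'
      rw [Nat.card_eq_fintype_card, hK] at h1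
      have h2 : m < 2 := by
        by_contra hcon
        have : 2 ^ 5 ≤ 2 ^ (2 * m + 1) := Nat.pow_le_pow_right (by norm_num) (by omega)
        omega
      have h3 : m = 1 := by omega
      subst h3
      exact absurd (dv_Sz p37 (by norm_num) hd hna (m := 1) le_rfl hK (by norm_num) e') (by decide +kernel)
    · have h1 := key (TwF4.ls hm hK) e'
      rw [Nat.card_eq_fintype_card, hK] at h1
      have h2 : 2 ^ 3 ≤ 2 ^ (2 * m + 1) := Nat.pow_le_pow_right (by norm_num) (by omega)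
      have h3 : 7 * 8 ^ 2 ≤ (2 ^ (2 * m + 1) - 1) * (2 ^ (2 * m + 1)) ^ 2 :=
        Nat.mul_le_mul (by omega) (Nat.pow_le_pow_left (by omega) 2)
      omega
    · exact hr3 rfl

end lie

section rest

variable {F : Type u} [Field F] [Finite F]

theorem spor37 (hq : Nat.card F = 3) {k : ℕ} {P : Subgroup (GL (Fin 19) F)} (h : Row k 37 P)
    (hs : IsSporadicGroup (Soc P)) : False := by
  obtain ⟨p, hpF⟩ := CharP.exists F
  have hp : p.Prime := CharP.char_is_prime F p
  have hp3 : p = 3 := by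
    have hd := p_of (F := F) p hp
    rw [hq] at hd
    exact (Nat.prime_dvd_prime_iff_eq hp Nat.prime_three).1 hd
  have hc := h.core
  have key := fun {N : ℕ} (hN : Nat.card (Soc P) = N) => dvd_of_row h hs hN
  rcases id hs with hh | hh | hh | hh | hh | hh | hh | hh | hh | hh | hh | hh | hh | hh | hh | hh | hh | hh | hh | hh | hh | hh | hh | hh | hh | hh
  · exact absurd (key (Orders.m11 hh)) (by decide +kernel)
  · exact absurd (key (Orders.m12 hh)) (by decide +kernel)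
  · exact absurd (key (Orders.m22 hh)) (by decide +kernel)
  · exact absurd (key (Orders.m23 hh)) (by decide +kernel)
  · exact absurd (key (Orders.m24 hh)) (by decide +kernel)
  · exact absurd (key (Orders.j1 hh)) (by decide +kernel)
  · exact absurd (key (Orders.j2 hh)) (by decide +kernel)
  · exact absurd (key (Orders.j3 hh)) (by decide +kernel)
  · obtain ⟨e⟩ := hh
    have hs4 : IsSimpleGroup Cfsg.Spor.J4 := (MulEquiv.isSimpleGroup_congr e).1 hc.simple
    have h1 := H489.Deg.le_of_bd hc e Cfsg.Agent.S2042.result (r := 23) (by norm_num)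
      ((H921.Spor.J4.J4_twentythree' hs4).bd (F := F) (by norm_num)
        (H489.Deg.cast_ne (F := F) hp (by norm_num) (by omega)))
    omega
  · exact absurd (key (Orders.co1 hh)) (by decide +kernel)
  · exact absurd (key (Orders.co2 hh)) (by decide +kernel)
  · exact absurd (key (Orders.co3 hh)) (by decide +kernel)
  · exact absurd (key (Orders.mcl hh)) (by decide +kernel)
  · exact absurd (key (Orders.hs hh)) (by decide +kernel)
  · exact absurd (key (Orders.suz hh)) (by decide +kernel)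
  · exact absurd (key (Orders.he hh)) (by decide +kernel)
  · exact absurd (key (Orders.ru hh)) (by decide +kernel)
  · exact absurd (key (Orders.on hh)) (by decide +kernel)
  · obtain ⟨e⟩ := hh
    have := H489.Deg.le_of_bd hc e Cfsg.Agent.S2050.result (r := 5) (by norm_num)
      (H489.Deg.Ly.ly_five (F := F) (H489.Deg.cast_ne (F := F) hp (by norm_num : (5 : ℕ).Prime) (by omega)))
    omega
  · exact absurd (key (Orders.fi22 hh)) (by decide +kernel)
  · exact absurd (key (Orders.fi23 hh)) (by decide +kernel)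
  · exact absurd (key (Orders.fi24 hh)) (by decide +kernel)
  · exact absurd (key (Orders.hn hh)) (by decide +kernel)
  · exact absurd (key (Orders.th hh)) (by decide +kernel)
  · exact absurd (key (Orders.b hh)) (by decide +kernel)
  · exact absurd (key (Orders.m hh)) (by decide +kernel)

end rest

end Cfsg.Agent.H2.Rb.Cx

namespace Cfsg.Agent.H2.Rb

open Cfsg Cfsg.Geo Matrix
open Cfsg.Agent.H915.LD Cfsg.Agent.H2.Rb.C100 Cfsg.Agent.H2.Rb.Cx

variable {F : Type u} [Field F] [Finite F]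

/-- **The rows with `m = 37`.** -/
theorem Row.out37 (hq : Nat.card F = 3) {P : Subgroup (GL (Fin 19) F)} (h : Row 18 37 P)
    (hk : IsKnownSimple' (Soc P)) : Nat' P ∨ Nat.card (MulAut (Soc P)) ≤ 50616 := by
  obtain ⟨p, hpF⟩ := CharP.exists F
  have hp : Fact p.Prime := ⟨CharP.char_is_prime F p⟩
  have hc := h.core
  have hs : IsSimpleGroup (Soc P) := hc.simple
  have hna := hc.nonabelian
  have hd : 37 ∣ Nat.card (MulAut (Soc P)) := h.dvd_card (MulEquiv.refl _)
  have h3F : (3 : F) = 0 := by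
    have := Fintype.ofFinite F
    have h5 : ((Nat.card F : ℕ) : F) = 0 := by
      rw [Nat.card_eq_fintype_card]
      exact Nat.cast_card_eq_zero F
    rw [hq] at h5
    exact_mod_cast h5
  rcases H912.Known.known_split hk (H912.Known.not_primeCyclic hc.nonabelian) with hT | ⟨r, hr, hT⟩ | hT | hT
  · exact (alt_kill p37 (by norm_num) (by norm_num) p hd hT).elim
  · by_cases hrF : (r : F) = 0
    · have hrp : CharP F r := (CharP.charP_iff_prime_eq_zero hr).2 hrF
      have : Fact r.Prime := ⟨hr⟩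
      rcases Row.nat_def' h r hT with h1 | hG | ⟨-, K, _, _, hK, ⟨e⟩⟩
      · exact Or.inl h1
      · exact absurd (dv_G2 p37 (by norm_num) hd hna (by norm_num) (by norm_num) hG) (by decide +kernel)
      · exact absurd (dv_TD4 p37 (by norm_num) hd hna Nat.prime_two.isPrimePow hK (by norm_num) e) (by decide +kernel)
    · exact Or.inr (cross37 h3F hc hd hr hrF hT)
  · exact (tits_kill p37 (by norm_num) hc hd hT).elim
  · exact (spor37 hq h hT).elim

/-- **Piece (S), `q = 3`, `n = 19`, `r = 37`.** -/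
theorem small37 (hKS : ∀ (T : Type u) [Group T] [Finite T] [IsSimpleGroup T], IsKnownSimple' T)
    (hq : Nat.card F = 3) (R : Subgroup (GL (Fin 19) F)) (hd : 37 ∣ Nat.card R)
    (hirr : ActsIrreducibly (matrixSet R)) :
    specialLinear (Fin 19) F ≤ R ∨
    (∃ f : (Fin 19 → F) → (Fin 19 → F) → F, IsSymplecticForm f ∧
        ∀ x : GL (Fin 19) F, FixesForm {(x : Matrix (Fin 19) (Fin 19) F)} f → x ∈ R) ∨
    (∃ (τ : F ≃+* F) (f : (Fin 19 → F) → (Fin 19 → F) → F), IsUnitaryForm τ f ∧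
        ∀ x : GL (Fin 19) F, FixesForm {(x : Matrix (Fin 19) (Fin 19) F)} f →
          Matrix.GeneralLinearGroup.det x = 1 → x ∈ R) ∨
    (∃ Q : (Fin 19 → F) → F, IsNondegenerateQuadraticForm Q ∧ omegaGL Q ≤ R) ∨
    Nat.card R ≤ 101232 := by
  have hord : orderOf ((3 : ℕ) : ZMod 37) = 1 * 18 := by
    have : Fact (Nat.Prime 37) := ⟨p37⟩
    rw [one_mul, orderOf_eq_iff (by norm_num)]
    refine ⟨by decide +kernel, ?_⟩
    decide +kernel
  have hnum := num_of (F := F) (n := 19) (k := 18) Nat.prime_three (by rw [hq, pow_one]) (by norm_num) (by norm_num)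
    (by norm_num) p37 (by norm_num) hord (Or.inr (Or.inl ⟨hq, rfl⟩)) (hd.trans (Subgroup.card_subgroup_dvd_card R))
  have : Fact (Nat.Prime 37) := ⟨p37⟩
  obtain ⟨x, hx⟩ := exists_prime_orderOf_dvd_card' (G := R) 37 hd
  rcases struct' hnum (g := (x : GL (Fin 19) F)) (by rw [Subgroup.orderOf_coe, hx]) R x.2 hirr with
    h | ⟨P, hPR, hPn, hrow⟩ | ⟨t, D, hD, hRD⟩ | ⟨h, -⟩
  · obtain ⟨s, E, h1, h2, h3, h4⟩ := h
    exact absurd h2 (by
      have h5 : Nat.gcd 19 18 = 1 := by norm_num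
      rw [h5]
      exact fun h6 => h1.one_lt.ne' (Nat.dvd_one.1 h6))
  · have hs : IsSimpleGroup (Soc P) := hrow.core.simple
    rcases Row.out37 hq hrow (hKS (Soc P)) with (h | ⟨f, hf, h⟩ | ⟨τ, f, hf, h⟩ | ⟨Q, hQ, h⟩) | h
    · exact Or.inl (h.trans hPR)
    · exact Or.inr (Or.inl ⟨f, hf, fun x hx => hPR (h x hx)⟩)
    · exact Or.inr (Or.inr (Or.inl ⟨τ, f, hf, fun x hx hd => hPR (h x hx hd)⟩))
    · exact Or.inr (Or.inr (Or.inr (Or.inl ⟨Q, hQ, h.trans hPR⟩)))
    · refine Or.inr (Or.inr (Or.inr (Or.inr ?_)))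
      have h4 := card_le_of_row' hrow hPn h
      rw [hq] at h4
      exact h4
  · exact (lines_kill hD (hRD x.2) p37 (by rw [Subgroup.orderOf_coe, hx]) (by norm_num) (by rw [hq]; norm_num)).elim
  · norm_num at h

end Cfsg.Agent.H2.Rb
end

-- part: H449/Reg/OddAll
section
/-!
# S3691: the field `oodd` of `H386.Rg.Inp`, all hypotheses except `Ω_7` filled in (helper449)
-/

set_option autoImplicit false
set_option linter.unusedSectionVars false

namespace Cfsg.Agent.H449.Reg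

open Module QuadraticMap Cfsg Cfsg.Geo Cfsg.Agent.H884.El Cfsg.Agent.H955
open scoped MatrixGroups Matrix

universe u

theorem aCase : ACase := by
  intro F _ _ Q H p f r8 hp hf hpf h8 hQ hP hM a ha hoa
  obtain ⟨p', f', r8', N, r3, n⟩ := H975.Cov.exists_num F
  -- the prime `p'` is `p`
  have hpow : p' ^ f' = p ^ f := by rw [← n.hpf, hpf]
  have hpp : p' = p := by
    have h1 : p' ∣ p ^ f := by rw [← hpow]; exact dvd_pow_self p' (by have := n.hf; omega)
    exact (Nat.prime_dvd_prime_iff_eq n.hp hp).1 (n.hp.dvd_of_dvd_pow h1)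
  subst hpp
  have hff : f' = f := Nat.pow_right_injective hp.two_le hpow
  subst hff
  exact H975.Cov.a_case (r8 := r8) (N := N) (r3 := r3) ⟨n.hp, n.hf, n.hpf, h8, n.h3, n.h3f, n.hN⟩ hQ hP hM ha hoa

theorem small37 : Small37 := by
  intro F _ _ hF R hd hirr
  rcases H2.Rb.small37 (fun T => S0000.result) hF R hd hirr with h | h | h | h | h
  · exact Or.inl h
  · exact Or.inr (Or.inl h)
  · exact Or.inr (Or.inr (Or.inl h))
  · exact Or.inr (Or.inr (Or.inr (Or.inl h)))
  · exact Or.inr (Or.inr (Or.inr (Or.inr (h.trans (by norm_num)))))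

/-- **the field `oodd`** -/
theorem row_oodd' (h7 : Seven.{u}) (F : Type) [Field F] [Fintype F] (m : ℕ) (hm : 3 ≤ m) (hodd : Odd (Fintype.card F)) :
    Cfsg.Agent.H454.Reg.Row.{0, u} (POmega F (quadFormOdd m F)) :=
  row_oodd S5948.result (fun hodd H hH hS => S5836.result hodd H hH hS) aCase small37 h7 (fun h => h.toFac) F m hm hodd

end Cfsg.Agent.H449.Reg
end
end

-- part: H851/Rg/RowE6
section
set_option linter.all false
open scoped Cfsg.Agent.FastGrp

-- part: H851/Rg/ESix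
section
/-!
# S3691, rows `E₆(q)`, `²E₆(q)` from the facts on subgroups containing half of two classes (helper851)

* `FactsE6`, `FactsTE6` : the facts (helper290, helper997, helper414)
* `no_fac_E6`, `no_fac_TE6` : there is no exact factorization
* `row_e6`, `row_te6` : the rows
-/

set_option autoImplicit false

namespace Cfsg.Agent.H851.Rg

open Cfsg Subgroup Cfsg.Lie Cfsg.Agent.H454.Reg Cfsg.Agent.H73.Rg Cfsg.Agent.H436 Cfsg.Agent.H56.Exc Cfsg.Agent.H813.Rg

universe u v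

/-- a prime dividing neither `|Out T|` nor `|Y ∩ T|` does not divide `|T : X ∩ T|` -/
theorem not_dvd_index {G : Type u} [Group G] [Finite G] {T X Y : Subgroup G} {K : Type v} [Group K] (h : Fac T X Y)
    (e : T ≃* K) {r : ℕ} (hr : r.Prime) (hout : ¬ r ∣ Nat.card (Cfsg.Out K))
    (hY : ¬ r ∣ Nat.card ((Y.subgroupOf T).map e.toMonoidHom)) : ¬ r ∣ ((X.subgroupOf T).map e.toMonoidHom).index := by
  rw [card_map'] at hY
  rw [index_map']
  have h2 := h.val_eq (r := r) (by rw [card_out_congr e]; exact hout)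
  rw [Nat.factorization_eq_zero_of_not_dvd hY, add_zero] at h2
  have h3 := (X.subgroupOf T).card_mul_index
  have h4 : Nat.card (X.subgroupOf T) ≠ 0 := Nat.card_pos.ne'
  have h5 : (X.subgroupOf T).index ≠ 0 := fun h6 => by
    rw [h6, mul_zero] at h3
    exact Nat.card_pos.ne h3
  intro h6
  have h7 : 0 < (X.subgroupOf T).index.factorization r := hr.factorization_pos_of_dvd h5 h6
  rw [← h3, Nat.factorization_mul h4 h5, Finsupp.add_apply] at h2
  omega

/-- the abstract argument: the classes `a`, `b`, `c` and a prime `s` -/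
theorem no_fac {G : Type u} [Group G] [Finite G] {T X Y : Subgroup G} {K : Type v} [Group K] {p f a b c d s : ℕ}
    (k1 : ∀ B : Subgroup K, HOff p f [a, b] B → B = ⊤)
    (k2 : ∀ B : Subgroup K, HOff p f [a, c] B → B = ⊤)
    (k3 : ∀ B : Subgroup K, B ≠ ⊤ → HOff p f [c, b] B → (∀ r, Prim (p ^ f) a r → ¬ r ∣ Nat.card B) ∧
      ∀ r, Prim (p ^ f) d r → ¬ r ∣ Nat.card B)
    (k4 : ∀ B : Subgroup K, (∀ r, Prim (p ^ f) a r → ¬ r ∣ Nat.card (Cfsg.Out K) → ¬ r ∣ B.index) →
      (∃ s, Prim p (f * d) s ∧ s ∣ Nat.card B) → B = ⊤)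
    (hp : p.Prime) (hf : 1 ≤ f) (hb : 5 ≤ b) (hc : 5 ≤ c) (clb : Cl p f K b) (clc : Cl p f K c)
    (hs : Prim p (f * d) s) (hsK : s ∣ Nat.card K) (hsO : ¬ s ∣ Nat.card (Cfsg.Out K))
    (h : Fac T X Y) (e : T ≃* K) (hX : HAt p f a ((X.subgroupOf T).map e.toMonoidHom)) : False := by
  have hXt := map_ne_top_left h e
  have hYt := map_ne_top_right h e
  have hYb := (clb.fac h e hp hf hb).resolve_left fun h1 => hXt (k1 _ (hoff2 hX h1))
  have hYc := (clc.fac h e hp hf hc).resolve_left fun h1 => hXt (k2 _ (hoff2 hX h1))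
  obtain ⟨h1, h2⟩ := k3 _ hYt (hoff2 hYc hYb)
  refine hXt (k4 _ (fun r hr hro => not_dvd_index h e hr.prime hro (h1 r hr)) ⟨s, hs, ?_⟩)
  rcases prime_of_fac h e hs.prime hsK (by rw [card_out_congr e]; exact hsO) with h3 | h3
  · exact h3
  · exact absurd h3 (h2 s (prim_of_prim hf hs))

/-- **the facts on `E₆(q)`, `q ≥ 3`** -/
structure FactsE6 : Prop where
  k1 : ∀ (F : Type) [Field F] [Fintype F] (p f : ℕ), p.Prime → 1 ≤ f → Fintype.card F = p ^ f → 3 ≤ p ^ f →
    ∀ B : Subgroup ↥(chevE6.group F), HOff p f [9, 12] B → B = ⊤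
  k2 : ∀ (F : Type) [Field F] [Fintype F] (p f : ℕ), p.Prime → 1 ≤ f → Fintype.card F = p ^ f → 3 ≤ p ^ f →
    ∀ B : Subgroup ↥(chevE6.group F), HOff p f [9, 8] B → B = ⊤
  k3 : ∀ (F : Type) [Field F] [Fintype F] (p f : ℕ), p.Prime → 1 ≤ f → Fintype.card F = p ^ f → 3 ≤ p ^ f →
    ∀ B : Subgroup ↥(chevE6.group F), B ≠ ⊤ → HOff p f [8, 12] B →
      (∀ r, Prim (p ^ f) 9 r → ¬ r ∣ Nat.card B) ∧ ∀ r, Prim (p ^ f) 5 r → ¬ r ∣ Nat.card B
  k4 : ∀ (F : Type) [Field F] [Fintype F] (p f : ℕ), p.Prime → 1 ≤ f → Fintype.card F = p ^ f → 3 ≤ p ^ f →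
    ∀ B : Subgroup ↥(chevE6.group F),
      (∀ r, Prim (p ^ f) 9 r → ¬ r ∣ Nat.card (Cfsg.Out ↥(chevE6.group F)) → ¬ r ∣ B.index) →
      (∃ s, Prim p (f * 5) s ∧ s ∣ Nat.card B) → B = ⊤

/-- **the facts on `²E₆(q)`, `q ≥ 3`** -/
structure FactsTE6 : Prop where
  k1 : ∀ (F : Type) [Field F] [Fintype F] (p f : ℕ), p.Prime → 1 ≤ f → Fintype.card F = (p ^ f) ^ 2 → 3 ≤ p ^ f →
    ∀ B : Subgroup ↥(twistedE6 F (p ^ f)), HOff p f [18, 12] B → B = ⊤
  k2 : ∀ (F : Type) [Field F] [Fintype F] (p f : ℕ), p.Prime → 1 ≤ f → Fintype.card F = (p ^ f) ^ 2 → 3 ≤ p ^ f →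
    ∀ B : Subgroup ↥(twistedE6 F (p ^ f)), HOff p f [18, 8] B → B = ⊤
  k3 : ∀ (F : Type) [Field F] [Fintype F] (p f : ℕ), p.Prime → 1 ≤ f → Fintype.card F = (p ^ f) ^ 2 → 3 ≤ p ^ f →
    ∀ B : Subgroup ↥(twistedE6 F (p ^ f)), B ≠ ⊤ → HOff p f [8, 12] B →
      (∀ r, Prim (p ^ f) 18 r → ¬ r ∣ Nat.card B) ∧ ∀ r, Prim (p ^ f) 10 r → ¬ r ∣ Nat.card B
  k4 : ∀ (F : Type) [Field F] [Fintype F] (p f : ℕ), p.Prime → 1 ≤ f → Fintype.card F = (p ^ f) ^ 2 → 3 ≤ p ^ f →
    ∀ B : Subgroup ↥(twistedE6 F (p ^ f)),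
      (∀ r, Prim (p ^ f) 18 r → ¬ r ∣ Nat.card (Cfsg.Out ↥(twistedE6 F (p ^ f))) → ¬ r ∣ B.index) →
      (∃ s, Prim p (f * 10) s ∧ s ∣ Nat.card B) → B = ⊤

/-- `|E₆(2)|` and `|²E₆(2)|` are small -/
theorem q_ge_E6 {F : Type} [Field F] [Fintype F] (h : 3 * Nat.factorial 29 < Nat.card ↥(chevE6.group F)) :
    3 ≤ Fintype.card F := by
  by_contra hlt
  have h2 : Fintype.card F = 2 := by
    have := Fintype.one_lt_card (α := F)
    omega
  have h3 := ord_E6 (F := F) h2
  norm_num [Nat.factorial] at h3 h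
  omega

theorem q_ge_TE6 {F : Type} [Field F] [Fintype F] {q : ℕ} (hq : IsPrimePow q) (hF : Fintype.card F = q ^ 2)
    (h : 3 * Nat.factorial 29 < Nat.card ↥(twistedE6 F q)) : 3 ≤ q := by
  by_contra hlt
  have h2 : q = 2 := by
    have := hq.two_le
    omega
  subst h2
  have h3 := ord_TE6 (F := F) hq hF
  norm_num [Nat.factorial] at h3 h
  omega

/-- **`E₆`** -/
theorem no_fac_E6 (K : FactsE6) {F : Type} [Field F] [Fintype F] {G : Type u} [Group G] [Finite G] {T X Y : Subgroup G}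
    (h : Fac T X Y) (e : T ≃* ↥(chevE6.group F)) : False := by
  obtain ⟨p, hpc⟩ := CharP.exists F
  have hp : p.Prime := CharP.char_is_prime F p
  obtain ⟨⟨f, hf⟩, -, hF⟩ := FiniteField.card F p
  replace hF : Fintype.card F = p ^ f := hF
  have hf : 1 ≤ f := hf
  have h3 : 3 ≤ p ^ f := by
    rw [← hF]
    refine q_ge_E6 ?_
    rw [← Nat.card_congr e.toEquiv]
    exact h.large
  obtain ⟨s, hs⟩ := exists_prim_class hp hf (c := 5) le_rfl (by norm_num)
  obtain ⟨hs1, hs2⟩ := five_E6 hp hf hF hs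
  have cl9 := cl_E6 hp hf hF (c := 9) (Or.inr (Or.inl rfl))
  have cl12 := cl_E6 hp hf hF (c := 12) (Or.inr (Or.inr rfl))
  have cl8 := cl_E6 hp hf hF (c := 8) (Or.inl rfl)
  rcases cl9.fac h e hp hf (by norm_num) with h9 | h9
  · exact no_fac (K.k1 F p f hp hf hF h3) (K.k2 F p f hp hf hF h3) (K.k3 F p f hp hf hF h3) (K.k4 F p f hp hf hF h3) hp hf
      (by norm_num) (by norm_num) cl12 cl8 hs hs1 hs2 h e h9
  · exact no_fac (K.k1 F p f hp hf hF h3) (K.k2 F p f hp hf hF h3) (K.k3 F p f hp hf hF h3) (K.k4 F p f hp hf hF h3) hp hf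
      (by norm_num) (by norm_num) cl12 cl8 hs hs1 hs2 h.symm e h9

/-- **`²E₆`** -/
theorem no_fac_TE6 (K : FactsTE6) {F : Type} [Field F] [Fintype F] {q : ℕ} (hFq : Fintype.card F = q ^ 2)
    {G : Type u} [Group G] [Finite G] {T X Y : Subgroup G} (h : Fac T X Y) (e : T ≃* ↥(twistedE6 F q)) : False := by
  obtain ⟨p, hpc⟩ := CharP.exists F
  have hp : p.Prime := CharP.char_is_prime F p
  obtain ⟨⟨m, hm⟩, -, hF⟩ := FiniteField.card F p
  replace hF : Fintype.card F = p ^ m := hF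
  have h1 : q ∣ p ^ m := by rw [← hF, hFq]; exact dvd_pow_self q two_ne_zero
  obtain ⟨f, -, rfl⟩ := (Nat.dvd_prime_pow hp).1 h1
  have hf : 1 ≤ f := by
    rcases Nat.eq_zero_or_pos f with h0 | h0
    · subst h0
      have := Fintype.one_lt_card (α := F)
      simp at hFq
      omega
    · exact h0
  have hqq : IsPrimePow (p ^ f) := hp.isPrimePow.pow (by omega)
  have h3 : 3 ≤ p ^ f := by
    refine q_ge_TE6 hqq hFq ?_
    rw [← Nat.card_congr e.toEquiv]
    exact h.large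
  obtain ⟨s, hs⟩ := exists_prim_class hp hf (c := 10) (by norm_num) (by norm_num)
  obtain ⟨hs1, hs2⟩ := ten_TE6 hp hf hFq hs
  have cl18 := cl_TE6 hp hf hFq (c := 18) (Or.inr (Or.inr rfl))
  have cl12 := cl_TE6 hp hf hFq (c := 12) (Or.inr (Or.inl rfl))
  have cl8 := cl_TE6 hp hf hFq (c := 8) (Or.inl rfl)
  rcases cl18.fac h e hp hf (by norm_num) with h9 | h9
  · exact no_fac (K.k1 F p f hp hf hFq h3) (K.k2 F p f hp hf hFq h3) (K.k3 F p f hp hf hFq h3) (K.k4 F p f hp hf hFq h3) hp hf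
      (by norm_num) (by norm_num) cl12 cl8 hs hs1 hs2 h e h9
  · exact no_fac (K.k1 F p f hp hf hFq h3) (K.k2 F p f hp hf hFq h3) (K.k3 F p f hp hf hFq h3) (K.k4 F p f hp hf hFq h3) hp hf
      (by norm_num) (by norm_num) cl12 cl8 hs hs1 hs2 h.symm e h9

/-- **the row `E₆`** -/
theorem row_e6 (K : FactsE6) (F : Type) [Field F] [Fintype F] : Row.{0, u} ↥(chevE6.group F) := by
  intro G _ _ T H B hE ⟨e⟩
  exact (no_fac_E6 K hE.toFac e).elim

/-- **the row `²E₆`** -/
theorem row_te6 (K : FactsTE6) (F : Type) [Field F] [Fintype F] (q : ℕ) (hF : Fintype.card F = q ^ 2) :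
    Row.{0, u} ↥(twistedE6 F q) := by
  intro G _ _ T H B hE ⟨e⟩
  exact (no_fac_TE6 K hF hE.toFac e).elim

end Cfsg.Agent.H851.Rg
end

-- part: H290/Rg/CoreK
section
/-!
# The core argument for half classes, with killed primes (helper290)

`coreK` : `H73.Rg.coreH` with the reducedness hypothesis `Good B n t ∨ KillB B t`; `sep_of` : separation of two classes.
-/

set_option autoImplicit false

namespace Cfsg.Agent.H290.Rg

open Cfsg Cfsg.Agent.OrdDiv Cfsg.Agent.H436 Cfsg.Agent.H902 Cfsg.Agent.H902.Names Cfsg.Agent.H915.GN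
  Cfsg.Agent.H290.ElReg Cfsg.Agent.H290.ElTab Cfsg.Agent.H290.ElCross Cfsg.Agent.H264.FKS Cfsg.Agent.H56.Exc
  Cfsg.Agent.H325.Loc Cfsg.Agent.H563.KG Cfsg.Agent.H73.Rg Cfsg.Agent.H190.Odd

variable {n p f : ℕ} {fam : List ℕ} {M E : ℕ → ℕ}

/-- **The simple normal subgroup.** -/
theorem coreK (hcyc : CycFixSolv.{0}) (hp : p.Prime) (hf : 1 ≤ f) {F : Type} [Field F] [CharP F p]
    {T : Type} [Group T] [Finite T] (hrep : Fth n F T)
    (hbig : ∀ c ∈ fam, ∀ r, Prim (p ^ f) c r → Big T r (M c) (E c))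
    {c₀ r₀ : ℕ} (hc₀ : c₀ ∈ fam) (hr₀ : Prim p (f * c₀) r₀) (hpiso : PIso p r₀ T)
    {B : Subgroup T} (hr₀B : r₀ ∣ Nat.card B) (hsep : ∀ c ∈ fam, ¬ Nat.card B ∣ E c * M c)
    (hne : ∀ c ∈ fam, ∃ r, Prim p (f * c) r ∧ r ∣ Nat.card B)
    (hgood : ∀ t : ℕ, t.Prime → t ≠ p → (∀ c ∈ fam, ¬ Prim p (f * c) t) → t ∣ Nat.card B →
      Good B n t ∨ KillB B t) :
    ∃ (S : Subgroup B) (_ : S.Normal) (_ : IsSimpleGroup S), ¬ IsMulCommutative S ∧
      (∀ c ∈ fam, S.index ∣ E c * M c) ∧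
      (∀ c ∈ fam, ∀ r, Prim p (f * c) r → r ∣ Nat.card B →
        Big S r (M c) (E c) ∧ r ∣ Nat.card S ∧ ¬ r ∣ S.index) := by
  have := Fact.mk hp
  have hrf : RFam ↥B (FmH p f fam M E (Nat.card B)) :=
    { big := by
        rintro r m e ⟨c, hc, h, -, rfl, rfl⟩
        exact (hbig c hc r (prim_q hf h)).subgroup B
      dvd := by
        rintro r m e ⟨c, hc, h, hN, rfl, rfl⟩
        exact hN
      sep := by
        rintro r m e ⟨c, hc, h, -, rfl, rfl⟩
        exact hsep c hc }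
  obtain ⟨τ, hτ⟩ := hrep.sub B.subtype B.subtype_injective
  have hred : Red ↥B (Pr (FmH p f fam M E (Nat.card B))) := by
    refine red_kill (p := p) hcyc (fun A hA hAp => pcore_of_piso (hpiso.sub B) hr₀B A hA hAp)
      (pr_fmH.2 ⟨c₀, hc₀, hr₀, hr₀B⟩) hr₀.prime hr₀B
      (fun x hx => ((hbig c₀ hc₀ r₀ (prim_q hf hr₀)).subgroup B).cyc x hx) fun t ht htp htn htB => ?_
    rcases hgood t ht htp (fun c hc h => htn (pr_fmH.2 ⟨c, hc, h, htB⟩)) htB with h | h
    · exact Good.kill hτ h ht htp (Fintype.card_fin n).le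
    · exact h
  obtain ⟨S, hSn, hSs, hSna, hS⟩ :=
    hrf.exists_full hcyc hred (r₁ := r₀) (m₁ := M c₀) (e₁ := E c₀) ⟨c₀, hc₀, hr₀, hr₀B, rfl, rfl⟩
  refine ⟨S, hSn, hSs, hSna, fun c hc => ?_, fun c hc r h hrB => ?_⟩
  · obtain ⟨r, hr, hrB⟩ := hne c hc
    exact (hS r (M c) (E c) ⟨c, hc, hr, hrB, rfl, rfl⟩).2.2.2
  · obtain ⟨h1, h2, h3, -⟩ := hS r (M c) (E c) ⟨c, hc, h, hrB, rfl, rfl⟩
    exact ⟨h1, h2, h3⟩

/-- separation of two classes -/
theorem sep_of {c c' N Mc Ec : ℕ} (hf : 1 ≤ f) {r : ℕ} (hr : Prim p (f * c') r) (hrN : r ∣ N) (hcc : ¬ c' ∣ c)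
    (hM : Mc ∣ (p ^ f) ^ c - 1) (hE : ¬ r ∣ Ec) : ¬ N ∣ Ec * Mc := by
  intro h
  rcases hr.prime.dvd_mul.1 (hrN.trans h) with h1 | h1
  · exact hE h1
  · exact hcc (((prim_q hf hr).dvd_iff c).1 (h1.trans hM))

end Cfsg.Agent.H290.Rg
end

-- part: H290/Rg/KH6
section
/-!
# Subgroups of `E₆(q)`, `q ≥ 3`, containing half of two classes (helper290, S3691)

* `k912` : `HOff p f [9, 12] B → B = ⊤`;
* `k98` : `HOff p f [9, 8] B → B = ⊤`;
* `k812` : `B ≠ ⊤ → HOff p f [8, 12] B →` no prime of the classes 9, 5 divides `|B|`.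
-/

set_option autoImplicit false
set_option exponentiation.threshold 7000
set_option linter.unusedSectionVars false

namespace Cfsg.Agent.H290.Rg.KH6

open Cfsg Cfsg.Agent.OrdDiv Cfsg.Agent.H436 Cfsg.Agent.H902 Cfsg.Agent.H902.Names Cfsg.Agent.H915.GN
  Cfsg.Agent.H290.ElReg Cfsg.Agent.H290.ElTab Cfsg.Agent.H290.ElCross Cfsg.Agent.H264.FKS Cfsg.Agent.H56.Exc
  Cfsg.Agent.H325.Loc Cfsg.Agent.H563.KG Cfsg.Agent.H73.Rg Cfsg.Agent.H190.Odd Cfsg.Agent.H325.IsoExc
  Cfsg.Agent.H325.IsoFree Cfsg.Agent.H563.KG.Kill Cfsg.Agent.H72.Same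

/-- the orders of the tori -/
def M6 (q c : ℕ) : ℕ := if c = 9 then Ph 9 q else if c = 12 then Ph 12 q * (q ^ 2 + q + 1) else Ph 8 q * (q ^ 2 - 1)

/-- the classes -/
def Cl6 (c : ℕ) : Prop := c = 8 ∨ c = 9 ∨ c = 12

section num

variable {q : ℕ}

theorem cast9 : ((Ph 9 q : ℕ) : ℤ) = 1 + (q : ℤ) ^ 3 + (q : ℤ) ^ 6 := by rw [cast_Ph9]; ring

theorem cast12 (hq : 1 ≤ q) : ((Ph 12 q * (q ^ 2 + q + 1) : ℕ) : ℤ) =
    (1 - (q : ℤ) ^ 2 + (q : ℤ) ^ 4) * (1 + (q : ℤ) + (q : ℤ) ^ 2) := by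
  rw [Nat.cast_mul, cast_Ph12 _ hq]; push_cast; ring

theorem cast8 (hq : 1 ≤ q) : ((Ph 8 q * (q ^ 2 - 1) : ℕ) : ℤ) = (1 + (q : ℤ) ^ 4) * ((q : ℤ) ^ 2 - 1) := by
  rw [Nat.cast_mul, cast_Ph8, cast_sub_one hq]; ring

theorem M6_dvd (hq : 1 ≤ q) {c : ℕ} (hc : Cl6 c) : M6 q c ∣ q ^ c - 1 := by
  rcases hc with rfl | rfl | rfl
  · change Ph 8 q * (q ^ 2 - 1) ∣ _
    refine dvd_of_cast (c := ((q : ℤ) ^ 2 + 1)) ?_
    rw [cast_sub_one hq, cast8 hq]
    ring
  · exact Ph_dvd c9 hq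
  · change Ph 12 q * (q ^ 2 + q + 1) ∣ _
    refine dvd_of_cast (c := ((q : ℤ) ^ 2 + 1) * ((q : ℤ) ^ 2 - 1) * ((q : ℤ) ^ 2 - q + 1)) ?_
    rw [cast_sub_one hq, cast12 hq]
    ring

end num

theorem not_dvd_cl {p f c c' r : ℕ} (hp : 2 ≤ p) (hf : 1 ≤ f) (hc : Cl6 c) (hc' : Cl6 c') (hr : Prim p (f * c') r) :
    ¬ r ∣ c := by
  intro h
  have h1 := mod_of_prim' hp hr
  have h2 : f * c' ≤ r - 1 := Nat.le_of_dvd (by have := hr.prime.two_le; omega) h1
  have h3 : 1 * c' ≤ f * c' := Nat.mul_le_mul_right _ hf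
  have h4 : r ∣ 2 * 3 := by
    rcases hc with rfl | rfl | rfl
    · exact (hr.prime.dvd_of_dvd_pow (show r ∣ 2 ^ 3 from h)).trans (by norm_num)
    · exact (hr.prime.dvd_of_dvd_pow (show r ∣ 3 ^ 2 from h)).trans (by norm_num)
    · rcases hr.prime.dvd_mul.1 (show r ∣ 2 ^ 2 * 3 from h) with h | h
      · exact (hr.prime.dvd_of_dvd_pow h).trans (by norm_num)
      · exact h.trans (by norm_num)
  have h5 := Nat.le_of_dvd (by norm_num) h4
  rcases hc' with rfl | rfl | rfl <;> omega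

theorem not_dvd_pair {c c' : ℕ} (hc : Cl6 c) (hc' : Cl6 c') (hne : c ≠ c') : ¬ c' ∣ c := by
  rcases hc with rfl | rfl | rfl <;> rcases hc' with rfl | rfl | rfl <;> first | exact absurd rfl hne | decide

section

variable {F : Type} [Field F] [Fintype F] {p f : ℕ} [CharP F p]

theorem big6 (hp : p.Prime) (hq : Fintype.card F = p ^ f) {c : ℕ} (hc : Cl6 c) {r : ℕ} (hr : Prim (p ^ f) c r) :
    Big ↥(Lie.chevE6.group F) r (M6 (p ^ f) c) c := by
  have hq1 : 1 ≤ p ^ f := Nat.one_le_pow _ _ hp.pos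
  rcases hc with rfl | rfl | rfl
  · exact big_E6_8 hq (cast8 hq1) hr
  · exact big_E6_9 hq cast9 hr
  · exact big_E6_12 hq (cast12 hq1) hr

theorem ord6 (hp : p.Prime) (hq : Fintype.card F = p ^ f) {c : ℕ} (hc : Cl6 c) :
    Ord ↥(Lie.chevE6.group F) (p ^ f) c (M6 (p ^ f) c) := fun _ hr x hx => (big6 hp hq hc hr).card x hx

theorem piso6 (hp : p.Prime) (hq : Fintype.card F = p ^ f) {c : ℕ} (hc : c = 9 ∨ c = 12) {r : ℕ}
    (hr : Prim (p ^ f) c r) : PIso p r ↥(Lie.chevE6.group F) := by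
  have := Fact.mk hp
  rcases hc with rfl | rfl
  · exact piso_E6 (F := F) (by rw [hq]; exact hr)
  · exact piso_E6_12 (F := F) (by rw [hq]; exact hr)

variable (tb : OrderTable.{0}) (hcyc : CycFixSolv.{0}) (hcf : CF)

include tb hcyc hcf in
/-- **The simple normal subgroup.** -/
theorem half6 {D : TD} {c c' : ℕ} (ht : TblH 78 D [] c c') (hY : D.Y = .E6) (he : D.e = c) (he' : D.e' = c')
    (hex : D.exs = []) (hc : Cl6 c) (hc' : Cl6 c') (hne : c ≠ c') (hp : p.Prime) (hf : 1 ≤ f)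
    (hq : Fintype.card F = p ^ f) (hq0 : D.q₀ ≤ p ^ f) (B : Subgroup ↥(Lie.chevE6.group F)) (hB : HOff p f [c, c'] B)
    (hgood : ∀ t : ℕ, t.Prime → t ≠ p → ¬ Prim p (f * c) t → ¬ Prim p (f * c') t → t ∣ Nat.card B →
      Good B 78 t ∨ KillB B t) :
    ∃ (S : Subgroup B) (_ : S.Normal) (_ : IsSimpleGroup S), S.index ∣ c * M6 (p ^ f) c ∧ S.index ∣ c' * M6 (p ^ f) c' ∧
      (∀ d, (d = c ∨ d = c') → ∀ r, Prim p (f * d) r → r ∣ Nat.card B →
        Big S r (M6 (p ^ f) d) d ∧ r ∣ Nat.card S ∧ ¬ r ∣ S.index) ∧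
      ∃ g, IsNamed g S ∧ HasChar p g := by
  have hp2 := hp.two_le
  have hq1 : 1 ≤ p ^ f := Nat.one_le_pow _ _ hp.pos
  have hT := named_e6 (F := F) tb
  rw [hq] at hT
  have hdT : Nat.card ↥(Lie.chevE6.group F) ∣ OL .E6 (p ^ f) := by
    rw [← show num (.e6 (p ^ f)) = OL .E6 (p ^ f) from rfl, ← hT.eq]
    exact Dvd.intro_left _ rfl
  have hall : ∀ d ∈ [c, c'], Cl6 d := by
    intro d hd
    have hd' : d = c ∨ d = c' := by simpa using hd
    rcases hd' with rfl | rfl
    · exact hc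
    · exact hc'
  have h8 : ∀ d, Cl6 d → 8 ≤ d := by rintro d (rfl | rfl | rfl) <;> norm_num
  have hex1 : ∀ d ∈ [c, c'], ∃ r, Prim p (f * d) r ∧ r ∣ Nat.card B := fun d hd =>
    (hB d hd).exists_prim hp2 hf (by have := h8 d (hall d hd); omega) (by have := h8 d (hall d hd); omega)
  -- a class for the parabolic subgroups
  obtain ⟨c₀, hc₀, hc₀'⟩ : ∃ c₀ ∈ [c, c'], c₀ = 9 ∨ c₀ = 12 := by
    rcases hc with rfl | rfl | rfl
    · exact ⟨c', by simp, hc'.resolve_left (fun h => hne h.symm)⟩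
    · exact ⟨9, by simp, Or.inl rfl⟩
    · exact ⟨12, by simp, Or.inr rfl⟩
  obtain ⟨r₀, hr₀, hr₀B⟩ := hex1 c₀ hc₀
  obtain ⟨S, hSn, hSs, hSna, hidx, hbS⟩ := coreK (n := 78) hcyc hp hf (F := F) (fam := [c, c']) (M := M6 (p ^ f))
    (E := fun d => d) fth_E6 (fun d hd r hr => big6 hp hq (hall d hd) hr) hc₀ hr₀
    (piso6 hp hq hc₀' (prim_q hf hr₀)) hr₀B (fun d hd => by
      -- separation
      obtain ⟨d', hd', hdd⟩ : ∃ d' ∈ [c, c'], d ≠ d' := by
        have hd' : d = c ∨ d = c' := by simpa using hd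
        rcases hd' with rfl | rfl
        · exact ⟨c', by simp, hne⟩
        · exact ⟨c, by simp, hne.symm⟩
      obtain ⟨r, hr, hrB⟩ := hex1 d' hd'
      exact sep_of hf hr hrB (not_dvd_pair (hall d hd) (hall d' hd') hdd) (M6_dvd hq1 (hall d hd))
        (not_dvd_cl hp2 hf (hall d hd) (hall d' hd') hr)) hex1
    (fun t ht htp htn htB => hgood t ht htp (htn c (by simp)) (htn c' (by simp)) htB)
  have hS2 : ∀ d ∈ [c, c'], PP p (f * d) ≤ (Nat.gcd (Nat.card S) (PP p (f * d))) ^ 2 := fun d hd =>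
    half_S hp2 (by have h1 := h8 d (hall d hd)
                   have h2 : 1 * d ≤ f * d := Nat.mul_le_mul_right _ hf
                   omega) S (hB d hd).half fun r hr hrB => (hbS d hd r hr hrB).2.2
  have hdS : Nat.card S ∣ OL .E6 (p ^ f) :=
    ((Subgroup.card_subgroup_dvd_card S).trans (Subgroup.card_subgroup_dvd_card B)).trans hdT
  refine ⟨S, hSn, hSs, hidx c (by simp), hidx c' (by simp), fun d hd => hbS d (by simpa using hd), ?_⟩
  refine nameH (EE := c) (EE' := c') (N := M6 (p ^ f) c) (N' := M6 (p ^ f) c') tb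
    (fun {_} _ _ {_ _ _ _} h Φ h5 hd => Cfsg.Agent.H427.Rg.alt_aut h Φ h5 hd) ht hp hf hq0 (F := F) (S := S) hSna (hcf S)
    ((fth_E6.sub B.subtype B.subtype_injective).sub S.subtype S.subtype_injective)
    (by rw [hY]; exact hdS) (by rw [he]; exact hS2 c (by simp)) (by rw [he']; exact hS2 c' (by simp))
    (by rw [hex]; intro d hd; cases hd)
    (fun r hr hrS => (hbS c (by simp) r (he ▸ hr) (hrS.trans (Subgroup.card_subgroup_dvd_card S))).1)
    (fun r hr hrS => (hbS c' (by simp) r (he' ▸ hr) (hrS.trans (Subgroup.card_subgroup_dvd_card S))).1)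
    (fun g l X a _ _ _ h => by cases h)

end

/-! ### the tables -/

def D912 : TD := ⟨.E6, 9, 12, 23, 6, 4, [], 3⟩
def D98 : TD := ⟨.E6, 9, 8, 23, 6, 4, [], 3⟩
def D812 : TD := ⟨.E6, 8, 12, 101, 4, 4, [], 3⟩

theorem tbl912 : TblH 78 D912 [] 9 12 where
  hn := by norm_num
  ok := ⟨by decide, by decide, by decide, by decide, by decide, by decide, by decide, by decide⟩
  ne := by decide
  hR := Cfsg.Agent.H73.Rg.Fast.chkR_of (by decide +kernel)
  hS := Cfsg.Agent.H73.Rg.Fast.chkS_of (by decide +kernel)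
  hE := by norm_num
  hE' := by norm_num
  hE30 := by norm_num
  hE30' := by norm_num
  hA := by decide +kernel

theorem tbl98 : TblH 78 D98 [] 9 8 where
  hn := by norm_num
  ok := ⟨by decide, by decide, by decide, by decide, by decide, by decide, by decide, by decide⟩
  ne := by decide
  hR := Cfsg.Agent.H73.Rg.Fast.chkR_of (by decide +kernel)
  hS := Cfsg.Agent.H73.Rg.Fast.chkS_of (by decide +kernel)
  hE := by norm_num
  hE' := by norm_num
  hE30 := by norm_num
  hE30' := by norm_num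
  hA := by decide +kernel

theorem tbl812 : TblH 78 D812 [] 8 12 where
  hn := by norm_num
  ok := ⟨by decide, by decide, by decide, by decide, by decide, by decide, by decide, by decide⟩
  ne := by decide
  hR := Cfsg.Agent.H73.Rg.Fast.chkR_of (by decide +kernel)
  hS := Cfsg.Agent.H73.Rg.Fast.chkS_of (by decide +kernel)
  hE := by norm_num
  hE' := by norm_num
  hE30 := by norm_num
  hE30' := by norm_num
  hA := by decide +kernel

section

variable {F : Type} [Field F] [Fintype F] {p f : ℕ} [CharP F p]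

/-- reducedness of a subgroup with half of the classes `c`, `c'` -/
def GoodB (p f c c' : ℕ) (B : Subgroup ↥(Lie.chevE6.group F)) : Prop :=
  ∀ t : ℕ, t.Prime → t ≠ p → ¬ Prim p (f * c) t → ¬ Prim p (f * c') t → t ∣ Nat.card B → Good B 78 t ∨ KillB B t

variable (tb : OrderTable.{0}) (hcyc : CycFixSolv.{0}) (hcf : CF)

theorem card_le6 (hT : IsNamed (.e6 (p ^ f)) ↥(Lie.chevE6.group F)) {B : Subgroup ↥(Lie.chevE6.group F)}
    (S : Subgroup B) : Nat.card S ∣ num (.e6 (p ^ f)) := IsNamed.card_dvd hT S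

theorem h1_of {c : ℕ} (hp : p.Prime) (hf : 1 ≤ f) {B : Subgroup ↥(Lie.chevE6.group F)} (hB : HAt p f c B) (hc : 8 ≤ c)
    {S : Subgroup B} (h : ∀ r, Prim p (f * c) r → r ∣ Nat.card B →
      Big S r (M6 (p ^ f) c) c ∧ r ∣ Nat.card S ∧ ¬ r ∣ S.index) : H1 p f c (Nat.card S) := by
  obtain ⟨r, hr, hrB⟩ := hB.exists_prim hp.two_le hf (by omega) (by omega)
  exact ⟨r, hr, (h r hr hrB).2.1⟩

include tb hcyc hcf in
/-- **The classes 9, 8.** -/
theorem k98 (hp : p.Prime) (hf : 1 ≤ f) (hq : Fintype.card F = p ^ f) (hq3 : 3 ≤ p ^ f)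
    (B : Subgroup ↥(Lie.chevE6.group F)) (hB : HOff p f [9, 8] B) (hg : GoodB p f 9 8 B) : B = ⊤ := by
  have hT := named_e6 (F := F) tb
  rw [hq] at hT
  obtain ⟨S, _, _, -, -, hbS, g, hgS, hch⟩ := half6 tb hcyc hcf tbl98 rfl rfl rfl rfl (Or.inr (Or.inl rfl)) (Or.inl rfl)
    (by norm_num) hp hf hq hq3 B hB hg
  obtain rfl := charp_e6_89 hp hf hgS.cond hch hgS.eq (card_le6 hT S)
    (h1_of hp hf (hB 8 (by simp)) (by norm_num) (hbS 8 (Or.inr rfl)))
    (h1_of hp hf (hB 9 (by simp)) (by norm_num) (hbS 9 (Or.inl rfl)))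
  exact eq_top_of_name hT hgS

include tb hcyc hcf in
/-- **The classes 9, 12.** -/
theorem k912 (hp : p.Prime) (hf : 1 ≤ f) (hq : Fintype.card F = p ^ f) (hq3 : 3 ≤ p ^ f)
    (B : Subgroup ↥(Lie.chevE6.group F)) (hB : HOff p f [9, 12] B) (hg : GoodB p f 9 12 B) : B = ⊤ := by
  have := Fact.mk hp
  have hT := named_e6 (F := F) tb
  rw [hq] at hT
  obtain ⟨S, _, _, -, -, hbS, g, hgS, hch⟩ := half6 tb hcyc hcf tbl912 rfl rfl rfl rfl (Or.inr (Or.inl rfl))
    (Or.inr (Or.inr rfl)) (by norm_num) hp hf hq hq3 B hB hg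
  obtain ⟨r, hr, hrB⟩ := (hB 9 (by simp)).exists_prim hp.two_le hf (by norm_num) (by norm_num)
  have hr' := prim_q hf hr
  rcases charp_e6_reg hp hf hgS.cond hch hgS.eq (card_le6 hT S)
    (h1_of hp hf (hB 12 (by simp)) (by norm_num) (hbS 12 (Or.inr rfl)))
    (h1_of hp hf (hB 9 (by simp)) (by norm_num) (hbS 9 (Or.inl rfl))) with rfl | rfl | ⟨f₁, hf₁, rfl⟩
  · exact eq_top_of_name hT hgS
  · exfalso
    exact kill_psl4 hp hf hgS hr' fun x hx => (hbS 9 (Or.inl rfl) r hr hrB).1.card x hx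
  · exfalso
    exact Cfsg.Agent.H325.Same.kill_ominus4 hp hf hf₁ hgS (by rw [mul_comm]; exact hr) (hbS 9 (Or.inl rfl) r hr hrB).2.1
      (((piso_E6 (F := F) (by rw [hq]; exact hr')).sub B).sub S)

/-- the primes of the classes 9, 5 do not divide the order of a subgroup with a normal subgroup `F₄(q)` or `L₃(q⁴)` -/
theorem not_dvd_B {q c r : ℕ} (hq1 : 1 ≤ q) (hc : c = 9 ∨ c = 5) (hr : Prim q c r) {B : Type*} [Group B] [Finite B]
    {S : Subgroup B} {g : Grp} (hgS : IsNamed g S) (hg : g = .f4 q ∨ g = .psl 3 (q ^ 4))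
    (hidx : S.index ∣ 8 * M6 q 8) : ¬ r ∣ Nat.card B := by
  have hne : r ≠ 2 := Cfsg.Agent.H190.Cov.prim_not_two hr (by omega)
  have hsub : ∀ d, ¬ c ∣ d → ¬ r ∣ q ^ d - 1 := fun d hd h => hd ((hr.dvd_iff d).1 h)
  have hpow : ∀ d, ¬ r ∣ q ^ d := fun d h => hr.not_dvd (hr.prime.dvd_of_dvd_pow h)
  intro h
  rw [← Subgroup.card_mul_index S] at h
  rcases hr.prime.dvd_mul.1 h with h | h
  · have h1 : r ∣ num g := h.trans (by rw [← hgS.eq]; exact Dvd.intro_left _ rfl)
    rcases hg with rfl | rfl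
    · have h2 : num (.f4 q) = q ^ 24 * ((q ^ 2 - 1) * (q ^ 6 - 1) * (q ^ 8 - 1) * (q ^ 12 - 1)) := rfl
      rw [h2] at h1
      rcases hr.prime.dvd_mul.1 h1 with h1 | h1
      · exact hpow _ h1
      rcases hr.prime.dvd_mul.1 h1 with h1 | h1
      · rcases hr.prime.dvd_mul.1 h1 with h1 | h1
        · rcases hr.prime.dvd_mul.1 h1 with h1 | h1
          · exact hsub 2 (by rcases hc with rfl | rfl <;> norm_num) h1
          · exact hsub 6 (by rcases hc with rfl | rfl <;> norm_num) h1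
        · exact hsub 8 (by rcases hc with rfl | rfl <;> norm_num) h1
      · exact hsub 12 (by rcases hc with rfl | rfl <;> norm_num) h1
    · have h2 : num (.psl 3 (q ^ 4)) = ((q ^ 4) ^ 3 - (q ^ 4) ^ 0) * ((q ^ 4) ^ 3 - (q ^ 4) ^ 1) *
          ((q ^ 4) ^ 3 - (q ^ 4) ^ 2) := by
        change ((List.range 3).map fun i => (q ^ 4) ^ 3 - (q ^ 4) ^ i).prod = _
        simp only [List.range, List.range.loop, List.map_cons, List.map_nil, List.prod_cons, List.prod_nil, mul_one,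
          mul_assoc]
      have e0 : (q ^ 4) ^ 3 - (q ^ 4) ^ 0 = q ^ 12 - 1 := by rw [← pow_mul, pow_zero]
      have e1 : (q ^ 4) ^ 3 - (q ^ 4) ^ 1 = q ^ 4 * (q ^ 8 - 1) := by
        rw [Nat.mul_sub, mul_one, ← pow_add, ← pow_mul, pow_one]
      have e2 : (q ^ 4) ^ 3 - (q ^ 4) ^ 2 = q ^ 8 * (q ^ 4 - 1) := by
        rw [Nat.mul_sub, mul_one, ← pow_add, ← pow_mul, ← pow_mul]
      rw [h2, e0, e1, e2] at h1
      rcases hr.prime.dvd_mul.1 h1 with h1 | h1
      · rcases hr.prime.dvd_mul.1 h1 with h1 | h1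
        · exact hsub 12 (by rcases hc with rfl | rfl <;> norm_num) h1
        · rcases hr.prime.dvd_mul.1 h1 with h1 | h1
          · exact hpow _ h1
          · exact hsub 8 (by rcases hc with rfl | rfl <;> norm_num) h1
      · rcases hr.prime.dvd_mul.1 h1 with h1 | h1
        · exact hpow _ h1
        · exact hsub 4 (by rcases hc with rfl | rfl <;> norm_num) h1
  · have h1 : r ∣ 8 * (Ph 8 q * (q ^ 2 - 1)) := h.trans hidx
    rcases hr.prime.dvd_mul.1 h1 with h1 | h1
    · exact hne ((Nat.prime_dvd_prime_iff_eq hr.prime Nat.prime_two).1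
        (hr.prime.dvd_of_dvd_pow (show r ∣ 2 ^ 3 from h1)))
    rcases hr.prime.dvd_mul.1 h1 with h1 | h1
    · exact hsub 8 (by rcases hc with rfl | rfl <;> norm_num) (h1.trans (Ph_dvd c8 hq1))
    · exact hsub 2 (by rcases hc with rfl | rfl <;> norm_num) h1

include tb hcyc hcf in
/-- **The classes 8, 12.** -/
theorem k812 (hp : p.Prime) (hf : 1 ≤ f) (hq : Fintype.card F = p ^ f) (hq3 : 3 ≤ p ^ f)
    (B : Subgroup ↥(Lie.chevE6.group F)) (hB : HOff p f [8, 12] B) (hg : GoodB p f 8 12 B) (hBt : B ≠ ⊤) :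
    (∀ r, Prim (p ^ f) 9 r → ¬ r ∣ Nat.card B) ∧ ∀ r, Prim (p ^ f) 5 r → ¬ r ∣ Nat.card B := by
  have hq1 : 1 ≤ p ^ f := Nat.one_le_pow _ _ hp.pos
  have hT := named_e6 (F := F) tb
  rw [hq] at hT
  obtain ⟨S, hSn, hSs, hidx, -, hbS, g, hgS, hch⟩ := half6 tb hcyc hcf tbl812 rfl rfl rfl rfl (Or.inl rfl)
    (Or.inr (Or.inr rfl)) (by norm_num) hp hf hq (le_trans (by decide) hq3) B hB hg
  have hcs := charp_e6_812 hp hf hgS.cond hch hgS.eq (card_le6 hT S)
    (h1_of hp hf (hB 8 (by simp)) (by norm_num) (hbS 8 (Or.inl rfl)))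
    (h1_of hp hf (hB 12 (by simp)) (by norm_num) (hbS 12 (Or.inr rfl)))
  have hg' : g = .f4 (p ^ f) ∨ g = .psl 3 ((p ^ f) ^ 4) := by
    rcases hcs with rfl | rfl | rfl
    · exact absurd (eq_top_of_name hT hgS) hBt
    · exact Or.inl rfl
    · right
      rw [mul_comm 4 f, pow_mul]
  exact ⟨fun r hr => not_dvd_B hq1 (Or.inl rfl) hr hgS hg' hidx, fun r hr => not_dvd_B hq1 (Or.inr rfl) hr hgS hg' hidx⟩

end

end Cfsg.Agent.H290.Rg.KH6
end

-- part: H72/Rg2/Tab4
section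
/-!
# S3691, `E₆(q)`, `²E₆(q)`: the tables for one full class and one prime of another class (helper72)

`FU e p f` : the class part (for `q = 4` and the class 9 it is `19 * 73`); `no_cross4`, `no_spor4`.
-/

set_option autoImplicit false
set_option exponentiation.threshold 7000

namespace Cfsg.Agent.H72.Rg2

open Cfsg.Agent.H902 Cfsg.Agent.H290.ElReg Cfsg.Agent.H290.ElTab Cfsg.Agent.H290.ElCross Cfsg.Agent.H563.KG
  Cfsg.Agent.H73.Rg
open Cfsg.Agent.H436 (Prim)

/-- the data of a test: the shape, the full class, the bound for small primes, a lower bound for the totient, the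
class of the extra prime -/
structure D4 where
  Y : Art.Sh
  e : ℕ
  P : ℕ
  t : ℕ
  ex : ℕ

/-- the class part, computable -/
def fu (e p f : ℕ) : ℕ := if e = 9 ∧ p = 2 ∧ f = 2 then 1387 else pc p (f * e)

/-- the class part -/
noncomputable def FU (e p f : ℕ) : ℕ := if e = 9 ∧ p = 2 ∧ f = 2 then 1387 else PP p (f * e)

/-- the test at a small prime -/
def tq4 (D : D4) (M d l f p : ℕ) : Bool := p == l || (Nat.blt (p ^ f) 3 || (!(M % fu D.e p f == 0) ||
  ((okk (f * D.ex) && Nat.gcd M (pc p (f * D.ex)) == 1) || !((d * OL D.Y (p ^ f)) % M == 0))))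

/-- the test at `f` -/
def chk14 (D : D4) (ps : List ℕ) (M d l f : ℕ) : Bool := De ps M (f * D.e) == 1 || (okk (f * D.e) &&
  (Nat.blt (De ps M (f * D.e) * (D.e * f)) (D.P ^ D.t) && (smp D.P).all fun p => tq4 D M d l f p))

/-- the test -/
def chkM4 (D : D4) (ps : List ℕ) (M d l : ℕ) : Bool :=
  Nat.blt M (2 ^ 600) && ((List.range (619 / D.e)).all fun f => chk14 D ps M d l (f + 1))

/-- the table of the region -/
def chkR4 (n : ℕ) (D : D4) : Bool := (reg n).all fun x =>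
  chkM4 D (pd (NS x.1 x.2.1 x.2.2)) (OL x.1 (x.2.1 ^ x.2.2)) (Art.dd x.1 (x.2.1 ^ x.2.2)) x.2.1

/-- the table of the sporadic groups -/
def chkS4 (D : D4) : Bool := Cfsg.Agent.OrdDiv.spor.all fun x => chkM4 D (pd x.2) x.2 1 0

private noncomputable def chkMF4 (D : D4) (N M d l : ℕ) : Bool :=
  Nat.blt M (2 ^ 600) && Fast.loop (Fast.msk (Fast.pdF N)) D.e D.e (chk14 D (Fast.pdF N) M d l) (619 / D.e)

private theorem chkM4_of {D : D4} {N M d l : ℕ} (h : chkMF4 D N M d l = true) : chkM4 D (pd N) M d l = true := by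
  rw [chkMF4, Bool.and_eq_true, ← Fast.pd_F] at h
  have h1 : ∀ f, Fast.skip (Fast.msk (pd N)) (f * D.e) = true → chk14 D (pd N) M d l f = true := fun f hf => by
    show (De (pd N) M (f * D.e) == 1 || _) = true
    rw [Fast.De_one (Fast.pd_le N) hf]
    rfl
  exact Bool.and_eq_true_iff.2 ⟨h.1, Fast.loop_all h1 h1 _ h.2⟩

private theorem chkR4_of {n : ℕ} {D : D4}
    (h : (Nat.ble n 248 && Fast.regL.all fun x => Nat.blt n (lb x.1 (x.2.1 ^ x.2.2)) ||
      chkMF4 D (NS x.1 x.2.1 x.2.2) (OL x.1 (x.2.1 ^ x.2.2)) (Art.dd x.1 (x.2.1 ^ x.2.2)) x.2.1) = true) :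
    chkR4 n D = true :=
  List.all_eq_true.2 fun x hx => chkM4_of (Fast.all_reg h x hx)

private theorem chkS4_of {D : D4} (h : (Cfsg.Agent.OrdDiv.spor.all fun x => chkMF4 D x.2 x.2 1 0) = true) :
    chkS4 D = true :=
  List.all_eq_true.2 fun x hx => chkM4_of (List.all_eq_true.1 h x hx)

/-- the conditions on the data -/
structure D4.Ok (D : D4) : Prop where
  e7 : 7 ≤ D.e
  ht : D.t ≤ D.e.totient
  hP : 2 ≤ D.P
  hP' : D.P ≤ 311
  hx : 3 ≤ D.ex

section FU

variable {e p f r : ℕ}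

theorem FU_eq (hk : nl (fl (f * e)) = f * e) (hp : 2 ≤ p) : FU e p f = fu e p f := by
  unfold FU fu
  split
  · rfl
  · exact PP_eq hk hp

theorem FU_prime (hp : 2 ≤ p) (he : 7 ≤ e) (hf : 1 ≤ f) (hr : r.Prime) (h : r ∣ FU e p f) : f * e ∣ r - 1 := by
  unfold FU at h
  split at h
  · rename_i h1
    obtain ⟨rfl, rfl, rfl⟩ := h1
    rw [show 1387 = 19 * 73 by norm_num] at h
    rcases hr.dvd_mul.1 h with h2 | h2
    · rw [(Nat.prime_dvd_prime_iff_eq hr (by norm_num)).1 h2]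
    · rw [(Nat.prime_dvd_prime_iff_eq hr (by norm_num)).1 h2]
      norm_num
  · have hfe : 1 * e ≤ f * e := Nat.mul_le_mul_right _ hf
    exact mod_of_prim' hp (prim_of_dvd_PP hp (by omega) hr h)

theorem one_lt_FU (hp : 2 ≤ p) (he : 7 ≤ e) (hf : 1 ≤ f) : 1 < FU e p f := by
  unfold FU
  split
  · norm_num
  · have hfe : 1 * e ≤ f * e := Nat.mul_le_mul_right _ hf
    exact one_lt_PP hp (by omega) (by omega)

end FU

/-- the facts about the field -/
structure Fac4 (D : D4) (M p f : ℕ) : Prop where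
  hp : p.Prime
  hf : 1 ≤ f
  hq : 3 ≤ p ^ f
  full : FU D.e p f ∣ M
  hex : ∃ s, Prim p (f * D.ex) s ∧ s ∣ M

theorem chkM4_false {D : D4} (hD : D.Ok) {ps : List ℕ} {M d l N p f : ℕ} (hM0 : M ≠ 0)
    (hps : ∀ r, r.Prime → r ∣ M → r ∈ ps) (hps' : ∀ r ∈ ps, r ≤ 619) (hF : Fac4 D M p f) (hpl : p ≠ l)
    (hM : M = d * N) (hd : N ∣ OL D.Y (p ^ f)) (hc : chkM4 D ps M d l = true) : False := by
  obtain ⟨hp, hf, hq, hfull, hex⟩ := hF
  have hp2 := hp.two_le
  have h7 := hD.e7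
  have hfe : 1 * D.e ≤ f * D.e := Nat.mul_le_mul_right _ hf
  have hfx : 1 * D.ex ≤ f * D.ex := Nat.mul_le_mul_right _ hf
  have hx := hD.hx
  have g1 : FU D.e p f ≠ 1 := (one_lt_FU hp2 h7 hf).ne'
  unfold chkM4 at hc
  simp only [Bool.and_eq_true, Nat.blt_eq] at hc
  obtain ⟨hM6, hc⟩ := hc
  have key : FU D.e p f ∣ De ps M (f * D.e) := dvd_De hM0 hM6 hfull fun r hr hrd =>
    ⟨hps r hr (hrd.trans hfull), Nat.mod_eq_zero_of_dvd (FU_prime hp2 h7 hf hr hrd)⟩
  have hDe0 : ∀ k, De ps M k ≠ 0 := by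
    intro k h4
    unfold De at h4
    rw [List.prod_eq_zero_iff, List.mem_map] at h4
    obtain ⟨r, -, h5⟩ := h4
    exact hM0 (Nat.eq_zero_of_gcd_eq_zero_left h5)
  have key2 : FU D.e p f ≤ De ps M (f * D.e) := Nat.le_of_dvd (Nat.pos_of_ne_zero (hDe0 _)) key
  -- the range of `f`
  have hfr : f - 1 ∈ List.range (619 / D.e) := by
    obtain ⟨r, hr, hrd⟩ := Nat.exists_prime_and_dvd g1
    have h4 := hps' r (hps r hr (hrd.trans hfull))
    have h6 := Nat.le_of_dvd (by have := hr.two_le; omega) (FU_prime hp2 h7 hf hr hrd)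
    have h7 : f ≤ 619 / D.e := by
      rw [Nat.le_div_iff_mul_le (by omega)]
      omega
    exact List.mem_range.2 (by omega)
  have hc1 := List.all_eq_true.1 hc _ hfr
  rw [show f - 1 + 1 = f by omega] at hc1
  unfold chk14 at hc1
  simp only [Bool.or_eq_true, Bool.and_eq_true, Nat.blt_eq, beq_iff_eq] at hc1
  rcases hc1 with hc1 | ⟨ho, hb, hs⟩
  · rw [hc1] at key
    exact g1 (Nat.dvd_one.1 key)
  have ho1 : nl (fl (f * D.e)) = f * D.e := by simpa [okk] using ho
  have hpP : p ≤ D.P := by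
    by_contra hcon
    push Not at hcon
    have h6 := PP_lower (p := p) (f := f) (e := D.e) hp2 (by omega) hf hcon
    rw [mul_comm D.e f] at h6
    have h8 : D.P ^ D.t ≤ D.P ^ D.e.totient := Nat.pow_le_pow_right (by have := hD.hP; omega) hD.ht
    have h9 : FU D.e p f = PP p (f * D.e) := by
      unfold FU
      rw [if_neg]
      rintro ⟨-, rfl, -⟩
      have := hD.hP
      omega
    rw [h9] at key2
    have h10 : PP p (f * D.e) * (f * D.e) ≤ De ps M (f * D.e) * (f * D.e) := Nat.mul_le_mul_right _ key2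
    rw [mul_comm D.e f] at hb
    omega
  have hpm : p ∈ smp D.P := List.mem_filter.2 ⟨mem_sps hp (hpP.trans hD.hP'), by simpa using hpP⟩
  have h3 := List.all_eq_true.1 hs p hpm
  unfold tq4 at h3
  simp only [Bool.or_eq_true, Nat.blt_eq, beq_iff_eq, Bool.not_eq_true', Bool.and_eq_true] at h3
  rcases h3 with h3 | h3 | h3 | ⟨hco, hcg⟩ | h3
  · exact hpl h3
  · omega
  · have h4 : (M % fu D.e p f == 0) = true := by
      rw [beq_iff_eq, ← FU_eq ho1 hp2]
      exact Nat.mod_eq_zero_of_dvd hfull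
    rw [h4] at h3
    exact absurd h3 (by decide)
  · obtain ⟨s, hs1, hs2⟩ := hex
    have hcc : nl (fl (f * D.ex)) = f * D.ex := by simpa [okk] using hco
    rw [← PP_eq hcc hp2] at hcg
    have h8 : s ∣ 1 := hcg ▸ Nat.dvd_gcd hs2 (dvd_PP hp2 (by omega) hs1)
    exact hs1.prime.one_lt.ne' (Nat.dvd_one.1 h8)
  · have h4 : (d * OL D.Y (p ^ f)) % M = 0 := Nat.mod_eq_zero_of_dvd (hM ▸ Nat.mul_dvd_mul_left d hd)
    rw [h4] at h3
    exact absurd h3 (by decide)

variable {n : ℕ} {D : D4} {p f : ℕ}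

/-- **Cross characteristic.** -/
theorem no_cross4 (hn : n ≤ 248) (hD : D.Ok) (hc : chkR4 n D = true) {X : Art.Sh} {l a N : ℕ}
    (hR : Art.Real X l a N) (hlb : lb X (l ^ a) ≤ n) (hpl : p ≠ l) (hF : Fac4 D N p f)
    (hd : N ∣ OL D.Y (p ^ f)) : False := by
  obtain ⟨hl, ha, hokX, heq⟩ := hR
  have hreg := mem_reg hn hl ha hokX hlb
  have hs' : smooth (NA X l a) = true :=
    List.all_eq_true.1 smooth_reg (X, (l, a)) (mem_reg le_rfl hl ha hokX (hlb.trans hn))
  have hsS : smooth (NS X l a) = true := by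
    have h1 : NS X l a ∣ NA X l a := Dvd.intro_left _ rfl
    have h2 : NA X l a ∣ prs.prod ^ 100 := Nat.dvd_of_mod_eq_zero (by simpa [smooth] using hs')
    simpa [smooth] using Nat.mod_eq_zero_of_dvd (h1.trans h2)
  have hM : OL X (l ^ a) = Art.dd X (l ^ a) * N := by unfold OL; rw [numL_eq]; exact heq.symm
  have hNM : N ∣ OL X (l ^ a) := Dvd.intro_left _ hM.symm
  have hMS : ∀ r, r.Prime → r ∣ OL X (l ^ a) → r ∈ pd (NS X l a) := by
    intro r hr h
    refine mem_pd hsS hr ?_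
    unfold NS
    rcases hr.dvd_mul.1 h with h2 | h2
    · exact (hr.dvd_of_dvd_pow (hr.dvd_of_dvd_pow h2)).mul_right _
    · exact h2.mul_left _
  have hM0 : OL X (l ^ a) ≠ 0 := by
    intro h0
    have h3 : l ^ a ≠ 0 := pow_ne_zero _ hl.ne_zero
    have h4 : NS X l a ≠ 0 := by
      intro h5
      have h6 : NS X l a ∣ prs.prod ^ 100 := Nat.dvd_of_mod_eq_zero (by simpa [smooth] using hsS)
      rw [h5] at h6
      have h7 := Nat.eq_zero_of_zero_dvd h6
      have h8 : prs.prod ≠ 0 := by decide +kernel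
      exact pow_ne_zero 100 h8 h7
    apply h4
    unfold OL at h0
    rcases Nat.mul_eq_zero.1 h0 with h5 | h5
    · exact absurd h5 (pow_ne_zero _ h3)
    · unfold NS
      rw [h5, mul_zero]
  have h2 := List.all_eq_true.1 hc (X, (l, a)) hreg
  have hF' : Fac4 D (OL X (l ^ a)) p f :=
    { hF with
      full := hF.full.trans hNM
      hex := hF.hex.imp fun s hs => ⟨hs.1, hs.2.trans hNM⟩ }
  exact chkM4_false hD hM0 hMS (fun r hr => prs_le r (List.mem_of_mem_filter hr)) hF' hpl hM hd h2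

/-- **Sporadic groups.** -/
theorem no_spor4 (hD : D.Ok) (hc : chkS4 D = true) {x : Cfsg.Agent.OrdDiv.Grp × ℕ} (hx : x ∈ Cfsg.Agent.OrdDiv.spor)
    (hF : Fac4 D x.2 p f) (hd : x.2 ∣ OL D.Y (p ^ f)) : False := by
  have hs' : smooth x.2 = true := List.all_eq_true.1 smooth_spor x hx
  have hM0 : x.2 ≠ 0 := by
    have : ∀ x ∈ Cfsg.Agent.OrdDiv.spor, x.2 ≠ 0 := by decide +kernel
    exact this x hx
  exact chkM4_false hD hM0 (fun r hr h => mem_pd hs' hr h) (fun r hr => prs_le r (List.mem_of_mem_filter hr)) hF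
    hF.hp.ne_zero (one_mul _).symm hd (List.all_eq_true.1 hc x hx)

/-- the data for `²E₆(q)`, the full class 18 and a prime of the class 10 -/
def DT : D4 := ⟨.TE6, 18, 23, 6, 10⟩

/-- the data for `E₆(q)`, the full class 9 and a prime of the class 5 -/
def DE : D4 := ⟨.E6, 9, 23, 6, 5⟩

theorem chkR4_T : chkR4 78 DT = true := chkR4_of (by decide +kernel)
theorem chkS4_T : chkS4 DT = true := chkS4_of (by decide +kernel)
theorem chkR4_E : chkR4 78 DE = true := chkR4_of (by decide +kernel)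
theorem chkS4_E : chkS4 DE = true := chkS4_of (by decide +kernel)

theorem okT : DT.Ok := ⟨by decide, by decide +kernel, by decide, by decide, by decide⟩
theorem okE : DE.Ok := ⟨by decide, by decide +kernel, by decide, by decide, by decide⟩

end Cfsg.Agent.H72.Rg2
end

-- part: H72/Rg2/Core4
section
/-!
# S3691, `E₆(q)`, `²E₆(q)`: one full class and one prime of another class, the simple normal subgroup (helper72)

* `FU_prim`, `FU_gt` : the primes of the class part; it is larger than 78;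
* `core4` : the simple normal subgroup is of Lie type in the characteristic.
-/

set_option autoImplicit false
set_option exponentiation.threshold 7000

namespace Cfsg.Agent.H72.Rg2

open Cfsg Cfsg.Agent.OrdDiv Cfsg.Agent.H436 Cfsg.Agent.H902 Cfsg.Agent.H902.Names Cfsg.Agent.H915.GN
  Cfsg.Agent.H290.ElReg Cfsg.Agent.H290.ElTab Cfsg.Agent.H290.ElCross Cfsg.Agent.H264.FKS Cfsg.Agent.H56.Exc
  Cfsg.Agent.H325.Loc Cfsg.Agent.H563.KG Cfsg.Agent.H73.Rg

theorem cl9 : Cls 9 := by unfold Cls; omega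

theorem FU_prim {e p f r : ℕ} (hp : 2 ≤ p) (he : 7 ≤ e) (hf : 1 ≤ f) (hr : r.Prime) (h : r ∣ FU e p f) :
    Prim (p ^ f) e r := by
  unfold FU at h
  split at h
  · rename_i h1
    obtain ⟨rfl, rfl, rfl⟩ := h1
    refine prim_of_dvd cl9 (by norm_num) hr ?_
    have h2 : ncl 9 (2 ^ 2) = 1387 := by decide +kernel
    rw [h2]
    exact h
  · have hfe : 1 * e ≤ f * e := Nat.mul_le_mul_right _ hf
    exact prim_q hf (prim_of_dvd_PP hp (by omega) hr h)

theorem FU_lt {e p f r : ℕ} (hp : 2 ≤ p) (he : 7 ≤ e) (hf : 1 ≤ f) (hr : r.Prime) (h : r ∣ FU e p f) : f * e < r := by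
  have h1 := Nat.le_of_dvd (by have := hr.two_le; omega) (FU_prime hp he hf hr h)
  have := hr.two_le
  omega

/-- the test for the size of the class part -/
def gchk4 (c P t : ℕ) : Bool := (List.range (78 / c)).all fun f' =>
  okk ((f' + 1) * c) && (Nat.blt (78 * (c * (f' + 1))) (P ^ t) && ((smp P).all fun p =>
    Nat.blt (p ^ (f' + 1)) 3 || Nat.blt 78 (fu c p (f' + 1))))

theorem gchk4_9 : gchk4 9 23 6 = true := by decide +kernel
theorem gchk4_18 : gchk4 18 23 6 = true := by decide +kernel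

theorem FU_gt_of {e p f P t : ℕ} (hp : p.Prime) (he : 7 ≤ e) (hf : 1 ≤ f) (hq : 3 ≤ p ^ f) (ht : t ≤ e.totient) (hP : 2 ≤ P)
    (hP' : P ≤ 311) (hk : gchk4 e P t = true) : 78 < FU e p f := by
  by_contra hlt
  push Not at hlt
  have hp2 := hp.two_le
  have hfe : 1 * e ≤ f * e := Nat.mul_le_mul_right _ hf
  have hg1 := one_lt_FU (e := e) hp2 he hf
  obtain ⟨r, hr, hrd⟩ := Nat.exists_prime_and_dvd hg1.ne'
  have h4 := FU_lt hp2 he hf hr hrd
  have h5 := Nat.le_of_dvd (by omega) hrd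
  have hfm : f - 1 ∈ List.range (78 / e) := by
    have h7 : f ≤ 78 / e := by
      rw [Nat.le_div_iff_mul_le (by omega)]
      omega
    exact List.mem_range.2 (by omega)
  have d1 := List.all_eq_true.1 hk _ hfm
  rw [show f - 1 + 1 = f by omega] at d1
  simp only [Bool.and_eq_true, Nat.blt_eq] at d1
  obtain ⟨ho, hb, hs⟩ := d1
  have ho1 : nl (fl (f * e)) = f * e := by simpa [okk] using ho
  have hpP : p ≤ P := by
    by_contra hcon
    push Not at hcon
    have h6 := PP_lower (p := p) (f := f) (e := e) hp2 (by omega) hf hcon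
    have h7 : P ^ t ≤ P ^ e.totient := Nat.pow_le_pow_right (by omega) ht
    have h9 : FU e p f = PP p (f * e) := by
      unfold FU
      rw [if_neg]
      rintro ⟨-, rfl, -⟩
      omega
    rw [h9, mul_comm f e] at hlt
    have h8 : PP p (e * f) * (e * f) ≤ 78 * (e * f) := Nat.mul_le_mul_right _ hlt
    omega
  have hpm : p ∈ smp P := List.mem_filter.2 ⟨mem_sps hp (hpP.trans hP'), by simpa using hpP⟩
  have d4 := List.all_eq_true.1 hs p hpm
  have e2 : Nat.blt (p ^ f) 3 = false := by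
    rw [Bool.eq_false_iff, Ne, Nat.blt_eq]; omega
  simp only [e2, Bool.false_or, Nat.blt_eq] at d4
  rw [← FU_eq ho1 hp2] at d4
  omega

theorem FU_gt {e p f : ℕ} (he : e = 9 ∨ e = 18) (hp : p.Prime) (hf : 1 ≤ f) (hq : 3 ≤ p ^ f) : 78 < FU e p f := by
  rcases he with rfl | rfl
  · exact FU_gt_of hp (by norm_num) hf hq (by decide +kernel) (by norm_num) (by norm_num) gchk4_9
  · exact FU_gt_of hp (by norm_num) hf hq (by decide +kernel) (by norm_num) (by norm_num) gchk4_18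

/-- the family of the primes of the class `e` dividing `N` -/
def Fm4 (q e M N : ℕ) (r m e' : ℕ) : Prop := Prim q e r ∧ r ∣ N ∧ m = M ∧ e' = 9

variable {n : ℕ} {D : D4} {p f M : ℕ}

/-- **alternating groups** -/
theorem no_alt4 {S : Type} [Group S] [Finite S] {m e : ℕ} (hp : p.Prime) (he : e = 9 ∨ e = 18) (hf : 1 ≤ f)
    (hq : 3 ≤ p ^ f) (hm : 2 ≤ m) (Φ : S ≃* alternatingGroup (Fin m))
    (hB : ∀ r, Prim (p ^ f) e r → r ∣ Nat.card S → Big S r M 9) (hfull : FU e p f ∣ Nat.card S) : False := by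
  have hp2 := hp.two_le
  have he7 : 7 ≤ e := by omega
  have hfe : 1 * e ≤ f * e := Nat.mul_le_mul_right _ hf
  have h78 := FU_gt he hp hf hq
  have key : ∀ s, s.Prime → s ∣ FU e p f → s = 19 ∧ s ≤ m ∧ m ≤ s + 3 := by
    intro s hs hsd
    have h1 := FU_prim hp2 he7 hf hs hsd
    have hsS := hsd.trans hfull
    have h2 := FU_prime hp2 he7 hf hs hsd
    have h3 := FU_lt hp2 he7 hf hs hsd
    have hb := hB s h1 hsS
    have h4 : s - 1 ∣ 2 * 9 := Cfsg.Agent.H427.Rg.alt_aut hb Φ (by omega) hsS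
    have h5 := Nat.le_of_dvd (by norm_num) h4
    have h6 : s = 19 := by
      have h7 : s ≤ 19 := by omega
      have h8 : 10 ≤ s := by omega
      have h9 : s ≠ 10 := by
        rintro rfl
        exact absurd hs (by norm_num)
      clear hsd h1 hsS h2 h3 hb h5
      obtain ⟨k, hk⟩ := h4
      interval_cases s <;> omega
    refine ⟨h6, Cfsg.Agent.H290.ElRich.le_of_dvd_alt hs hm Φ hsS,
      Cfsg.Agent.H290.ElRich.alt_le hs (by omega) Φ hsS fun x hx => ?_⟩
    have := hb.cyc x hx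
    let _ := IsCyclic.commGroup (α := ↥(Subgroup.centralizer ({x} : Set S)))
    infer_instance
  have hpow := Nat.eq_prime_pow_of_unique_prime_dvd (n := FU e p f) (p := 19) (by omega)
    fun {s} hs hsd => (key s hs hsd).1
  generalize (FU e p f).primeFactorsList.length = k at hpow
  obtain ⟨r, hr, hrd⟩ := Nat.exists_prime_and_dvd (show FU e p f ≠ 1 by omega)
  obtain ⟨rfl, h1, h2⟩ := key r hr hrd
  have hk1 : k ≤ 1 := by
    by_contra hk1
    have h3 : 19 ^ 2 ∣ FU e p f := by rw [hpow]; exact pow_dvd_pow _ (by omega)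
    have : Nontrivial (Fin m) := Fin.nontrivial_iff_two_le.2 hm
    have h4 : 2 * Nat.card S = m.factorial := by
      rw [Nat.card_congr Φ.toEquiv, Nat.card_eq_fintype_card, two_mul_card_alternatingGroup, Fintype.card_perm,
        Fintype.card_fin]
    refine sq_not_dvd_factorial hr (m := m) (by omega) ?_
    rw [← h4]
    exact (h3.trans hfull).mul_left _
  have hle : FU e p f ≤ 19 := by
    rw [hpow]
    calc 19 ^ k ≤ 19 ^ 1 := Nat.pow_le_pow_right (by omega) hk1
      _ = 19 := pow_one 19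
  omega

/-- **The name.** -/
theorem name4 (tb : OrderTable.{0}) (hDe : D.e = 9 ∨ D.e = 18) (hD : D.Ok) (hR : chkR4 n D = true) (hS : chkS4 D = true)
    (hn : n ≤ 248) (hp : p.Prime) (hf : 1 ≤ f) (hq : 3 ≤ p ^ f) {F : Type} [Field F] [CharP F p] {S : Type} [Group S]
    [Finite S] [IsSimpleGroup S] (hna : ¬ IsMulCommutative S) (hK : IsKnownSimple' S) (hrep : Fth n F S)
    (hd : Nat.card S ∣ OL D.Y (p ^ f)) (hfull : FU D.e p f ∣ Nat.card S)
    (hex : ∃ s, Prim p (f * D.ex) s ∧ s ∣ Nat.card S)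
    (hB : ∀ r, Prim (p ^ f) D.e r → r ∣ Nat.card S → Big S r M 9) : ∃ g, IsNamed g S ∧ HasChar p g := by
  have hna' : ¬ ∀ a b : S, a * b = b * a := fun h => hna ⟨⟨h⟩⟩
  obtain ⟨g, hgS⟩ := exists_named tb hK hna'
  have hF : Fac4 D (Nat.card S) p f := ⟨hp, hf, hq, hfull, hex⟩
  rcases Cfsg.Agent.H192.Singer.cases_name hgS.cond with ⟨m, rfl⟩ | hsp | ⟨l, hl, hch⟩
  · exfalso
    obtain ⟨Φ⟩ : Nonempty (S ≃* alternatingGroup (Fin m)) := hgS.real
    have hm : 5 ≤ m := hgS.cond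
    exact no_alt4 hp hDe hf hq (by omega) Φ hB hfull
  · exfalso
    have h1 := Cfsg.Agent.H192.Singer.spor_mem hsp
    have h2 : Nat.card S = ordN g := hgS.ord
    exact no_spor4 hD hS h1 (by rw [← h2]; exact hF) (by rw [← h2]; exact hd)
  · by_cases hpl : p = l
    · subst hpl
      exact ⟨g, hgS, hch⟩
    · exfalso
      obtain ⟨X, f₁, h1, h2, -⟩ := exists_lie hl hgS hch
      have hlF : (l : F) ≠ 0 := by
        intro h
        exact hpl ((Nat.prime_dvd_prime_iff_eq hp hl).1 ((CharP.cast_eq_zero_iff F p l).1 h))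
      have h3 := lb_le hna' hn hrep h1 hgS.real h2 hlF
      exact no_cross4 hn hD hR h2 h3 hpl hF hd

/-- **One full class and one prime of another class.** -/
theorem core4 (tb : OrderTable.{0}) (hcyc : CycFixSolv.{0})
    (hcfsg : ∀ (S : Type) [Group S] [Finite S] [IsSimpleGroup S], IsKnownSimple' S)
    (hDe : D.e = 9 ∨ D.e = 18) (hD : D.Ok) (hR : chkR4 n D = true) (hS : chkS4 D = true) (hn : n ≤ 78)
    (hxe : ¬ D.ex ∣ D.e) (hx5 : 5 ≤ D.ex)
    (hp : p.Prime) (hf : 1 ≤ f) (hq : 3 ≤ p ^ f) {F : Type} [Field F] [CharP F p]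
    {T : Type} [Group T] [Finite T] (hrep : Fth n F T) (hdT : Nat.card T ∣ OL D.Y (p ^ f))
    (hbig : ∀ r, Prim (p ^ f) D.e r → Big T r M 9) (hM : M ∣ (p ^ f) ^ D.e - 1)
    (hord : Ord T (p ^ f) D.e (ncl D.e (p ^ f)))
    (hpiso : ∀ r, Prim (p ^ f) D.e r → PIso p r T) (hT : FU D.e p f ∣ Nat.card T)
    {B : Subgroup T} (hB : ∀ r, Prim (p ^ f) D.e r → f < r → ¬ r ∣ B.index)
    (hex : ∃ s, Prim p (f * D.ex) s ∧ s ∣ Nat.card B) :
    ∃ (S : Subgroup B) (_ : S.Normal) (_ : IsSimpleGroup S), FU D.e p f ∣ Nat.card S ∧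
      (∃ s, Prim p (f * D.ex) s ∧ s ∣ Nat.card S) ∧
      (∀ r, Prim (p ^ f) D.e r → r ∣ Nat.card B → r ∣ Nat.card S) ∧ ∃ g, IsNamed g S ∧ HasChar p g := by
  have := Fact.mk hp
  have hp2 := hp.two_le
  have he7 : 7 ≤ D.e := by omega
  have hfe : 1 * D.e ≤ f * D.e := Nat.mul_le_mul_right _ hf
  have hff : f * 1 ≤ f * D.e := Nat.mul_le_mul_left _ (by omega)
  have hq1 : 1 ≤ p ^ f := by omega
  have hcls : Cls D.e := by unfold Cls; omega
  have h78 := FU_gt hDe hp hf hq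
  -- the class part divides the order of `B`
  have hFB : FU D.e p f ∣ Nat.card B := by
    rw [← B.index_mul_card] at hT
    refine Nat.Coprime.dvd_of_dvd_mul_left ?_ hT
    by_contra hcon
    obtain ⟨r, hr, h3, h4⟩ := Nat.Prime.not_coprime_iff_dvd.1 hcon
    have h5 := FU_lt hp2 he7 hf hr h3
    exact hB r (FU_prim hp2 he7 hf hr h3) (by omega) h4
  obtain ⟨r₀, hr₀, hrd⟩ := Nat.exists_prime_and_dvd (one_lt_FU (e := D.e) hp2 he7 hf).ne'
  have hp₀ := FU_prim hp2 he7 hf hr₀ hrd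
  have hr₀B := hrd.trans hFB
  obtain ⟨s, hs, hsB⟩ := hex
  -- `s` does not divide `9 M`
  have hsM : ¬ s ∣ 9 * M := by
    intro h
    have hs' := prim_q hf hs
    rcases hs.prime.dvd_mul.1 h with h1 | h1
    · have h2 : s ∣ 3 := hs.prime.dvd_of_dvd_pow (show s ∣ 3 ^ 2 from h1)
      have h3 := Nat.le_of_dvd (by norm_num) h2
      have h4 := lt_of_prim (by omega) (by omega) hs'
      omega
    · exact hxe ((hs'.dvd_iff D.e).1 (h1.trans hM))
  let Fa := Fm4 (p ^ f) D.e M (Nat.card B)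
  have hrf : RFam ↥B Fa := by
    refine ⟨?_, ?_, ?_⟩
    · rintro r m e ⟨h, -, rfl, rfl⟩
      exact (hbig r h).subgroup B
    · rintro r m e ⟨-, h, -, -⟩
      exact h
    · rintro r m e ⟨-, -, rfl, rfl⟩ h
      exact hsM (hsB.trans h)
  obtain ⟨τ, hτ⟩ := hrep.sub B.subtype B.subtype_injective
  have hordB : Ord ↥B (p ^ f) D.e (ncl D.e (p ^ f)) := by
    intro r hr x hx
    have h1 := hord r hr (x : T) (by rw [Subgroup.orderOf_coe]; exact hx)
    have h2 : (Subgroup.centralizer ({x} : Set ↥B)).map B.subtype ≤ Subgroup.centralizer ({(x : T)}) := by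
      rintro _ ⟨y, hy, rfl⟩
      rw [Subgroup.mem_centralizer_singleton_iff]
      exact congrArg Subtype.val (Subgroup.mem_centralizer_singleton_iff.1 hy)
    have h3 : Nat.card ↥((Subgroup.centralizer ({x} : Set ↥B)).map B.subtype) =
        Nat.card ↥(Subgroup.centralizer ({x} : Set ↥B)) :=
      Nat.card_congr ((Subgroup.centralizer ({x} : Set ↥B)).equivMapOfInjective _ B.subtype_injective).symm.toEquiv
    exact (h3 ▸ Subgroup.card_dvd_of_le h2).trans h1
  have hgood : ∀ t : ℕ, t.Prime → t ≠ p → ¬ Pr Fa t → t ∣ Nat.card B → Good B n t := by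
    intro t ht htp htn htB
    have htc : ¬ Prim (p ^ f) D.e t := fun h => htn ⟨M, 9, h, htB, rfl, rfl⟩
    have htN := not_dvd_of_not_prim hcls hq1 ht htc
    refine ⟨FU D.e p f, hFB, ?_, Or.inl (by omega)⟩
    intro x hx hxm a ha hcx
    have h1 := hordB _ (FU_prim hp2 he7 hf hx hxm) x rfl
    have h2 : a ∈ Subgroup.centralizer ({x} : Set ↥B) := Subgroup.mem_centralizer_singleton_iff.2 hcx.symm
    have h3 : orderOf a ∣ ncl D.e (p ^ f) := by
      have h4 : orderOf (⟨a, h2⟩ : ↥(Subgroup.centralizer ({x} : Set ↥B))) = orderOf a := by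
        rw [← Subgroup.orderOf_coe]
      rw [← h4]
      exact (orderOf_dvd_natCard _).trans h1
    have h4 : orderOf a ∣ t := orderOf_dvd_of_pow_eq_one ha
    rcases (Nat.dvd_prime ht).1 h4 with h5 | h5
    · rwa [orderOf_eq_one_iff] at h5
    · rw [h5] at h3
      exact absurd h3 htN
  have hred : Red ↥B (Pr Fa) := by
    refine red_of hcyc hτ (fun A hA hAp => pcore_of_piso ((hpiso r₀ hp₀).sub B) hr₀B A hA hAp)
      ⟨M, 9, hp₀, hr₀B, rfl, rfl⟩ hr₀ hr₀B
      (fun x hx => ((hbig r₀ hp₀).subgroup B).cyc x hx) fun t ht htp htn htB => ?_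
    rw [Fintype.card_fin]
    exact hgood t ht htp htn htB
  obtain ⟨S, hSn, hSs, hSna, hS'⟩ :=
    hrf.exists_full hcyc hred (r₁ := r₀) (m₁ := M) (e₁ := 9) ⟨hp₀, hr₀B, rfl, rfl⟩
  have hall : ∀ r, Prim (p ^ f) D.e r → r ∣ Nat.card B →
      Big S r M 9 ∧ r ∣ Nat.card S ∧ ¬ r ∣ S.index ∧ S.index ∣ 9 * M :=
    fun r h hrB => hS' r M 9 ⟨h, hrB, rfl, rfl⟩
  have hSs' : IsSimpleGroup S := hSs
  have hFS : FU D.e p f ∣ Nat.card S := by
    have h1 := hFB
    rw [← S.index_mul_card] at h1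
    refine Nat.Coprime.dvd_of_dvd_mul_left ?_ h1
    by_contra hcon
    obtain ⟨r, hr, h3, h4⟩ := Nat.Prime.not_coprime_iff_dvd.1 hcon
    exact (hall r (FU_prim hp2 he7 hf hr h3) (h3.trans hFB)).2.2.1 h4
  have hsS : s ∣ Nat.card S := by
    have h1 := hsB
    rw [← S.card_mul_index] at h1
    rcases hs.prime.dvd_mul.1 h1 with h | h
    · exact h
    · exact absurd (h.trans (hall r₀ hp₀ hr₀B).2.2.2) hsM
  have hdS : Nat.card S ∣ OL D.Y (p ^ f) :=
    ((Subgroup.card_subgroup_dvd_card S).trans (Subgroup.card_subgroup_dvd_card B)).trans hdT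
  refine ⟨S, hSn, hSs, hFS, ⟨s, hs, hsS⟩, fun r h hrB => (hall r h hrB).2.1, ?_⟩
  exact name4 (M := M) tb hDe hD hR hS (by omega) hp hf hq hSna (hcfsg S)
    ((hrep.sub B.subtype B.subtype_injective).sub S.subtype S.subtype_injective) hdS hFS ⟨s, hs, hsS⟩
    fun r h hrS => (hall r h (hrS.trans (Subgroup.card_subgroup_dvd_card S))).1

end Cfsg.Agent.H72.Rg2
end

-- part: H72/Rg2/K4
section
/-!
# S3691, `E₆(q)`, `²E₆(q)`, `q ≥ 3`: the subgroups containing a full class and one prime of another class (helper72)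

* `te6_k4` : class 18 and a prime of the class 10;
* `e6_k4` : class 9 and a prime of the class 5.
-/

set_option autoImplicit false

namespace Cfsg.Agent.H72.Rg2

open Cfsg Cfsg.Agent.OrdDiv Cfsg.Agent.H436 Cfsg.Agent.H902 Cfsg.Agent.H290.ElReg Cfsg.Agent.H290.ElTab
  Cfsg.Agent.H56.Exc Cfsg.Agent.H325.Loc Cfsg.Agent.H915.GN Cfsg.Agent.H264.FKS Cfsg.Agent.H325.Same
  Cfsg.Agent.H325.IsoExc Cfsg.Agent.H563.KG Cfsg.Agent.H73.Rg Cfsg.Agent.H72.Same

theorem charP_of {F : Type} [Field F] [Fintype F] {p k : ℕ} (hp : p.Prime) (hF : Fintype.card F = p ^ k) : CharP F p := by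
  obtain ⟨ℓ, hchar⟩ := CharP.exists F
  have hl : Fact ℓ.Prime := ⟨CharP.char_is_prime F ℓ⟩
  obtain ⟨m, hm, hcard⟩ := FiniteField.card F ℓ
  rw [hF] at hcard
  have h1 : ℓ ∣ p ^ k := by rw [hcard]; exact dvd_pow_self ℓ m.ne_zero
  have h3 : ℓ = p := (Nat.prime_dvd_prime_iff_eq hm hp).1 (hm.dvd_of_dvd_pow h1)
  subst h3
  exact hchar

/-- **`²E₆(q)`, class 18 and a prime of class 10.** -/
theorem te6_k4 (tb : OrderTable.{0}) (hcyc : CycFixSolv.{0}) (hcf : CF) {F : Type} [Field F] [Fintype F] {p f : ℕ}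
    (hp : p.Prime) (hf : 1 ≤ f) (hK : Fintype.card F = (p ^ f) ^ 2) (h3 : 3 ≤ p ^ f)
    (hPP : PP p (f * 18) ∣ Nat.card ↥(Lie.twistedE6 F (p ^ f)))
    (B : Subgroup ↥(Lie.twistedE6 F (p ^ f))) (hB : ∀ r, Prim (p ^ f) 18 r → f < r → ¬ r ∣ B.index)
    (hex : ∃ s, Prim p (f * 10) s ∧ s ∣ Nat.card B) : B = ⊤ := by
  have hq : IsPrimePow (p ^ f) := hp.isPrimePow.pow (by omega)
  have hcp : CharP F p := charP_of hp (k := f * 2) (by rw [hK, ← pow_mul])
  have := Fact.mk hp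
  have hfin : Finite ↥(Lie.twistedE6 F (p ^ f)) := inferInstance
  have hT := named_te6 (F := F) tb hq hK
  have hq2 : 2 ≤ p ^ f := by omega
  have hq1 : 1 ≤ p ^ f := by omega
  have hOL : num (.te6 (p ^ f)) = OL .TE6 (p ^ f) := rfl
  have hdT : Nat.card ↥(Lie.twistedE6 F (p ^ f)) ∣ OL .TE6 (p ^ f) := by
    rw [← hOL, ← hT.eq]
    exact Dvd.intro_left _ rfl
  have hm18 : ((Ph 18 (p ^ f) : ℕ) : ℤ) = 1 - ((p ^ f : ℕ) : ℤ) ^ 3 + ((p ^ f : ℕ) : ℤ) ^ 6 := by
    rw [cast_Ph18 _ hq1]; ring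
  have ho18 : Ord ↥(Lie.twistedE6 F (p ^ f)) (p ^ f) 18 (ncl 18 (p ^ f)) := by
    intro r hr x hx
    rw [← ncl18_eq hq1]
    exact (Cfsg.Agent.H190.Exc.te6_18 hq hK hr).2 x hx
  have hFT : FU 18 p f ∣ Nat.card ↥(Lie.twistedE6 F (p ^ f)) := by
    unfold FU
    rw [if_neg (by norm_num)]
    exact hPP
  obtain ⟨S, hSn, hSs, hFS, hexS, hall, g, hg, hch⟩ := core4 (D := DT) (n := 78) tb hcyc hcf (Or.inr rfl) okT chkR4_T
    chkS4_T le_rfl (by decide) (by decide) hp hf h3 (F := F) (fth_TE6 _) hdT (M := Ph 18 (p ^ f))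
    (fun r hr => big_TE6_18 hq hK hm18 hr) (Ph_dvd c18 hq1) ho18 (fun r hr => piso_twE6 hq hK (Or.inr rfl) hr) hFT hB hex
  have hdS : Nat.card S ∣ num (.te6 (p ^ f)) := IsNamed.card_dvd hT S
  have h18 : H1 p f 18 (Nat.card S) := by
    have hp2 := hp.two_le
    obtain ⟨s, hs⟩ := exists_prim (q := p) (e := f * 18) hp2 (by omega) (by omega)
    refine ⟨s, hs, (dvd_PP hp2 (by omega) hs).trans ?_⟩
    have h1 : FU 18 p f = PP p (f * 18) := by
      unfold FU
      rw [if_neg (by norm_num)]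
    rw [← h1]
    exact hFS
  obtain rfl := charp_te6_1018 hp hf hg.cond hch hg.eq hdS hexS h18
  exact eq_top_of_name hT hg

/-- **`E_6(q)`, one prime of class 5 and the large primes of class 9 (order of `q`).** -/
theorem e6_59' {g : Grp} {c p f : ℕ} (hp : p.Prime) (hf : 1 ≤ f) (hg : Cond g) (hch : HasChar p g)
    (hc : den g * c = num g) (hdvd : c ∣ num (.e6 (p ^ f))) (hs1 : H1 p f 5 c)
    (hs2 : ∀ s, Prim (p ^ f) 9 s → f < s → s ∣ c) : g = .e6 (p ^ f) := by
  obtain ⟨f₁, hf₁, hfl, hK, hY⟩ := kd_all hp hg hch hc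
  have hs2' : H1 p f 9 c := by
    obtain ⟨s, hs⟩ := exists_prim (q := p) (e := f * 9) hp.two_le (by omega) (by omega)
    refine ⟨s, hs, hs2 s (prim_q hf hs) ?_⟩
    have h3 := Cfsg.Agent.H73.Rg.mod_of_prim' hp.two_le hs
    have h4 := Nat.le_of_dvd (by have := hs.prime.two_le; omega) h3
    omega
  obtain ⟨i, hi, hei, hfM, h2, h1, h3, hYc⟩ := compPo hp hf hf₁ hK hY (td_e6 hp hf hdvd)
    (by norm_num) (by norm_num) hs1 hs2'
  rcases elimP_e6_5_9 hg hch hi hei h2 h1 h3 hYc with ⟨rfl, q, rfl⟩ | ⟨rfl, q, rfl⟩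
  · exfalso
    obtain rfl : q = p ^ f₁ := hfl
    have h5 : f₁ * 18 = f * 9 := hfM
    have h6 : f = 2 * f₁ := by omega
    have hq₁ : 2 ≤ p ^ f₁ := hp.two_le.trans (Nat.le_self_pow (by omega) _)
    obtain ⟨s, hs0⟩ := exists_prim (q := p) (e := f₁ * 9) hp.two_le (by omega) (by omega)
    have hs := prim_q hf₁ hs0
    have hlt : f < s := by
      have h3 := Cfsg.Agent.H73.Rg.mod_of_prim' hp.two_le hs0
      have h4 := Nat.le_of_dvd (by have := hs0.prime.two_le; omega) h3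
      omega
    have hs' : Prim (p ^ f) 9 s := by
      have := Cfsg.Agent.H425.Chr.prim_quot (f := 2) (by norm_num) hs
      rw [← pow_mul, mul_comm f₁ 2, ← h6] at this
      exact this
    have h8 : s ∣ num (.te6 (p ^ f₁)) := by
      rw [← hc]
      exact (hs2 s hs' hlt).mul_left _
    exact not_dvd_te6 hs h8
  · obtain rfl : q = p ^ f₁ := hfl
    rw [same_fld (M := 12) (by norm_num) hfM]

/-- **`E₆(q)`, class 9 and a prime of class 5.** -/
theorem e6_k4 (tb : OrderTable.{0}) (hcyc : CycFixSolv.{0}) (hcf : CF) {F : Type} [Field F] [Fintype F] {p f : ℕ}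
    (hp : p.Prime) (hf : 1 ≤ f) (hq : Fintype.card F = p ^ f) (h3 : 3 ≤ p ^ f)
    (hPP : PP p (f * 9) ∣ Nat.card ↥(Lie.chevE6.group F))
    (B : Subgroup ↥(Lie.chevE6.group F)) (hB : ∀ r, Prim (p ^ f) 9 r → f < r → ¬ r ∣ B.index)
    (hex : ∃ s, Prim p (f * 5) s ∧ s ∣ Nat.card B) : B = ⊤ := by
  have hcp : CharP F p := charP_of hp hq
  have := Fact.mk hp
  have hfin : Finite ↥(Lie.chevE6.group F) := inferInstance
  have hT := named_e6 (F := F) tb
  rw [hq] at hT
  have hq2 : 2 ≤ p ^ f := by omega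
  have hq1 : 1 ≤ p ^ f := by omega
  have hOL : num (.e6 (p ^ f)) = OL .E6 (p ^ f) := rfl
  have hdT : Nat.card ↥(Lie.chevE6.group F) ∣ OL .E6 (p ^ f) := by
    rw [← hOL, ← hT.eq]
    exact Dvd.intro_left _ rfl
  have hnum : ncl 9 (p ^ f) ∣ num (.e6 (p ^ f)) := by
    have h1 : Ph 9 (p ^ f) ∣ num (.e6 (p ^ f)) := by
      show _ ∣ (p ^ f) ^ 36 * (((p ^ f) ^ 2 - 1) * ((p ^ f) ^ 5 - 1) * ((p ^ f) ^ 6 - 1) *
        ((p ^ f) ^ 8 - 1) * ((p ^ f) ^ 9 - 1) * ((p ^ f) ^ 12 - 1))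
      exact Dvd.dvd.mul_left ((Ph_dvd c9 hq1).trans ((Dvd.intro_left _ rfl).trans (Dvd.intro _ rfl))) _
    exact (ncl_dvd_Ph 9 _).trans h1
  have hnT : ncl 9 (p ^ f) ∣ Nat.card ↥(Lie.chevE6.group F) :=
    ncl_dvd_card c9 (by norm_num) hq2 (den_pos hT.cond)
      ((Nat.gcd_le_left _ (by norm_num)).trans (by norm_num)) hT.eq hnum
  have hm9 : ((Ph 9 (p ^ f) : ℕ) : ℤ) = 1 + ((p ^ f : ℕ) : ℤ) ^ 3 + ((p ^ f : ℕ) : ℤ) ^ 6 := by
    rw [cast_Ph9]; ring
  have ho9 : Ord ↥(Lie.chevE6.group F) (p ^ f) 9 (ncl 9 (p ^ f)) := by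
    intro r hr x hx
    rw [← ncl9_eq hq1]
    exact (Cfsg.Agent.H190.Exc.e6_9 hq hr).2 x hx
  have hFT : FU 9 p f ∣ Nat.card ↥(Lie.chevE6.group F) := by
    unfold FU
    split
    · rename_i h1
      obtain ⟨-, rfl, rfl⟩ := h1
      have h2 : ncl 9 (2 ^ 2) = 1387 := by decide +kernel
      rw [← h2]
      exact hnT
    · exact hPP
  obtain ⟨S, hSn, hSs, hFS, hexS, hall, g, hg, hch⟩ := core4 (D := DE) (n := 78) tb hcyc hcf (Or.inl rfl) okE chkR4_E
    chkS4_E le_rfl (by decide) (by decide) hp hf h3 (F := F) fth_E6 hdT (M := Ph 9 (p ^ f))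
    (fun r hr => big_E6_9 hq hm9 hr) (Ph_dvd c9 hq1) ho9
    (fun r hr => piso_E6 (F := F) (by rw [hq]; exact hr)) hFT hB hex
  have hdS : Nat.card S ∣ num (.e6 (p ^ f)) := IsNamed.card_dvd hT S
  obtain rfl := e6_59' hp hf hg.cond hch hg.eq hdS hexS fun s hs hfs => by
    refine hall s hs ?_
    have h1 : s ∣ Nat.card ↥(Lie.chevE6.group F) := (dvd_ncl c9 hq1 hs).trans hnT
    rw [← B.card_mul_index] at h1
    exact (hs.prime.dvd_mul.1 h1).resolve_right (hB s hs hfs)
  exact eq_top_of_name hT hg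

end Cfsg.Agent.H72.Rg2
end

-- part: H72/Rg2/K4Out
section
/-!
# S3691, `E₆(q)`, `²E₆(q)`, `q ≥ 3`: the facts `k4` (helper72)

* `facts_te6_k4`, `facts_e6_k4` : the fields `k4` of `FactsTE6`, `FactsE6` (H851/Rg/ESix).
-/

set_option autoImplicit false

namespace Cfsg.Agent.H72.Rg2

open Cfsg Cfsg.Lie Cfsg.Agent.OrdDiv Cfsg.Agent.H436 Cfsg.Agent.H902 Cfsg.Agent.H290.ElReg Cfsg.Agent.H290.ElTab
  Cfsg.Agent.H56.Exc Cfsg.Agent.H563.KG Cfsg.Agent.H73.Rg Cfsg.Agent.H813.Rg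

/-- a large primitive prime does not divide `2 d f`, `d ∣ 3` -/
theorem not_dvd_big {q e f r g : ℕ} (hq : 2 ≤ q) (he : 7 ≤ e) (hf : 1 ≤ f) (hr : Prim q e r) (hfr : f < r) (hg : g ∣ 3) :
    ¬ r ∣ 2 * g * f := by
  intro h
  have h1 := Cfsg.Agent.H563.KG.lt_of_prim hq (by omega) hr
  rcases hr.prime.dvd_mul.1 h with h2 | h2
  · have h3 : r ∣ 2 * 3 := h2.trans (Nat.mul_dvd_mul_left 2 hg)
    have := Nat.le_of_dvd (by norm_num) h3
    omega
  · have := Nat.le_of_dvd (by omega) h2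
    omega

/-- **`²E₆(q)`, the field `k4` of `FactsTE6`** -/
theorem facts_te6_k4 (tb : OrderTable.{0}) (hcyc : CycFixSolv.{0}) (hcf : CF) :
    ∀ (F : Type) [Field F] [Fintype F] (p f : ℕ), p.Prime → 1 ≤ f → Fintype.card F = (p ^ f) ^ 2 → 3 ≤ p ^ f →
    ∀ B : Subgroup ↥(twistedE6 F (p ^ f)),
      (∀ r, Prim (p ^ f) 18 r → ¬ r ∣ Nat.card (Cfsg.Out ↥(twistedE6 F (p ^ f))) → ¬ r ∣ B.index) →
      (∃ s, Prim p (f * 10) s ∧ s ∣ Nat.card B) → B = ⊤ := by
  intro F _ _ p f hp hf hF h3 B hB hex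
  have hcp : CharP F p := charP_of hp (k := f * 2) (by rw [hF, ← pow_mul])
  have := Fact.mk hp
  have hF' : Fintype.card F = p ^ (2 * f) := by rw [hF, ← pow_mul, mul_comm]
  refine te6_k4 tb hcyc hcf hp hf hF h3 (cl_TE6 hp hf hF (c := 18) (Or.inr (Or.inr rfl))).dvd B
    (fun r hr hfr => hB r hr ?_) hex
  rw [Cfsg.Agent.S2130.result p f hF' hf]
  exact not_dvd_big (by omega) (by norm_num) hf hr hfr (Nat.gcd_dvd_left _ _)

/-- **`E₆(q)`, the field `k4` of `FactsE6`** -/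
theorem facts_e6_k4 (tb : OrderTable.{0}) (hcyc : CycFixSolv.{0}) (hcf : CF) :
    ∀ (F : Type) [Field F] [Fintype F] (p f : ℕ), p.Prime → 1 ≤ f → Fintype.card F = p ^ f → 3 ≤ p ^ f →
    ∀ B : Subgroup ↥(chevE6.group F),
      (∀ r, Prim (p ^ f) 9 r → ¬ r ∣ Nat.card (Cfsg.Out ↥(chevE6.group F)) → ¬ r ∣ B.index) →
      (∃ s, Prim p (f * 5) s ∧ s ∣ Nat.card B) → B = ⊤ := by
  intro F _ _ p f hp hf hF h3 B hB hex
  have := Fact.mk hp
  refine e6_k4 tb hcyc hcf hp hf hF h3 (cl_E6 hp hf hF (c := 9) (Or.inr (Or.inl rfl))).dvd B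
    (fun r hr hfr => hB r hr ?_) hex
  rw [H70.OutE.card_out_E6 hF]
  exact not_dvd_big (by omega) (by norm_num) hf hr hfr (Nat.gcd_dvd_left _ _)

end Cfsg.Agent.H72.Rg2
end

-- part: H851/Rg/RowE6
section
/-!
# S3691: the row `E₆(q)` (helper851)

`factsE6` : the facts (helper70, helper72, helper290); `row_e6_of` : the row, from the classification of the simple
groups in `Type`.
-/

set_option autoImplicit false

namespace Cfsg.Agent.H851.Rg

open Cfsg Cfsg.Lie Cfsg.Agent.H454.Reg Cfsg.Agent.H73.Rg Cfsg.Agent.H436 Cfsg.Agent.H563.KG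
open Cfsg.Agent.OrdDiv (OrderTable)
open Cfsg.Agent.H290.Rg.KH6 (GoodB big6 ord6 k98 k912 k812)

universe u

section

variable {F : Type} [Field F] [Fintype F] {p f : ℕ}

theorem charP_e6 (hp : p.Prime) (hq : Fintype.card F = p ^ f) : CharP F p := by
  obtain ⟨p', f', hc, hp', hf', h⟩ := exists_pf F
  rw [hq] at h
  have h1 : p' = p := by
    have h2 : p' ∣ p ^ f := by rw [h]; exact dvd_pow_self _ (by omega)
    exact (Nat.prime_dvd_prime_iff_eq hp' hp).1 (hp'.dvd_of_dvd_pow h2)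
  rwa [← h1]

/-- the order -/
theorem card_e6_dvd (tb : OrderTable.{0}) (hq : Fintype.card F = p ^ f) :
    Nat.card ↥(Lie.chevE6.group F) ∣ OL .E6 (p ^ f) := by
  have hT := named_e6 (F := F) tb
  rw [hq] at hT
  have hOL : num (.e6 (p ^ f)) = OL .E6 (p ^ f) := rfl
  rw [← hOL, ← hT.eq]
  exact Dvd.intro_left _ rfl

theorem ordE9 (hp : p.Prime) (hq : Fintype.card F = p ^ f) : Ord ↥(Lie.chevE6.group F) (p ^ f) 9 (ncl 9 (p ^ f)) := by
  intro r hr x hx
  rw [← ncl9_eq (Nat.one_le_pow _ _ hp.pos)]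
  exact (Cfsg.Agent.H190.Exc.e6_9 hq hr).2 x hx

theorem good912 (tb : OrderTable.{0}) (hp : p.Prime) (hf : 1 ≤ f) (hq : Fintype.card F = p ^ f) (hq3 : 3 ≤ p ^ f)
    {B : Subgroup ↥(Lie.chevE6.group F)} (h : HOff p f [9, 12] B) : GoodB p f 9 12 B := by
  intro t ht htp hn hn' htB
  have := charP_e6 hp hq
  have hfin : Finite ↥(Lie.chevE6.group F) := inferInstance
  exact Cfsg.Agent.H70.Rg.good_e6_9_12 hp hf hq3 ((ordE9 hp hq).sub B) ((ord6 (c := 12) hp hq (Or.inr (Or.inr rfl))).sub B)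
    ((Subgroup.card_subgroup_dvd_card B).trans (card_e6_dvd tb hq)) (h 9 (by simp)).half (h 12 (by simp)).half ht hn hn'

theorem good98 (tb : OrderTable.{0}) (hp : p.Prime) (hf : 1 ≤ f) (hq : Fintype.card F = p ^ f) (hq3 : 3 ≤ p ^ f)
    {B : Subgroup ↥(Lie.chevE6.group F)} (h : HOff p f [9, 8] B) : GoodB p f 9 8 B := by
  intro t ht htp hn hn' htB
  have := charP_e6 hp hq
  have hfin : Finite ↥(Lie.chevE6.group F) := inferInstance
  exact Cfsg.Agent.H70.Rg.good_e6_9_8 hp hf hq3 ((ordE9 hp hq).sub B) ((ord6 (c := 8) hp hq (Or.inl rfl)).sub B)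
    ((Subgroup.card_subgroup_dvd_card B).trans (card_e6_dvd tb hq)) (h 9 (by simp)).half (h 8 (by simp)).half ht hn hn'

theorem good812 (tb : OrderTable.{0}) (hp : p.Prime) (hf : 1 ≤ f) (hq : Fintype.card F = p ^ f) (hq3 : 3 ≤ p ^ f)
    {B : Subgroup ↥(Lie.chevE6.group F)} (h : HOff p f [8, 12] B) : GoodB p f 8 12 B := by
  intro t ht htp hn hn' htB
  have := charP_e6 hp hq
  have hfin : Finite ↥(Lie.chevE6.group F) := inferInstance
  refine Cfsg.Agent.H70.Rg.good_e6_8_12 hp hf hq3 ((ord6 (c := 8) hp hq (Or.inl rfl)).sub B) ?_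
    ((ord6 (c := 12) hp hq (Or.inr (Or.inr rfl))).sub B) ?_ ((Subgroup.card_subgroup_dvd_card B).trans (card_e6_dvd tb hq))
    (h 8 (by simp)).half (h 12 (by simp)).half ht htp hn hn' htB
  · intro r hr x hx
    exact ((big6 (c := 8) hp hq (Or.inl rfl) hr).subgroup B).cyc x hx
  · intro h3 r hr x hx h
    exact (Cfsg.Agent.H190.Odd.exact_e6_12 hq h3 hr (x := (x : ↥(Lie.chevE6.group F)))
      (by rw [Subgroup.orderOf_coe]; exact hx)).2 (h.trans (Cfsg.Agent.H190.Odd.card_centralizer_sub B x))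

end

/-- **the facts on `E₆(q)`** -/
theorem factsE6 (hcf : CF) : FactsE6 where
  k1 := fun F _ _ p f hp hf hq hq3 B h => by
    have := charP_e6 hp hq
    exact k912 Cfsg.Agent.OrdDiv.table cycFixSolv hcf hp hf hq hq3 B h (good912 Cfsg.Agent.OrdDiv.table hp hf hq hq3 h)
  k2 := fun F _ _ p f hp hf hq hq3 B h => by
    have := charP_e6 hp hq
    exact k98 Cfsg.Agent.OrdDiv.table cycFixSolv hcf hp hf hq hq3 B h (good98 Cfsg.Agent.OrdDiv.table hp hf hq hq3 h)
  k3 := fun F _ _ p f hp hf hq hq3 B hne h => by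
    have := charP_e6 hp hq
    exact k812 Cfsg.Agent.OrdDiv.table cycFixSolv hcf hp hf hq hq3 B h (good812 Cfsg.Agent.OrdDiv.table hp hf hq hq3 h) hne
  k4 := Cfsg.Agent.H72.Rg2.facts_e6_k4 Cfsg.Agent.OrdDiv.table cycFixSolv hcf

/-- **the row `E₆`** -/
theorem row_e6_of (hcf : CF) (F : Type) [Field F] [Fintype F] : Row.{0, u} ↥(chevE6.group F) :=
  row_e6 (factsE6 hcf) F

end Cfsg.Agent.H851.Rg
end
end
end
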